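import Cfsg.Agent.Lib.Chev.G2Degree.Mult

/-!
# Averages over subgroups in a complex representation
-/

set_option autoImplicit false
set_option linter.unusedSectionVars false

namespace Cfsg.Lib.Chev.G2Deg

variable {G : Type*} [Group G] [Finite G] {V : Type*} [AddCommGroup V] [Module ℂ V]
variable (σ : G →* Module.End ℂ V)

/-- The average over a subgroup. -/
noncomputable def avg (H : Subgroup G) : Module.End ℂ V :=
  letI := Fintype.ofFinite ↥H
  (Fintype.card ↥H : ℂ)⁻¹ • ∑ h : ↥H, σ (h : G)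

/-- A map onto the fixed space fixes what is fixed by generators. -/
theorem fix_closure {S : Set G} {X : Module.End ℂ V} (h : ∀ s ∈ S, σ s * X = X) :
    ∀ u ∈ Subgroup.closure S, σ u * X = X := by
  intro u hu
  refine Subgroup.closure_induction (p := fun u _ => σ u * X = X) h (by rw [map_one, one_mul])
    (fun a b _ _ ha hb => by rw [map_mul, mul_assoc, hb, ha]) (fun a _ ha => ?_) hu
  conv_lhs => rw [← ha]
  rw [← mul_assoc, ← map_mul, inv_mul_cancel, map_one, one_mul]

theorem fix_closure_right {S : Set G} {X : Module.End ℂ V} (h : ∀ s ∈ S, X * σ s = X) :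
    ∀ u ∈ Subgroup.closure S, X * σ u = X := by
  intro u hu
  refine Subgroup.closure_induction (p := fun u _ => X * σ u = X) h (by rw [map_one, mul_one])
    (fun a b _ _ ha hb => by rw [map_mul, ← mul_assoc, ha, hb]) (fun a _ ha => ?_) hu
  conv_lhs => rw [← ha]
  rw [mul_assoc, ← map_mul, mul_inv_cancel, map_one, mul_one]

variable {σ} {H L : Subgroup G}

theorem mul_avg {u : G} (hu : u ∈ H) : σ u * avg σ H = avg σ H := by
  letI := Fintype.ofFinite ↥H
  rw [avg, mul_smul_comm, Finset.mul_sum]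
  congr 1
  exact Fintype.sum_equiv (Equiv.mulLeft ⟨u, hu⟩) _ _ fun h => by simp

theorem avg_mul {u : G} (hu : u ∈ H) : avg σ H * σ u = avg σ H := by
  letI := Fintype.ofFinite ↥H
  rw [avg, smul_mul_assoc, Finset.sum_mul]
  congr 1
  exact Fintype.sum_equiv (Equiv.mulRight ⟨u, hu⟩) _ _ fun h => by simp

theorem avg_of_fix {X : Module.End ℂ V} (h : ∀ u ∈ H, σ u * X = X) : avg σ H * X = X := by
  letI := Fintype.ofFinite ↥H
  rw [avg, smul_mul_assoc, Finset.sum_mul, Finset.sum_congr rfl fun (u : ↥H) _ => h u u.2, Finset.sum_const,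
    Finset.card_univ, ← Nat.cast_smul_eq_nsmul ℂ, smul_smul,
    inv_mul_cancel₀ (Nat.cast_ne_zero.2 Fintype.card_ne_zero), one_smul]

theorem of_fix_avg {X : Module.End ℂ V} (h : ∀ u ∈ H, X * σ u = X) : X * avg σ H = X := by
  letI := Fintype.ofFinite ↥H
  rw [avg, mul_smul_comm, Finset.mul_sum, Finset.sum_congr rfl fun (u : ↥H) _ => h u u.2, Finset.sum_const,
    Finset.card_univ, ← Nat.cast_smul_eq_nsmul ℂ, smul_smul,
    inv_mul_cancel₀ (Nat.cast_ne_zero.2 Fintype.card_ne_zero), one_smul]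

theorem avg_idem : IsIdempotentElem (avg σ H) := avg_of_fix fun _ hu => mul_avg hu

theorem avg_eq (hHL : H ≤ L) (h : ∀ u ∈ L, σ u * avg σ H = avg σ H) : avg σ L = avg σ H := by
  rw [← of_fix_avg (X := avg σ L) (H := H) fun u hu => avg_mul (hHL hu), avg_of_fix h]

/-- Conjugation of generators gives normalisation. -/
theorem mem_normalizer_closure {S : Set G} {g : G} (h : ∀ s ∈ S, g * s * g⁻¹ ∈ Subgroup.closure S) :
    g ∈ Subgroup.normalizer (Subgroup.closure S : Set G) := by
  have hle : (Subgroup.closure S).map (MulAut.conj g).toMonoidHom ≤ Subgroup.closure S := by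
    rw [MonoidHom.map_closure, Subgroup.closure_le]
    rintro _ ⟨s, hs, rfl⟩
    exact h s hs
  have hcard : Nat.card ↥((Subgroup.closure S).map (MulAut.conj g).toMonoidHom) = Nat.card ↥(Subgroup.closure S) :=
    Nat.card_congr (Subgroup.equivMapOfInjective _ _ (MulAut.conj g).injective).toEquiv.symm
  have heq := Subgroup.eq_of_le_of_card_ge hle hcard.ge
  rw [Subgroup.mem_normalizer_iff]
  intro u
  conv_rhs => rw [← heq]
  rw [Subgroup.mem_map_equiv]
  simp [mul_assoc]

theorem avg_comm {g : G} (hg : g ∈ Subgroup.normalizer (H : Set G)) : σ g * avg σ H = avg σ H * σ g := by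
  have h1 : avg σ H * (σ g * avg σ H) = σ g * avg σ H := avg_of_fix fun u hu => by
    have hu' : g⁻¹ * u * g ∈ H := (Subgroup.mem_normalizer_iff''.1 hg u).1 hu
    rw [← mul_assoc, ← map_mul, show u * g = g * (g⁻¹ * u * g) by group, map_mul, mul_assoc, mul_avg hu']
  have h2 : avg σ H * σ g * avg σ H = avg σ H * σ g := of_fix_avg fun u hu => by
    have hu' : g * u * g⁻¹ ∈ H := (Subgroup.mem_normalizer_iff.1 hg u).1 hu
    rw [mul_assoc, ← map_mul, show g * u = g * u * g⁻¹ * g by group, map_mul, ← mul_assoc, avg_mul hu']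
  rw [← h1, ← mul_assoc, h2]

theorem fix_avg_mul {K : Subgroup G} {X : Module.End ℂ V} (hH : ∀ h ∈ H, h ∈ Subgroup.normalizer (K : Set G))
    (hX : ∀ u ∈ K, σ u * X = X) {u : G} (hu : u ∈ K) : σ u * (avg σ H * X) = avg σ H * X := by
  letI := Fintype.ofFinite ↥H
  rw [avg, smul_mul_assoc, mul_smul_comm, Finset.sum_mul, Finset.mul_sum]
  congr 1
  refine Finset.sum_congr rfl fun h _ => ?_
  have hu' : (h : G)⁻¹ * u * h ∈ K := (Subgroup.mem_normalizer_iff''.1 (hH h h.2) u).1 hu
  rw [← mul_assoc, ← map_mul, show u * (h : G) = h * ((h : G)⁻¹ * u * h) by group, map_mul, mul_assoc,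
    hX _ hu']

end Cfsg.Lib.Chev.G2Deg
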