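import Cfsg.Agent.Lib.Chev.Card

/-! A sum over a Chevalley group, cell by cell. -/

set_option autoImplicit false

namespace Cfsg.Lib.Chev

open Cfsg.Lie

variable {D : ChevalleyDatum} {T : Tbl} {F : Type*} [Field F] (C : Cert D T) (K : FullCert D T)
include C K

theorem sum_cells [Finite F] {Ls : List WLevel} (hW : chkWeyl T Ls = true) [Fintype ↥(D.group F)]
    [Fintype ↥(D.borelSubgroup F)] [∀ w, Fintype ↥(signPart C K F w true (D.nroots / 2))]
    {M : Type*} [AddCommMonoid M] (φ : GL D.Idx F → M) :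
    ∑ g : ↥(D.group F), φ g = ∑ a : Fin (allW (nth ([], []) Ls) D.rank).length,
      ∑ b : ↥(D.borelSubgroup F), ∑ c : ↥(signPart C K F (allW (nth ([], []) Ls) D.rank)[a] true (D.nroots / 2)),
        φ ((b : GL D.Idx F) * wnu C F (allW (nth ([], []) Ls) D.rank)[a] * c) := by
  classical
  have hev := nroots_even C
  let W := allW (nth ([], []) Ls) D.rank
  have hWw : ∀ a : Fin W.length, IsWord D W[a] := fun a =>
    (allW_below C K hW _ le_rfl _ (List.getElem_mem a.2)).isWord le_rfl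
  let f : (Σ a : Fin W.length, ↥(D.borelSubgroup F) × ↥(signPart C K F W[a] true (D.nroots / 2))) → ↥(D.group F) :=
    fun p => ⟨(p.2.1 : GL D.Idx F) * wnu C F W[p.1] * p.2.2,
      mul_mem (mul_mem (borel_le_group C p.2.1.2) (wnu_mem_group C (hWw p.1)))
        (borel_le_group C (signPart_le_borel C K _ _ p.2.2.2))⟩
  have hf : Function.Bijective f := by
    refine ⟨?_, ?_⟩
    · rintro ⟨a, b, u⟩ ⟨a', b', u'⟩ e
      have e' : (b : GL D.Idx F) * wnu C F W[a] * u = b' * wnu C F W[a'] * u' := congrArg Subtype.val e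
      have hsame := cells_disjoint C K b.2 b'.2 (wnu_mem C (hWw a)) (wnu_mem C (hWw a'))
        (signPart_le_borel C K _ _ u.2) (signPart_le_borel C K _ _ u'.2) e'
      have hperm : SamePerm D T W[a] W[a'] := fun s hs => perm_of_same C (hWw a) (hWw a') hsame hs
      obtain rfl : a = a' := by
        by_contra hne
        have hpw := List.pairwise_iff_getElem.1 (allW_pairwise C K hW _ le_rfl)
        rcases Nat.lt_or_gt_of_ne (fun h => hne (Fin.ext h)) with hlt | hlt
        · exact hpw _ _ a.2 a'.2 hlt hperm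
        · exact hpw _ _ a'.2 a.2 hlt hperm.symm
      obtain ⟨h1, h2⟩ := cell_unique C b.2 b'.2
        ((signPart_conj C K (hWw a) (k := D.nroots / 2)).1 (mul_mem u'.2 (inv_mem u.2))) e'
      rw [Subtype.ext h1, Subtype.ext h2]
    · intro g
      obtain ⟨w, hw, b, hb, c, hc, e⟩ := bruhat_normal C K g.2
      obtain ⟨v, hv, hperm⟩ := allW_complete C K hW _ le_rfl w hw
      obtain ⟨a, ha, rfl⟩ := List.getElem_of_mem hv
      have hvw : IsWord D W[a] := hWw ⟨a, ha⟩
      have hd : (wnu C F W[a])⁻¹ * wnu C F w ∈ D.diagonalSubgroup F :=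
        same_of_perm C K hvw hw fun k hk => hperm _ (C.spec.simp_lt k hk)
      have hd' : wnu C F W[a] * ((wnu C F W[a])⁻¹ * wnu C F w) * (wnu C F W[a])⁻¹ ∈ D.borelSubgroup F :=
        Subgroup.mem_sup_right (conj_mem_diag C (wnu_mem C hvw) hd).1
      refine ⟨⟨⟨a, ha⟩, ⟨_, mul_mem hb hd'⟩, ⟨c, (signPart_congr C K hperm true _).ge hc⟩⟩, Subtype.ext ?_⟩
      show b * (wnu C F W[a] * ((wnu C F W[a])⁻¹ * wnu C F w) * (wnu C F W[a])⁻¹) * wnu C F W[a] * c = _
      rw [e]; group
  rw [← hf.sum_comp fun g : ↥(D.group F) => φ g, Fintype.sum_sigma]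
  exact Finset.sum_congr rfl fun a _ => Fintype.sum_prod_type _

end Cfsg.Lib.Chev
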