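import Cfsg.Agent.Lib.Chev.G2Degree.Elts

/-!
# The centraliser of a torus element of order three with a three dimensional eigenspace

Six long root groups act on the eigenspace as transvections, so the centraliser is transitive on its non-zero
vectors.
-/

set_option autoImplicit false
set_option maxRecDepth 100000
set_option linter.unusedSectionVars false

namespace Cfsg.Lib.Chev.G2Deg

open Cfsg.Lie
open scoped Matrix

variable {K : Type*} [Field K]

/-- The basis vector of a root. -/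
def bv (i : ℕ) (h : i < 12) : chevG2.Idx → K := Pi.single (Sum.inr ⟨i, h⟩) 1

/-- A vector of the eigenspace. -/
def emb (p : K × K × K) : chevG2.Idx → K :=
  p.1 • bv 3 (by norm_num) + p.2.1 • bv 4 (by norm_num) + p.2.2 • bv 9 (by norm_num)

theorem emb_apply (p : K × K × K) (j : chevG2.Idx) : emb p j =
    (if j = Sum.inr ⟨3, by decide⟩ then p.1 else 0) + (if j = Sum.inr ⟨4, by decide⟩ then p.2.1 else 0) +
      (if j = Sum.inr ⟨9, by decide⟩ then p.2.2 else 0) := by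
  simp [emb, bv, Pi.single_apply]

theorem emb_injective : Function.Injective (emb (K := K)) := by
  rintro ⟨a, b, c⟩ ⟨a', b', c'⟩ h
  have h3 := congrFun h (Sum.inr ⟨3, by decide⟩)
  have h4 := congrFun h (Sum.inr ⟨4, by decide⟩)
  have h9 := congrFun h (Sum.inr ⟨9, by decide⟩)
  simp [emb_apply] at h3 h4 h9
  simp [h3, h4, h9]

/-- The action of a root element on a basis vector. -/
theorem x_bv {r s : ℕ} (hr : r < 12) (hs : s < 12) (h1 : s ≠ r) (h2 : s ≠ tblG2.neg r) (t : K) :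
    ((x r t : ↥(chevG2.group K)) : GL chevG2.Idx K).1 *ᵥ bv s hs =
      (bv s hs : chevG2.Idx → K) +
        Sum.elim (fun _ => (0 : K)) (fun w : Fin chevG2.nroots => chainVal (tblG2.entry r s) 0 t (w : ℕ)) := by
  funext j
  rw [bv, Matrix.mulVec_single_one, coe_x, coe_xg]
  rcases j with i | w
  · simp [Matrix.col, Pi.single_apply, x_inl_inr certG2.spec (show r < chevG2.nroots from hr) t i ⟨s, hs⟩, h2]
  · simp [Matrix.col, Pi.single_apply, x_inr_inr certG2.spec (show r < chevG2.nroots from hr) t w ⟨s, hs⟩, h1, h2,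
      Fin.ext_iff]

theorem x_bv_fix {r s : ℕ} (h : r < 12 ∧ s < 12 ∧ s ≠ r ∧ s ≠ tblG2.neg r ∧ tblG2.entry r s = []) (t : K) :
    ((x r t : ↥(chevG2.group K)) : GL chevG2.Idx K).1 *ᵥ bv s h.2.1 = bv s h.2.1 := by
  obtain ⟨hr, hs, h1, h2, he⟩ := h
  rw [x_bv hr hs h1 h2]
  simp only [he]
  funext j
  rcases j with i | w <;> simp [chainVal]

theorem x_bv_move {r s u : ℕ}
    (h : r < 12 ∧ s < 12 ∧ u < 12 ∧ s ≠ r ∧ s ≠ tblG2.neg r ∧ tblG2.entry r s = [(u, -1)]) (t : K) :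
    ((x r t : ↥(chevG2.group K)) : GL chevG2.Idx K).1 *ᵥ bv s h.2.1 = bv s h.2.1 + (-t) • bv u h.2.2.1 := by
  obtain ⟨hr, hs, hu, h1, h2, he⟩ := h
  rw [x_bv hr hs h1 h2]
  simp only [he]
  funext j
  rcases j with i | w
  · simp [bv, Pi.single_apply]
  · simp [chainVal, bv, Pi.single_apply, Fin.ext_iff, eq_comm]
    split_ifs <;> simp

theorem emb_mulVec (g : GL chevG2.Idx K) (p : K × K × K) : g.1 *ᵥ emb p =
    p.1 • (g.1 *ᵥ bv 3 (by norm_num)) + p.2.1 • (g.1 *ᵥ bv 4 (by norm_num)) +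
      p.2.2 • (g.1 *ᵥ bv 9 (by norm_num)) := by
  simp [emb, Matrix.mulVec_add, Matrix.mulVec_smul]

theorem moves (a b c t : K) :
    ((x 6 t : ↥(chevG2.group K)) : GL chevG2.Idx K).1 *ᵥ emb (a, b, c) = emb (a, b - t * a, c) ∧
    ((x 11 t : ↥(chevG2.group K)) : GL chevG2.Idx K).1 *ᵥ emb (a, b, c) = emb (a, b, c - t * a) ∧
    ((x 5 t : ↥(chevG2.group K)) : GL chevG2.Idx K).1 *ᵥ emb (a, b, c) = emb (a - t * b, b, c) ∧
    ((x 10 t : ↥(chevG2.group K)) : GL chevG2.Idx K).1 *ᵥ emb (a, b, c) = emb (a, b, c - t * b) ∧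
    ((x 0 t : ↥(chevG2.group K)) : GL chevG2.Idx K).1 *ᵥ emb (a, b, c) = emb (a - t * c, b, c) ∧
    ((x 1 t : ↥(chevG2.group K)) : GL chevG2.Idx K).1 *ᵥ emb (a, b, c) = emb (a, b - t * c, c) := by
  refine ⟨?_, ?_, ?_, ?_, ?_, ?_⟩ <;> rw [emb_mulVec]
  · rw [x_bv_move (u := 4) (by decide +kernel), x_bv_fix (s := 4) (by decide +kernel),
      x_bv_fix (s := 9) (by decide +kernel)]
    simp only [emb]; module
  · rw [x_bv_move (u := 9) (by decide +kernel), x_bv_fix (s := 4) (by decide +kernel),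
      x_bv_fix (s := 9) (by decide +kernel)]
    simp only [emb]; module
  · rw [x_bv_fix (s := 3) (by decide +kernel), x_bv_move (u := 3) (by decide +kernel),
      x_bv_fix (s := 9) (by decide +kernel)]
    simp only [emb]; module
  · rw [x_bv_fix (s := 3) (by decide +kernel), x_bv_move (u := 9) (by decide +kernel),
      x_bv_fix (s := 9) (by decide +kernel)]
    simp only [emb]; module
  · rw [x_bv_fix (s := 3) (by decide +kernel), x_bv_fix (s := 4) (by decide +kernel),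
      x_bv_move (u := 3) (by decide +kernel)]
    simp only [emb]; module
  · rw [x_bv_fix (s := 3) (by decide +kernel), x_bv_fix (s := 4) (by decide +kernel),
      x_bv_move (u := 4) (by decide +kernel)]
    simp only [emb]; module

variable [Fintype K] {u : Kˣ} (hu3 : (u : K) ^ 3 = 1) (hu : (u : K) ≠ 1)
include hu3 hu

theorem long_comm {r : ℕ} (hr : r ∈ [0, 1, 5, 6, 10, 11]) (t : K) :
    x r t ∈ Subgroup.centralizer ({tor u 1} : Set ↥(chevG2.group K)) := by
  rw [Subgroup.mem_centralizer_singleton_iff]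
  have h : ∀ s ∈ [0, 1, 5, 6, 10, 11], s < 12 ∧ tblG2.cartan 0 s % 3 = 0 := by decide +kernel
  obtain ⟨h12, h3⟩ := h r hr
  have e := tor_conj (a := u) (b := 1) (tblG2.cartan 0 r) (tblG2.cartan 1 r) ⟨h12, rfl, rfl⟩ t
  obtain ⟨m, hm⟩ := Int.dvd_of_emod_eq_zero h3
  rw [hm, zpow_mul, show ((u : K) ^ (3 : ℤ)) = 1 by rw [show (3 : ℤ) = (3 : ℕ) from rfl, zpow_natCast, hu3],
    one_zpow, Units.val_one, one_zpow, one_mul, one_mul, mul_inv_eq_iff_eq_mul] at e
  exact e.symm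

omit [Fintype K] hu3 hu in
theorem emb_100 : emb ((1 : K), (0 : K), (0 : K)) = bv 3 (by norm_num) := by simp [emb]

omit [Fintype K] hu3 hu in
theorem emb_of_support {w : chevG2.Idx → K} (h : ∀ j, w j ≠ 0 →
    j = Sum.inr ⟨3, by decide⟩ ∨ j = Sum.inr ⟨4, by decide⟩ ∨ j = Sum.inr ⟨9, by decide⟩) :
    emb (w (Sum.inr ⟨3, by decide⟩), w (Sum.inr ⟨4, by decide⟩), w (Sum.inr ⟨9, by decide⟩)) = w := by
  funext j
  rw [emb_apply]
  by_cases h3 : j = Sum.inr ⟨3, by decide⟩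
  · subst h3; rw [if_pos rfl, if_neg (by decide), if_neg (by decide), add_zero, add_zero]
  by_cases h4 : j = Sum.inr ⟨4, by decide⟩
  · subst h4; rw [if_neg h3, if_pos rfl, if_neg (by decide), add_zero, zero_add]
  by_cases h9 : j = Sum.inr ⟨9, by decide⟩
  · subst h9; rw [if_neg h3, if_neg h4, if_pos rfl, zero_add, zero_add]
  rw [if_neg h3, if_neg h4, if_neg h9, add_zero, add_zero]
  by_contra hj
  rcases h j (Ne.symm hj) with e | e | e
  exacts [h3 e, h4 e, h9 e]

theorem chr_tor (r : ℕ) : chr tblG2 chevG2 (extend' fun i : Fin chevG2.rank => if (i : ℕ) = 0 then u else 1) r =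
    (u : K) ^ tblG2.cartan 0 r := by
  simp [chr, show chevG2.rank = 2 from rfl, Finset.prod_range_succ, extend']

theorem eigen_index {r : ℕ} (hr : r < 12) (h : (u : K) ^ tblG2.cartan 0 r = u) : r = 3 ∨ r = 4 ∨ r = 9 := by
  have htab : ∀ r < 12, r = 3 ∨ r = 4 ∨ r = 9 ∨ tblG2.cartan 0 r % 3 = 0 ∨ tblG2.cartan 0 r % 3 = 2 := by
    decide +kernel
  have hk : ∀ k : ℕ, tblG2.cartan 0 r % 3 = k → (u : K) ^ tblG2.cartan 0 r = (u : K) ^ k := fun k hk => by
    rw [← Int.mul_ediv_add_emod (tblG2.cartan 0 r) 3, hk, zpow_add₀ u.ne_zero, zpow_mul,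
      show ((u : K) ^ (3 : ℤ)) = 1 by rw [show (3 : ℤ) = (3 : ℕ) from rfl, zpow_natCast, hu3],
      one_zpow, one_mul, zpow_natCast]
  rcases htab r hr with e | e | e | e | e
  · exact Or.inl e
  · exact Or.inr (Or.inl e)
  · exact Or.inr (Or.inr e)
  · rw [hk 0 e, pow_zero] at h; exact absurd h.symm hu
  · rw [hk 2 e, sq] at h; exact absurd ((mul_eq_left₀ u.ne_zero).1 h) hu

theorem image_mem (g : ↥(chevG2.group K)) (hg : g * tor u 1 = tor u 1 * g) :
    (g : GL chevG2.Idx K).1 *ᵥ emb ((1 : K), (0 : K), (0 : K)) ∈ emb '' {p : K × K × K | p ≠ 0} := by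
  obtain ⟨d, hd⟩ : ∃ d, d = extend' fun i : Fin chevG2.rank => if (i : ℕ) = 0 then u else (1 : Kˣ) := ⟨_, rfl⟩
  have hm : (g : GL chevG2.Idx K).1 * scal tblG2 chevG2 d = scal tblG2 chevG2 d * (g : GL chevG2.Idx K).1 := by
    have e : ((tor u 1 : ↥(chevG2.group K)) : GL chevG2.Idx K).1 = scal tblG2 chevG2 d := by
      rw [hd, tor]; exact coe_torusHom (D := chevG2) (T := tblG2) _
    rw [← e, ← Units.val_mul, ← Units.val_mul, ← Subgroup.coe_mul, ← Subgroup.coe_mul, hg]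
  rw [emb_100, bv, Matrix.mulVec_single_one]
  obtain ⟨w, hw⟩ : ∃ w : chevG2.Idx → K, w = fun j => (g : GL chevG2.Idx K).1 j (Sum.inr ⟨3, by decide⟩) :=
    ⟨_, rfl⟩
  change (fun j => (g : GL chevG2.Idx K).1 j (Sum.inr ⟨3, by decide⟩)) ∈ _
  rw [← hw]
  have hsupp : ∀ j, w j ≠ 0 →
      j = Sum.inr ⟨3, by decide⟩ ∨ j = Sum.inr ⟨4, by decide⟩ ∨ j = Sum.inr ⟨9, by decide⟩ := by
    intro j hj
    have e := congrFun (congrFun hm j) (Sum.inr ⟨3, by decide⟩)
    rw [scal, Matrix.mul_diagonal, Matrix.diagonal_mul, mul_comm] at e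
    have e2 := mul_right_cancel₀ (by rw [hw] at hj; exact hj) e
    simp only [Sum.elim_inr, hd, chr_tor hu3 hu, show tblG2.cartan 0 3 = 1 by decide +kernel, zpow_one] at e2
    rcases j with i | ⟨r, hr⟩
    · simp only [Sum.elim_inl] at e2; exact absurd e2 hu
    · simp only [Sum.elim_inr, chr_tor hu3 hu] at e2
      rcases eigen_index hu3 hu (show r < 12 from hr) e2.symm with h | h | h <;> subst h
      exacts [Or.inl rfl, Or.inr (Or.inl rfl), Or.inr (Or.inr rfl)]
  refine ⟨_, fun h0 => ?_, emb_of_support hsupp⟩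
  simp only [Prod.mk_eq_zero] at h0
  have hw0 : w = 0 := funext fun j => by
    by_contra hj
    rcases hsupp j hj with e | e | e <;> subst e
    exacts [hj h0.1, hj h0.2.1, hj h0.2.2]
  have hz : ((g : GL chevG2.Idx K)⁻¹).1 *ᵥ ((g : GL chevG2.Idx K).1 *ᵥ
      Pi.single (Sum.inr (⟨3, by decide⟩ : Fin chevG2.nroots)) 1) = 0 := by
    rw [Matrix.mulVec_single_one]
    change _ *ᵥ (fun j => (g : GL chevG2.Idx K).1 j (Sum.inr ⟨3, by decide⟩)) = 0
    rw [← hw, hw0, Matrix.mulVec_zero]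
  rw [Matrix.mulVec_mulVec, Units.inv_mul, Matrix.one_mulVec, Pi.single_eq_zero_iff] at hz
  exact one_ne_zero hz

/-- The centraliser has order divisible by the number of non-zero vectors. -/
theorem dvd_card_centralizer :
    Fintype.card K ^ 3 - 1 ∣ Nat.card ↥(Subgroup.centralizer ({tor u 1} : Set ↥(chevG2.group K))) := by
  classical
  obtain ⟨C, hC⟩ : ∃ C, C = Subgroup.centralizer ({tor u 1} : Set ↥(chevG2.group K)) := ⟨_, rfl⟩
  letI act : MulAction ↥C (chevG2.Idx → K) :=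
    { smul := fun g v => ((g : ↥(chevG2.group K)) : GL chevG2.Idx K).1 *ᵥ v
      one_smul := fun v => Matrix.one_mulVec v
      mul_smul := fun g h v => (Matrix.mulVec_mulVec v _ _).symm }
  have hmem : ∀ r ∈ [0, 1, 5, 6, 10, 11], ∀ t : K, x r t ∈ C := fun r hr t => hC ▸ long_comm hu3 hu hr t
  have hx : ∀ r (hr : r ∈ [0, 1, 5, 6, 10, 11]) (t : K) (v : chevG2.Idx → K),
      ((x r t : ↥(chevG2.group K)) : GL chevG2.Idx K).1 *ᵥ v = (⟨x r t, hmem r hr t⟩ : ↥C) • v :=
    fun r hr t v => rfl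
  obtain ⟨O, hO⟩ : ∃ O, O = MulAction.orbit ↥C (emb ((1 : K), (0 : K), (0 : K))) := ⟨_, rfl⟩
  have step : ∀ r ∈ [0, 1, 5, 6, 10, 11], ∀ (t : K) v, ((x r t : ↥(chevG2.group K)) : GL chevG2.Idx K).1 *ᵥ v ∈ O → v ∈ O := by
    intro r hr t v h
    rw [hx r hr, hO] at h
    obtain ⟨g, hg⟩ := h
    rw [hO]
    exact ⟨(⟨x r t, hmem r hr t⟩ : ↥C)⁻¹ * g, (mul_smul _ g _).trans (by
      rw [show g • emb ((1 : K), (0 : K), (0 : K)) = (⟨x r t, hmem r hr t⟩ : ↥C) • v from hg, inv_smul_smul])⟩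
  have h100 : emb ((1 : K), (0 : K), (0 : K)) ∈ O := hO ▸ MulAction.mem_orbit_self _
  have h1 : ∀ b c : K, emb (1, b, c) ∈ O := fun b c => by
    refine step 11 (by decide) c _ (step 6 (by decide) b _ ?_)
    rw [(moves 1 b c c).2.1, (moves 1 b _ b).1]
    simpa using h100
  have hall : ∀ a b c : K, (a, b, c) ≠ 0 → emb (a, b, c) ∈ O := by
    intro a b c h
    have hb : ∀ a b c : K, b ≠ 0 → emb (a, b, c) ∈ O := fun a b c hb => by
      refine step 5 (by decide) ((a - 1) / b) _ ?_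
      rw [(moves a b c _).2.2.1, div_mul_cancel₀ _ hb, sub_sub_cancel]
      exact h1 b c
    by_cases h2 : b = 0
    · subst h2
      by_cases h9 : c = 0
      · subst h9
        have ha : a ≠ 0 := fun e => h (by simp [e])
        refine step 6 (by decide) (-1 / a) _ ?_
        rw [(moves a 0 0 _).1, div_mul_cancel₀ _ ha]
        exact hb _ _ _ (by simp)
      · refine step 0 (by decide) ((a - 1) / c) _ ?_
        rw [(moves a 0 c _).2.2.2.2.1, div_mul_cancel₀ _ h9, sub_sub_cancel]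
        exact h1 0 c
    · exact hb a b c h2
  have hOeq : O = emb '' {p : K × K × K | p ≠ 0} := by
    refine Set.Subset.antisymm (fun v hv => ?_) ?_
    · rw [hO] at hv
      obtain ⟨⟨g, hg⟩, rfl⟩ := hv
      rw [hC, Subgroup.mem_centralizer_singleton_iff] at hg
      exact image_mem hu3 hu g hg
    · rintro _ ⟨⟨a, b, c⟩, hp, rfl⟩
      exact hall a b c hp
  have hcard : Nat.card ↥O = Fintype.card K ^ 3 - 1 := by
    rw [hOeq, Nat.card_image_of_injective emb_injective, Nat.card_eq_fintype_card]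
    simp only [Set.coe_setOf]
    rw [Fintype.card_subtype_compl, Fintype.card_prod, Fintype.card_prod, Fintype.card_subtype_eq]
    ring_nf
  rw [← hC, ← hcard, hO, Nat.card_congr (MulAction.orbitEquivQuotientStabilizer ↥C _)]
  exact Subgroup.card_quotient_dvd_card _

end Cfsg.Lib.Chev.G2Deg
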