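import Cfsg.Agent.Lib.Chev.FullG2
import Cfsg.Agent.Lib.Chev.CommG2
import Cfsg.Agent.Lib.Chev.TwSimply
import Cfsg.Agent.Lib.Chev.TorusLang
import Cfsg.Agent.Lib.Chev.BN
import Mathlib.Tactic

/-!
# Elements of G₂

The roots are numbered as in the table: `7` short simple, `6` long simple, then `8, 9, 10, 11`.
-/

set_option autoImplicit false
set_option maxRecDepth 100000
set_option linter.unusedSectionVars false

namespace Cfsg.Lib.Chev.G2Deg

open Cfsg.Lie

variable {K : Type*} [Field K]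

/-- The root elements. -/
noncomputable def x (r : ℕ) (t : K) : ↥(chevG2.group K) := ⟨xg certG2 r t, xg_mem_group certG2 r t⟩

/-- The reflections. -/
noncomputable def n (i : ℕ) : ↥(chevG2.group K) := ⟨nu certG2 i, ng_mem_group certG2 _ _⟩

/-- The torus. -/
noncomputable def tor (a b : Kˣ) : ↥(chevG2.group K) :=
  ⟨torusHom chevG2 tblG2 K fun i => if (i : ℕ) = 0 then a else b,
    diag_le_group certG2 (by rw [← torusHom_range certG2 (T := tblG2)]; exact ⟨_, rfl⟩)⟩

theorem x_add (r : ℕ) (t u : K) : x r t * x r u = x r (t + u) := Subtype.ext (xg_add certG2 r t u)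

theorem x_zero (r : ℕ) : x r (0 : K) = 1 := Subtype.ext (xg_zero certG2 r)

theorem x_inv (r : ℕ) (t : K) : (x r t)⁻¹ = x r (-t) := Subtype.ext (xg_inv certG2 r t)

theorem x_eq_one {r : ℕ} (hr : r < 12) {t : K} (h : x r t = 1) : t = 0 :=
  xg_eq_one certG2 hr (congrArg Subtype.val h)

theorem x_comm {r s : ℕ} (h : r < 12 ∧ s < 12 ∧ s ≠ r ∧ s ≠ tblG2.neg r ∧ tTerms tblG2 r s = []) (t u : K) :
    Commute (x r t) (x s u) :=
  Subtype.ext (xg_commute certG2 fullCertG2.comm h.1 h.2.1 h.2.2.1 h.2.2.2.1 h.2.2.2.2 t u).eq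

theorem x_comm_three [CharP K 3] {r s : ℕ} (h : chkCommMod 3 tblG2 r s = true) (t u : K) :
    Commute (x r t) (x s u) :=
  Subtype.ext (xg_commute_mod certG2 fullCertG2.comm h t u).eq

theorem fix_of_comm {G : Type*} [Group G] {g a : G} (h : Commute g a) : g * a * g⁻¹ = a := by
  rw [h.eq, mul_inv_cancel_right]

/-- Conjugation of a root element. -/
theorem x_conj {r s : ℕ} {l : List (ℕ × ℤ × ℕ × ℕ)}
    (h : r < 12 ∧ s < 12 ∧ s ≠ r ∧ s ≠ tblG2.neg r ∧ tTerms tblG2 r s = l) (t u : K) :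
    x s u * x r t * (x s u)⁻¹ = x r t *
      (x s u * (l.map fun c => x c.1 ((c.2.1 : K) * (-t) ^ c.2.2.1 * u ^ c.2.2.2)).prod * (x s u)⁻¹) := by
  obtain ⟨hr, hs, h1, h2, he⟩ := h
  have h := comm_formula fullCertG2.comm (F := K) hr hs h1 h2 t u
  rw [ChevalleyDatum.commWord, commTerms_eq certG2 hr hs, he] at h
  have e : x s u * x r t = x r t * x s u *
      (l.map fun c => x c.1 ((c.2.1 : K) * (-t) ^ c.2.2.1 * u ^ c.2.2.2)).prod := by
    refine Subtype.ext (Units.ext ?_)
    simp only [x, Subgroup.coe_mul, Units.val_mul, coe_xg]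
    rw [h]
    clear h he
    congr 1
    induction l with
    | nil => simp [ChevalleyDatum.wordMat]
    | cons a l ih => simp [ChevalleyDatum.wordMat, coe_xg] at ih ⊢; rw [ih]
  rw [e]
  group

/-- A single commutator term, central for both. -/
theorem x_conj_one {r s k : ℕ} {c : ℤ}
    (h : r < 12 ∧ s < 12 ∧ s ≠ r ∧ s ≠ tblG2.neg r ∧ tTerms tblG2 r s = [(k, c, 1, 1)] ∧
      k < 12 ∧ k ≠ s ∧ k ≠ tblG2.neg s ∧ tTerms tblG2 s k = []) (t u : K) :
    x s u * x r t * (x s u)⁻¹ = x r t * x k (-((c : K) * t * u)) := by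
  obtain ⟨hr, hs, h1, h2, he, hk, h3, h4, h5⟩ := h
  rw [x_conj ⟨hr, hs, h1, h2, he⟩]
  simp only [List.map_cons, List.map_nil, List.prod_cons, List.prod_nil, mul_one]
  rw [fix_of_comm (x_comm ⟨hs, hk, h3, h4, h5⟩ _ _)]
  congr 2
  ring

theorem x6_x10 (t u : K) : x 10 u * x 6 t * (x 10 u)⁻¹ = x 6 t * x 11 (-(t * u)) := by
  rw [x_conj_one (k := 11) (c := 1) (by decide +kernel)]; simp

theorem x10_x6 (t u : K) : x 6 u * x 10 t * (x 6 u)⁻¹ = x 10 t * x 11 (t * u) := by
  rw [x_conj_one (k := 11) (c := -1) (by decide +kernel)]; simp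

theorem x9_x7 (t u : K) : x 7 u * x 9 t * (x 7 u)⁻¹ = x 9 t * x 10 (3 * t * u) := by
  rw [x_conj_one (k := 10) (c := -3) (by decide +kernel)]; simp

theorem x9_x8 (t u : K) : x 8 u * x 9 t * (x 8 u)⁻¹ = x 9 t * x 11 (3 * t * u) := by
  rw [x_conj_one (k := 11) (c := -3) (by decide +kernel)]; simp

theorem n_conj {i r k : ℕ} {e : ℤ} (h : i < 2 ∧ r < 12 ∧ tblG2.refl' i r = k ∧ tblG2.eta' i r = e) (t : K) :
    n i * x r t * (n i)⁻¹ = x k ((e : K) * t) := by
  obtain ⟨hi, hr, hk, he⟩ := h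
  refine Subtype.ext ?_
  subst hk he
  exact nu_conj_xg certG2 hi hr t

theorem n_inv_conj {i r k : ℕ} {e : ℤ} (h : i < 2 ∧ r < 12 ∧ tblG2.refl' i r = k ∧ tblG2.eta' i r = e ∧ e * e = 1)
    (t : K) : (n i)⁻¹ * x k t * n i = x r ((e : K) * t) := by
  have h1 := n_conj ⟨h.1, h.2.1, h.2.2.1, h.2.2.2.1⟩ ((e : K) * t)
  rw [← mul_assoc, ← Int.cast_mul, h.2.2.2.2, Int.cast_one, one_mul] at h1
  rw [← h1]
  group

theorem tor_conj {r : ℕ} {a b : Kˣ} (m₀ m₁ : ℤ)
    (h : r < 12 ∧ tblG2.cartan 0 r = m₀ ∧ tblG2.cartan 1 r = m₁) (t : K) :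
    tor a b * x r t * (tor a b)⁻¹ = x r ((a : K) ^ m₀ * (b : K) ^ m₁ * t) := by
  refine Subtype.ext ?_
  show torusHom chevG2 tblG2 K _ * xg certG2 r t * (torusHom chevG2 tblG2 K _)⁻¹ = _
  rw [torusHom_conj_xg certG2 _ h.1]
  refine congrArg (fun z => xg certG2 r (z * t)) ?_
  simp [chr, show chevG2.rank = 2 from rfl, Finset.prod_range_succ, h.2.1, h.2.2, extend']

theorem tor6 (a b : Kˣ) (t : K) : tor a b * x 6 t * (tor a b)⁻¹ = x 6 ((b : K) ^ 2 / (a : K) ^ 3 * t) := by
  rw [tor_conj (-3) 2 (by decide +kernel)]; congr 1; simp [zpow_neg]; left; field_simp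

theorem tor7 (a b : Kˣ) (t : K) : tor a b * x 7 t * (tor a b)⁻¹ = x 7 ((a : K) ^ 2 / (b : K) * t) := by
  rw [tor_conj 2 (-1) (by decide +kernel)]; congr 1; simp [zpow_neg]; left; field_simp

theorem tor8 (a b : Kˣ) (t : K) : tor a b * x 8 t * (tor a b)⁻¹ = x 8 ((b : K) / (a : K) * t) := by
  rw [tor_conj (-1) 1 (by decide +kernel)]; congr 1; simp [zpow_neg]; left; field_simp

theorem tor9 (a b : Kˣ) (t : K) : tor a b * x 9 t * (tor a b)⁻¹ = x 9 ((a : K) * t) := by
  rw [tor_conj 1 0 (by decide +kernel)]; simp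

theorem tor10 (a b : Kˣ) (t : K) : tor a b * x 10 t * (tor a b)⁻¹ = x 10 ((a : K) ^ 3 / (b : K) * t) := by
  rw [tor_conj 3 (-1) (by decide +kernel)]; congr 1; simp [zpow_neg]; left; field_simp

theorem tor11 (a b : Kˣ) (t : K) : tor a b * x 11 t * (tor a b)⁻¹ = x 11 ((b : K) * t) := by
  rw [tor_conj 0 1 (by decide +kernel)]; simp

theorem tor_mul (a b a' b' : Kˣ) : tor a b * tor a' b' = tor (a * a') (b * b') := by
  refine Subtype.ext ?_
  show torusHom chevG2 tblG2 K _ * torusHom chevG2 tblG2 K _ = torusHom chevG2 tblG2 K _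
  rw [← map_mul]
  congr 1
  funext i
  simp only [Pi.mul_apply]
  split_ifs <;> rfl

theorem tor_one : tor (1 : Kˣ) 1 = 1 := by
  refine Subtype.ext ?_
  show torusHom chevG2 tblG2 K _ = 1
  rw [show (fun i : Fin chevG2.rank => if (i : ℕ) = 0 then (1 : Kˣ) else 1) = 1 from funext fun i => ite_self _,
    map_one]

theorem tor_inv (a b : Kˣ) : (tor a b)⁻¹ = tor a⁻¹ b⁻¹ :=
  inv_eq_of_mul_eq_one_right (by rw [tor_mul, mul_inv_cancel, mul_inv_cancel, tor_one])

/-- A torus element is read off from its weights at the roots `9, 11`. -/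
theorem exists_tor {g : ↥(chevG2.group K)} (hg : (g : GL chevG2.Idx K) ∈ chevG2.diagonalSubgroup K) :
    ∃ a b, g = tor a b := by
  rw [← torusHom_range certG2 (T := tblG2)] at hg
  obtain ⟨c, hc⟩ := hg
  refine ⟨c ⟨0, by decide⟩, c ⟨1, by decide⟩, Subtype.ext ?_⟩
  show _ = torusHom chevG2 tblG2 K _
  rw [← hc]
  congr 1
  funext ⟨i, hi⟩
  have h2 : i < 2 := hi
  interval_cases i <;> simp

theorem tor_mem (a b : Kˣ) : ((tor a b : ↥(chevG2.group K)) : GL chevG2.Idx K) ∈ chevG2.diagonalSubgroup K := by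
  show torusHom chevG2 tblG2 K _ ∈ _
  rw [← torusHom_range certG2 (T := tblG2)]
  exact ⟨_, rfl⟩

theorem coe_x (r : ℕ) (t : K) : ((x r t : ↥(chevG2.group K)) : GL chevG2.Idx K) = xg certG2 r t := rfl

theorem coe_n (i : ℕ) : ((n i : ↥(chevG2.group K)) : GL chevG2.Idx K) = nu certG2 i := rfl

theorem n0_eq : (n 0 : ↥(chevG2.group K)) = x 7 1 * x 4 (-1) * x 7 1 := by
  refine Subtype.ext ?_
  show nu certG2 0 = xg certG2 7 1 * xg certG2 4 (-1) * xg certG2 7 1
  rw [nu, ng, show tblG2.simp' 0 = 7 by decide +kernel, show chevG2.neg 7 = 4 by decide +kernel, inv_one]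

theorem n1_eq : (n 1 : ↥(chevG2.group K)) = x 6 1 * x 5 (-1) * x 6 1 := by
  refine Subtype.ext ?_
  show nu certG2 1 = xg certG2 6 1 * xg certG2 5 (-1) * xg certG2 6 1
  rw [nu, ng, show tblG2.simp' 1 = 6 by decide +kernel, show chevG2.neg 6 = 5 by decide +kernel, inv_one]

/-- The reflections act on the torus. -/
theorem n_tor {i : ℕ} (hi : i < 2) (a b : Kˣ) :
    n i * tor a b * (n i)⁻¹ = if i = 0 then tor (b / a) b else tor a (a ^ 3 / b) := by
  obtain ⟨e, he, hchr⟩ := torus_word_conj certG2 (F := K) (D := chevG2) (w := [i])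
    (IsWord.cons hi fun k hk => absurd hk List.not_mem_nil) (fun j => if (j : ℕ) = 0 then a else b)
  have h9 : chr tblG2 chevG2 (extend' e) 9 = (e ⟨0, by decide⟩ : K) := by
    simp [chr, show chevG2.rank = 2 from rfl, Finset.prod_range_succ, show tblG2.cartan 0 9 = 1 by decide +kernel,
      show tblG2.cartan 1 9 = 0 by decide +kernel, extend']
  have h11 : chr tblG2 chevG2 (extend' e) 11 = (e ⟨1, by decide⟩ : K) := by
    simp [chr, show chevG2.rank = 2 from rfl, Finset.prod_range_succ, show tblG2.cartan 0 11 = 0 by decide +kernel,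
      show tblG2.cartan 1 11 = 1 by decide +kernel, extend']
  have he' : n i * tor a b * (n i)⁻¹ = tor (e ⟨0, by decide⟩) (e ⟨1, by decide⟩) := by
    refine Subtype.ext ?_
    show nu certG2 i * torusHom chevG2 tblG2 K _ * (nu certG2 i)⁻¹ = torusHom chevG2 tblG2 K _
    rw [show (nu certG2 i : GL chevG2.Idx K) = wnu certG2 K [i] by simp [wnu], he]
    congr 1
    funext ⟨j, hj⟩
    have h2 : j < 2 := hj
    interval_cases j <;> simp
  rw [he']
  interval_cases i
  · have e0 : wperm tblG2 [0] 8 = 9 ∧ wperm tblG2 [0] 11 = 11 := by decide +kernel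
    have k0 := hchr 8 (by decide)
    have k1 := hchr 11 (by decide)
    rw [e0.1, h9] at k0
    rw [e0.2, h11] at k1
    congr 1
    · refine Units.ext ?_
      rw [k0]
      simp [chr, show chevG2.rank = 2 from rfl, Finset.prod_range_succ, show tblG2.cartan 0 8 = -1 by decide +kernel,
        show tblG2.cartan 1 8 = 1 by decide +kernel, extend']
      ring
    · refine Units.ext ?_
      rw [k1]
      simp [chr, show chevG2.rank = 2 from rfl, Finset.prod_range_succ, show tblG2.cartan 0 11 = 0 by decide +kernel,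
        show tblG2.cartan 1 11 = 1 by decide +kernel, extend']
  · have e0 : wperm tblG2 [1] 9 = 9 ∧ wperm tblG2 [1] 10 = 11 := by decide +kernel
    have k0 := hchr 9 (by decide)
    have k1 := hchr 10 (by decide)
    rw [e0.1, h9] at k0
    rw [e0.2, h11] at k1
    congr 1
    · refine Units.ext ?_
      rw [k0]
      simp [chr, show chevG2.rank = 2 from rfl, Finset.prod_range_succ, show tblG2.cartan 0 9 = 1 by decide +kernel,
        show tblG2.cartan 1 9 = 0 by decide +kernel, extend']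
    · refine Units.ext ?_
      rw [k1]
      simp [chr, show chevG2.rank = 2 from rfl, Finset.prod_range_succ, show tblG2.cartan 0 10 = 3 by decide +kernel,
        show tblG2.cartan 1 10 = -1 by decide +kernel, extend']
      ring

theorem n_sq_tor {i : ℕ} (hi : i < 2) : ∃ a b : Kˣ, n i * n i = tor a b := by
  refine exists_tor ?_
  have hw : IsWord chevG2 [i, i] := IsWord.cons hi (IsWord.cons hi fun k hk => absurd hk List.not_mem_nil)
  have h := same_of_perm certG2 fullCertG2 (F := K) (v := []) (w := [i, i]) (fun k hk => absurd hk List.not_mem_nil)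
    hw (fun k hk => by
      have hk' : k < 2 := hk
      interval_cases i <;> interval_cases k <;> decide +kernel)
  simpa [wnu, coe_n] using h

attribute [irreducible] x n tor

end Cfsg.Lib.Chev.G2Deg
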