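import Cfsg.Agent.Lib.Chev.G2Degree.Radical
import Cfsg.Agent.Lib.Chev.G2Degree.Avg

/-!
# A vector fixed by the roots `6, 10, 11` spanning that fixed space

Such a line is fixed by the positive root groups and the short simple reflection; the torus acts trivially on it,
and the other reflection has two possible coefficients.
-/

set_option autoImplicit false
set_option maxRecDepth 100000
set_option linter.unusedSectionVars false

namespace Cfsg.Lib.Chev.G2Deg

open Cfsg.Lie Cfsg.Lib.Linear.MinDegree Cfsg.Lib.Chev.TriDeg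

variable {K : Type*} [Field K] [Finite K]
variable {V : Type*} [AddCommGroup V] [Module ℂ V] [FiniteDimensional ℂ V]

local notation "tr" => LinearMap.trace ℂ V

/-- The subgroup generated by some root groups. -/
noncomputable def sub (l : List ℕ) : Subgroup ↥(chevG2.group K) :=
  Subgroup.closure {g | ∃ r ∈ l, ∃ t : K, g = x r t}

theorem x_mem {r : ℕ} {l : List ℕ} (h : r ∈ l) (t : K) : x r t ∈ (sub l : Subgroup ↥(chevG2.group K)) :=
  Subgroup.subset_closure ⟨r, h, t, rfl⟩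

theorem sub_mono {l l' : List ℕ} (h : ∀ r ∈ l, r ∈ l') : (sub l : Subgroup ↥(chevG2.group K)) ≤ sub l' :=
  (Subgroup.closure_le _).2 fun _ ⟨r, hr, t, e⟩ => e ▸ x_mem (h r hr) t

theorem norm_of_conj {g : ↥(chevG2.group K)} {l : List ℕ}
    (h : ∀ r ∈ l, ∀ t : K, g * x r t * g⁻¹ ∈ (sub l : Subgroup ↥(chevG2.group K))) :
    g ∈ Subgroup.normalizer ((sub l : Subgroup ↥(chevG2.group K)) : Set ↥(chevG2.group K)) :=
  mem_normalizer_closure fun s ⟨r, hr, t, e⟩ => by rw [e]; exact h r hr t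

theorem tor_norm {l : List ℕ} (h : ∀ r ∈ l, r < 12) (a b : Kˣ) :
    tor a b ∈ Subgroup.normalizer ((sub l : Subgroup ↥(chevG2.group K)) : Set ↥(chevG2.group K)) :=
  norm_of_conj fun r hr t => by rw [tor_conj _ _ ⟨h r hr, rfl, rfl⟩]; exact x_mem hr _

theorem n_norm {i : ℕ} {l : List ℕ} (h : i < 2 ∧ (∀ r ∈ l, r < 12) ∧ ∀ r ∈ l, tblG2.refl' i r ∈ l) :
    n i ∈ Subgroup.normalizer ((sub l : Subgroup ↥(chevG2.group K)) : Set ↥(chevG2.group K)) :=
  norm_of_conj fun r hr t => by rw [n_conj ⟨h.1, h.2.1 r hr, rfl, rfl⟩]; exact x_mem (h.2.2 r hr) _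

theorem comm_norm {r : ℕ} {l : List ℕ}
    (h : ∀ s ∈ l, r < 12 ∧ s < 12 ∧ s ≠ r ∧ s ≠ tblG2.neg r ∧ tTerms tblG2 r s = []) (u : K) :
    x r u ∈ Subgroup.normalizer ((sub l : Subgroup ↥(chevG2.group K)) : Set ↥(chevG2.group K)) :=
  norm_of_conj fun s hs t => by rw [fix_of_comm (x_comm (h s hs) u t)]; exact x_mem hs _

theorem conj_prod_mem {g : ↥(chevG2.group K)} {L : Subgroup ↥(chevG2.group K)}
    {l : List ↥(chevG2.group K)} (h : ∀ a ∈ l, g * a * g⁻¹ ∈ L) : g * l.prod * g⁻¹ ∈ L := by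
  induction l with
  | nil => simp
  | cons a l ih =>
    rw [List.prod_cons, show g * (a * l.prod) * g⁻¹ = g * a * g⁻¹ * (g * l.prod * g⁻¹) by group]
    exact mul_mem (h a List.mem_cons_self) (ih fun b hb => h b (List.mem_cons_of_mem _ hb))

/-- Conjugation of a root element by another, inside the subgroup of a list. -/
theorem conj_mem_sub {r s : ℕ} {L : Subgroup ↥(chevG2.group K)}
    (h : r < 12 ∧ s < 12 ∧ s ≠ r ∧ s ≠ tblG2.neg r) (u t : K) (hr : x r t ∈ L)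
    (hl : ∀ c ∈ tTerms tblG2 r s, ∀ v : K, x s u * x c.1 v * (x s u)⁻¹ ∈ L) :
    x s u * x r t * (x s u)⁻¹ ∈ L := by
  rw [x_conj ⟨h.1, h.2.1, h.2.2.1, h.2.2.2, rfl⟩]
  refine mul_mem hr (conj_prod_mem fun a ha => ?_)
  obtain ⟨c, hc, rfl⟩ := List.mem_map.1 ha
  exact hl c hc _

theorem x7_norm (u : K) :
    x 7 u ∈ Subgroup.normalizer ((sub [6, 8, 9, 10, 11] : Subgroup ↥(chevG2.group K)) : Set ↥(chevG2.group K)) := by
  have hfix : ∀ k ∈ [10, 11], ∀ v : K, x 7 u * x k v * (x 7 u)⁻¹ ∈ (sub [6, 8, 9, 10, 11] : Subgroup ↥(chevG2.group K)) := by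
    intro k hk v
    simp only [List.mem_cons, List.not_mem_nil, or_false] at hk
    rcases hk with rfl | rfl <;> rw [fix_of_comm (x_comm (by decide +kernel) _ _)] <;> exact x_mem (by decide) _
  have h9 : ∀ v : K, x 7 u * x 9 v * (x 7 u)⁻¹ ∈ (sub [6, 8, 9, 10, 11] : Subgroup ↥(chevG2.group K)) := fun v => by
    rw [x9_x7]; exact mul_mem (x_mem (by decide) _) (x_mem (by decide) _)
  have h8 : ∀ v : K, x 7 u * x 8 v * (x 7 u)⁻¹ ∈ (sub [6, 8, 9, 10, 11] : Subgroup ↥(chevG2.group K)) := fun v => by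
    refine conj_mem_sub (by decide +kernel) u v (x_mem (by decide) _) fun c hc w => ?_
    rw [show tTerms tblG2 8 7 = [(9, 2, 1, 1), (11, 3, 2, 1), (10, -3, 1, 2)] by decide +kernel] at hc
    simp only [List.mem_cons, List.not_mem_nil, or_false] at hc
    rcases hc with rfl | rfl | rfl
    exacts [h9 w, hfix 11 (by decide) w, hfix 10 (by decide) w]
  refine norm_of_conj fun r hr t => ?_
  simp only [List.mem_cons, List.not_mem_nil, or_false] at hr
  rcases hr with rfl | rfl | rfl | rfl | rfl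
  · refine conj_mem_sub (by decide +kernel) u t (x_mem (by decide) _) fun c hc w => ?_
    rw [show tTerms tblG2 6 7 = [(8, 1, 1, 1), (9, 1, 1, 2), (10, -1, 1, 3), (11, -2, 2, 3)] by decide +kernel] at hc
    simp only [List.mem_cons, List.not_mem_nil, or_false] at hc
    rcases hc with rfl | rfl | rfl | rfl
    exacts [h8 w, h9 w, hfix 10 (by decide) w, hfix 11 (by decide) w]
  exacts [h8 t, h9 t, hfix 10 (by decide) t, hfix 11 (by decide) t]

theorem x6_norm (u : K) :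
    x 6 u ∈ Subgroup.normalizer ((sub [7, 8, 9, 10, 11] : Subgroup ↥(chevG2.group K)) : Set ↥(chevG2.group K)) := by
  have hfix : ∀ k ∈ [8, 9, 11], ∀ v : K, x 6 u * x k v * (x 6 u)⁻¹ ∈ (sub [7, 8, 9, 10, 11] : Subgroup ↥(chevG2.group K)) := by
    intro k hk v
    simp only [List.mem_cons, List.not_mem_nil, or_false] at hk
    rcases hk with rfl | rfl | rfl <;> rw [fix_of_comm (x_comm (by decide +kernel) _ _)] <;> exact x_mem (by decide) _
  have h10 : ∀ v : K, x 6 u * x 10 v * (x 6 u)⁻¹ ∈ (sub [7, 8, 9, 10, 11] : Subgroup ↥(chevG2.group K)) := fun v => by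
    rw [x10_x6]; exact mul_mem (x_mem (by decide) _) (x_mem (by decide) _)
  refine norm_of_conj fun r hr t => ?_
  simp only [List.mem_cons, List.not_mem_nil, or_false] at hr
  rcases hr with rfl | rfl | rfl | rfl | rfl
  · refine conj_mem_sub (by decide +kernel) u t (x_mem (by decide) _) fun c hc w => ?_
    rw [show tTerms tblG2 7 6 = [(8, -1, 1, 1), (9, 1, 2, 1), (10, 1, 3, 1), (11, 1, 3, 2)] by decide +kernel] at hc
    simp only [List.mem_cons, List.not_mem_nil, or_false] at hc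
    rcases hc with rfl | rfl | rfl | rfl
    exacts [hfix 8 (by decide) w, hfix 9 (by decide) w, h10 w, hfix 11 (by decide) w]
  exacts [hfix 8 (by decide) t, hfix 9 (by decide) t, h10 t, hfix 11 (by decide) t]

variable (σ : ↥(chevG2.group K) →* Module.End ℂ V)

/-- The projection on the common fixed space of the roots `6, 10, 11`. -/
noncomputable def A : Module.End ℂ V := avg σ (sub [6, 10, 11])

theorem tr_A [Fintype K] (h1 : mF σ 1 = 1) : tr (A σ) = 1 := by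
  obtain ⟨P, hP⟩ : ∃ P, P = proj (RF σ) 1 * P0 σ := ⟨_, rfl⟩
  have hc : P = P0 σ * proj (RF σ) 1 := by rw [hP, (proj_commute (P0_inv σ).2 1).eq]
  have hA6 : ∀ t, σ (x 6 t) * A σ = A σ := fun t => mul_avg (x_mem (by decide) t)
  have hR2 : ∀ p : K × K, R2 σ (.ofAdd p) * A σ = A σ := fun p => by
    rw [R2_apply, R3_apply, eE_apply, x_zero, one_mul, map_mul, mul_assoc, A, mul_avg (x_mem (by decide) _),
      mul_avg (x_mem (by decide) _)]
  have hPA : P * A σ = A σ := by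
    rw [hP, mul_assoc, P0, proj_mul_eigen (R2 σ) (θ := 1) fun p => by rw [hR2, AddChar.one_apply, one_smul],
      proj_mul_eigen (RF σ) fun t => by rw [RF_apply, hA6, AddChar.one_apply, one_smul]]
  have hAP : A σ * P = P := avg_of_fix (fix_closure σ fun s ⟨r, hr, t, e⟩ => by
    subst e
    have h6 : σ (x 6 t) * P = P := by
      rw [hP, ← mul_assoc, ← RF_apply, R_mul_proj, AddChar.one_apply, one_smul]
    have h10 : σ (x 10 t) * P = P := by
      rw [hc, ← mul_assoc, show σ (x 10 t) = R2 σ (.ofAdd (t, (0 : K))) by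
        rw [R2_apply, R3_apply, eE_apply, x_zero, x_zero, one_mul, mul_one], P0, R_mul_proj, AddChar.one_apply,
        one_smul]
    have h11 : σ (x 11 t) * P = P := by
      rw [hc, ← mul_assoc, show σ (x 11 t) = R2 σ (.ofAdd ((0 : K), t)) by
        rw [R2_apply, R3_apply, eE_apply, x_zero, x_zero, one_mul, one_mul], P0, R_mul_proj, AddChar.one_apply,
        one_smul]
    simp only [List.mem_cons, List.not_mem_nil, or_false] at hr
    rcases hr with rfl | rfl | rfl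
    exacts [h6, h10, h11])
  have h2 : tr P = 1 := by
    rw [hP, tr_mlt (P0_inv σ), ← mF.eq_def σ, h1, Nat.cast_one]
  calc tr (A σ) = tr (P * A σ) := by rw [hPA]
    _ = tr (A σ * P) := LinearMap.trace_mul_comm ℂ _ _
    _ = 1 := by rw [hAP, h2]

attribute [irreducible] A

theorem A_idem : IsIdempotentElem (A σ) := by rw [A]; exact avg_idem

/-- The scalar by which a normalising element acts. -/
noncomputable def ev (g : ↥(chevG2.group K)) : ℂ := tr (σ g * A σ)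

variable {σ}
variable (hA : LinearMap.trace ℂ V (A σ) = 1)
include hA

theorem sandwich (X : Module.End ℂ V) : A σ * X * A σ = tr (X * A σ) • A σ := rank_one (A_idem σ) hA X

theorem A_ne : A σ ≠ 0 := fun h => by rw [h, map_zero] at hA; exact zero_ne_one hA

theorem scalar_of_comm {g : ↥(chevG2.group K)} (hg : σ g * A σ = A σ * σ g) : σ g * A σ = ev σ g • A σ :=
  line_scalar (A_idem σ) hA hg

theorem fix_comm {g h : ↥(chevG2.group K)} (hg : σ g * A σ = A σ * σ g) (hh : σ h * A σ = A σ * σ h) :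
    σ (g * h * g⁻¹ * h⁻¹) * A σ = A σ := by
  have hinv : ∀ k : ↥(chevG2.group K), σ k * A σ = A σ * σ k → σ k⁻¹ * A σ = A σ * σ k⁻¹ := fun k hk => by
    calc σ k⁻¹ * A σ = σ k⁻¹ * (A σ * σ k) * σ k⁻¹ := by
          rw [mul_assoc, mul_assoc (A σ), ← map_mul σ k, mul_inv_cancel, map_one, mul_one]
      _ = A σ * σ k⁻¹ := by rw [← hk, ← mul_assoc, ← map_mul σ, inv_mul_cancel, map_one, one_mul]
  have e : ∀ k : ↥(chevG2.group K), σ k * A σ = A σ * σ k → ev σ k * ev σ k⁻¹ = 1 := fun k hk => by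
    have h1 : σ (k⁻¹ * k) * A σ = (ev σ k * ev σ k⁻¹) • A σ := by
      rw [map_mul, mul_assoc, scalar_of_comm hA hk, mul_smul_comm, scalar_of_comm hA (hinv k hk), smul_smul]
    rw [inv_mul_cancel, map_one, one_mul] at h1
    have h2 := congrArg tr h1
    rw [LinearMap.map_smul, smul_eq_mul, hA, mul_one] at h2
    exact h2.symm
  calc σ (g * h * g⁻¹ * h⁻¹) * A σ = (ev σ g * ev σ g⁻¹ * (ev σ h * ev σ h⁻¹)) • A σ := by
        simp only [map_mul, mul_assoc]
        rw [scalar_of_comm hA (hinv h hh)]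
        simp only [mul_smul_comm]
        rw [scalar_of_comm hA (hinv g hg)]
        simp only [mul_smul_comm]
        rw [scalar_of_comm hA hh]
        simp only [mul_smul_comm]
        rw [scalar_of_comm hA hg]
        simp only [smul_smul]
        congr 1
        ring
    _ = A σ := by rw [e g hg, e h hh, one_mul, one_smul]

/-- A root group that commutes with the projection is fixed, if the torus moves it. -/
theorem fix_root {r : ℕ} (hr : r < 12) (hc : ∀ t : K, σ (x r t) * A σ = A σ * σ (x r t)) {a b : Kˣ}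
    (hT : σ (tor a b) * A σ = A σ * σ (tor a b))
    (hne : (a : K) ^ tblG2.cartan 0 r * (b : K) ^ tblG2.cartan 1 r ≠ 1) (t : K) : σ (x r t) * A σ = A σ := by
  obtain ⟨w, hw⟩ : ∃ w, ((a : K) ^ tblG2.cartan 0 r * (b : K) ^ tblG2.cartan 1 r - 1) * w = t :=
    ⟨_, mul_div_cancel₀ t (sub_ne_zero.2 hne)⟩
  have h := fix_comm hA hT (hc w)
  rw [tor_conj _ _ ⟨hr, rfl, rfl⟩, x_inv, x_add] at h
  rw [← hw, sub_mul, one_mul, sub_eq_add_neg]
  exact h

omit hA

theorem comm_A_of_norm {g : ↥(chevG2.group K)}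
    (hg : g ∈ Subgroup.normalizer ((sub [6, 10, 11] : Subgroup ↥(chevG2.group K)) : Set ↥(chevG2.group K))) :
    σ g * A σ = A σ * σ g := by rw [A]; exact avg_comm hg

theorem tor_comm_A (a b : Kˣ) : σ (tor a b) * A σ = A σ * σ (tor a b) :=
  comm_A_of_norm (tor_norm (by decide) a b)

include hA

theorem avg_five (he : ∃ u : Kˣ, (u : K) ≠ 1) : avg σ (sub [6, 8, 9, 10, 11]) = A σ := by
  rw [A]
  refine avg_eq (sub_mono (by decide)) ?_
  rw [← A.eq_def σ]
  obtain ⟨u, hu⟩ := he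
  refine fix_closure σ ?_
  rintro s ⟨r, hr, t, rfl⟩
  simp only [List.mem_cons, List.not_mem_nil, or_false] at hr
  rcases hr with rfl | rfl | rfl | rfl | rfl
  · rw [A]; exact mul_avg (x_mem (by decide) t)
  · refine fix_root hA (by decide) (fun v => comm_A_of_norm (comm_norm (by decide +kernel) v))
      (tor_comm_A 1 u) ?_ t
    rw [show tblG2.cartan 1 8 = 1 by decide +kernel]; simpa using hu
  · refine fix_root hA (by decide) (fun v => comm_A_of_norm (comm_norm (by decide +kernel) v))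
      (tor_comm_A u 1) ?_ t
    rw [show tblG2.cartan 0 9 = 1 by decide +kernel]; simpa using hu
  · rw [A]; exact mul_avg (x_mem (by decide) t)
  · rw [A]; exact mul_avg (x_mem (by decide) t)

theorem n0_comm : σ (n 0) * A σ = A σ * σ (n 0) := comm_A_of_norm (n_norm (by decide +kernel))

theorem fix_seven (he : ∃ u : Kˣ, (u : K) ≠ 1) (t : K) :
    σ (x 7 t) * A σ = A σ ∧ σ (x 4 t) * A σ = A σ := by
  have h5 := avg_five hA he
  obtain ⟨u, hu⟩ := he
  have c7 : ∀ v : K, σ (x 7 v) * A σ = A σ * σ (x 7 v) := fun v => by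
    rw [← h5]; exact avg_comm (x7_norm v)
  have hne : ((1 : Kˣ) : K) ^ tblG2.cartan 0 7 * (u : K) ^ tblG2.cartan 1 7 ≠ 1 := by
    rw [show tblG2.cartan 1 7 = -1 by decide +kernel]; simpa using hu
  have f7 : ∀ v : K, σ (x 7 v) * A σ = A σ := fun v => fix_root hA (by decide) c7 (tor_comm_A 1 u) hne v
  refine ⟨f7 t, ?_⟩
  have hc : ∀ v : K, σ (x 4 v) * A σ = A σ * σ (x 4 v) := fun v => by
    have e : x 4 v = n 0 * x 7 (-v) * (n 0)⁻¹ := by
      rw [n_conj (k := 4) (e := -1) (by decide +kernel)]; simp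
    rw [e, ← h5]
    exact avg_comm (mul_mem (mul_mem (n_norm (by decide +kernel)) (x7_norm _)) (inv_mem (n_norm (by decide +kernel))))
  refine fix_root hA (by decide) hc (tor_comm_A 1 u) ?_ t
  rw [show tblG2.cartan 1 4 = 1 by decide +kernel]; simpa using hu

theorem avg_U (he : ∃ u : Kˣ, (u : K) ≠ 1) : avg σ (sub [6, 7, 8, 9, 10, 11]) = A σ := by
  rw [← avg_five hA he]
  refine avg_eq (sub_mono (by decide)) (fix_closure σ ?_)
  rintro s ⟨r, hr, t, rfl⟩
  simp only [List.mem_cons, List.not_mem_nil, or_false] at hr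
  rcases hr with rfl | rfl | rfl | rfl | rfl | rfl
  · exact mul_avg (x_mem (by decide) t)
  · rw [avg_five hA he]; exact (fix_seven hA he t).1
  all_goals exact mul_avg (x_mem (by decide) t)

theorem fix_n0 (he : ∃ u : Kˣ, (u : K) ≠ 1) : σ (n 0) * A σ = A σ ∧ A σ * σ (n 0) = A σ := by
  have h : σ (n 0) * A σ = A σ := by
    rw [n0_eq, map_mul, map_mul, mul_assoc, mul_assoc, (fix_seven hA he 1).1, (fix_seven hA he (-1)).2,
      (fix_seven hA he 1).1]
  exact ⟨h, (n0_comm hA).symm.trans h⟩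

theorem fix_U (he : ∃ u : Kˣ, (u : K) ≠ 1) {u : ↥(chevG2.group K)} (hu : u ∈ sub [6, 7, 8, 9, 10, 11]) :
    σ u * A σ = A σ ∧ A σ * σ u = A σ := by
  rw [← avg_U hA he]; exact ⟨mul_avg hu, avg_mul hu⟩

theorem fix_six (t : K) : σ (x 6 t) * A σ = A σ ∧ A σ * σ (x 6 t) = A σ := by
  rw [A]; exact ⟨mul_avg (x_mem (by decide) t), avg_mul (x_mem (by decide) t)⟩

/-- The coefficient of the long simple reflection. -/
theorem n1_sandwich : A σ * σ (n 1) * A σ = ev σ (n 1) • A σ := sandwich hA _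

omit hA in
theorem x5_eq {t : K} (ht : t ≠ 0) : ∃ (p : Kˣ) (s : K),
    x 5 t = x 6 s * (tor p p * n 1 * (tor p p)⁻¹) * x 6 s := by
  obtain ⟨p, hp⟩ : ∃ p : Kˣ, (p : K) = -t := ⟨Units.mk0 (-t) (neg_ne_zero.2 ht), rfl⟩
  refine ⟨p, -((p : K) ^ 2 / (p : K) ^ 3), ?_⟩
  have e : x 5 t = tor p p * (x 6 (-1) * n 1 * x 6 (-1)) * (tor p p)⁻¹ := by
    rw [show x 6 (-1 : K) * n 1 * x 6 (-1) = x 5 (-1) by
      rw [n1_eq]
      simp only [← mul_assoc, x_add, neg_add_cancel, x_zero, one_mul]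
      rw [mul_assoc, x_add, add_neg_cancel, x_zero, mul_one],
      tor_conj 3 (-2) (by decide +kernel)]
    congr 1
    rw [hp]
    field_simp
  rw [e, show tor p p * (x 6 (-1) * n 1 * x 6 (-1)) * (tor p p)⁻¹ =
    tor p p * x 6 (-1) * (tor p p)⁻¹ * (tor p p * n 1 * (tor p p)⁻¹) * (tor p p * x 6 (-1) * (tor p p)⁻¹) by group,
    tor6, mul_neg_one]

/-- The sandwich of an element of the opposite long simple root group. -/
theorem x5_sandwich {t : K} (ht : t ≠ 0) : A σ * σ (x 5 t) * A σ = ev σ (n 1) • A σ := by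
  obtain ⟨p, s, e⟩ := x5_eq ht
  have hp : A σ * σ (tor p p) = ev σ (tor p p) • A σ := by
    rw [← tor_comm_A, scalar_of_comm hA (tor_comm_A p p)]
  have hp' : σ (tor p p)⁻¹ * A σ = ev σ (tor p p)⁻¹ • A σ := by
    rw [tor_inv]; exact scalar_of_comm hA (tor_comm_A _ _)
  have h1 : ev σ (tor p p) * ev σ (tor p p)⁻¹ = 1 := by
    have h2 : σ ((tor p p)⁻¹ * tor p p) * A σ = (ev σ (tor p p) * ev σ (tor p p)⁻¹) • A σ := by
      rw [map_mul, mul_assoc, scalar_of_comm hA (tor_comm_A p p), mul_smul_comm, hp', smul_smul]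
    rw [inv_mul_cancel, map_one, one_mul] at h2
    have h3 := congrArg tr h2
    rw [LinearMap.map_smul, smul_eq_mul, hA, mul_one] at h3
    exact h3.symm
  rw [e, map_mul σ, map_mul σ]
  simp only [← mul_assoc]
  rw [(fix_six hA s).2, mul_assoc _ (σ (x 6 s)), (fix_six hA s).1, map_mul σ, map_mul σ]
  simp only [← mul_assoc]
  rw [hp, mul_assoc _ (σ (tor p p)⁻¹), hp']
  simp only [smul_mul_assoc, mul_smul_comm]
  rw [n1_sandwich hA]
  simp only [smul_smul]
  congr 1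
  linear_combination ev σ (n 1) * h1

variable [Fintype K]

omit hA in
theorem six_mem (h : ↥(chevG2.group K)) (hh : h ∈ sub [6]) : ∃ t : K, h = x 6 t := by
  refine Subgroup.closure_induction (p := fun h _ => ∃ t : K, h = x 6 t) ?_ ⟨0, (x_zero 6).symm⟩ ?_ ?_ hh
  · rintro _ ⟨r, hr, t, rfl⟩
    exact ⟨t, by rw [List.mem_singleton.1 hr]⟩
  · rintro _ _ _ _ ⟨s, rfl⟩ ⟨t, rfl⟩; exact ⟨s + t, x_add 6 s t⟩
  · rintro _ _ ⟨t, rfl⟩; exact ⟨-t, x_inv 6 t⟩

/-- Averaging over the long simple root group brings the reflected line back. -/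
theorem avg_six_n1 (he : ∃ u : Kˣ, (u : K) ≠ 1) :
    avg σ (sub [6]) * (σ (n 1) * A σ) = ev σ (n 1) • A σ := by
  obtain ⟨X, hX⟩ : ∃ X, X = avg σ (sub [6]) * (σ (n 1) * A σ) := ⟨_, rfl⟩
  have hfix : ∀ u ∈ (sub [7, 8, 9, 10, 11] : Subgroup ↥(chevG2.group K)), σ u * (σ (n 1) * A σ) = σ (n 1) * A σ := by
    refine fix_closure σ ?_
    rintro s ⟨r, hr, t, rfl⟩
    have h : ∀ r ∈ [7, 8, 9, 10, 11], r < 12 ∧ tblG2.refl' 1 r < 12 ∧ tblG2.refl' 1 (tblG2.refl' 1 r) = r ∧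
        tblG2.refl' 1 r ∈ [6, 7, 8, 9, 10, 11] ∧
        tblG2.eta' 1 (tblG2.refl' 1 r) * tblG2.eta' 1 (tblG2.refl' 1 r) = 1 := by decide +kernel
    obtain ⟨-, h2, h3, h4, h5⟩ := h r hr
    have e : x r t * n 1 = n 1 * x (tblG2.refl' 1 r) ((tblG2.eta' 1 (tblG2.refl' 1 r) : K) * t) := by
      rw [← n_inv_conj ⟨by decide, h2, h3, rfl, h5⟩ t]; group
    rw [← mul_assoc, ← map_mul, e, map_mul, mul_assoc, (fix_U hA he (x_mem h4 _)).1]
  have hU : ∀ u ∈ (sub [6, 7, 8, 9, 10, 11] : Subgroup ↥(chevG2.group K)), σ u * X = X := by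
    refine fix_closure σ ?_
    rintro s ⟨r, hr, t, rfl⟩
    rcases List.mem_cons.1 hr with rfl | hr'
    · rw [hX, ← mul_assoc, mul_avg (x_mem (by decide) t)]
    · rw [hX]
      refine fix_avg_mul (fun h hh => ?_) hfix (x_mem hr' t)
      obtain ⟨w, rfl⟩ := six_mem h hh
      exact x6_norm w
  have h1 := avg_of_fix hU
  rw [avg_U hA he] at h1
  have h2 : A σ * avg σ (sub [6]) = A σ := by
    refine of_fix_avg fun u hu => ?_
    obtain ⟨w, rfl⟩ := six_mem u hu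
    exact (fix_six hA w).2
  rw [← hX, ← h1, hX, ← mul_assoc, h2, ← mul_assoc, n1_sandwich hA]

/-- Peeling off one reflection. -/
theorem step (he : ∃ u : Kˣ, (u : K) ≠ 1) {y : ↥(chevG2.group K)}
    (hy : ∀ t : K, y * x 6 t * y⁻¹ ∈ (sub [6, 7, 8, 9, 10, 11] : Subgroup ↥(chevG2.group K))) :
    A σ * σ y * σ (n 1) * A σ = ev σ (n 1) • (A σ * σ y * A σ) := by
  have h : A σ * σ y * avg σ (sub [6]) = A σ * σ y := by
    refine of_fix_avg fun u hu => ?_
    obtain ⟨w, rfl⟩ := six_mem u hu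
    rw [mul_assoc, ← map_mul, show y * x 6 w = y * x 6 w * y⁻¹ * y by group, map_mul, ← mul_assoc,
      (fix_U hA he (hy w)).2]
  conv_lhs => rw [← h]
  rw [mul_assoc _ (σ (n 1)), mul_assoc _ (avg σ (sub [6])), avg_six_n1 hA he, mul_smul_comm]

omit hA in
theorem sum_avg_six (Y Z : Module.End ℂ V) :
    (Fintype.card K : ℂ) • (Y * (avg σ (sub [6]) * Z)) = ∑ t : K, Y * (σ (x 6 t) * Z) := by
  letI := Fintype.ofFinite ↥(sub [6] : Subgroup ↥(chevG2.group K))
  let f : K → ↥(sub [6] : Subgroup ↥(chevG2.group K)) := fun t => ⟨x 6 t, x_mem (by decide) t⟩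
  have hf : Function.Bijective f := ⟨fun s t h => by
      have h1 : x 6 (s - t) = 1 := by
        rw [sub_eq_add_neg, ← x_add, ← x_inv, show x 6 s = x 6 t from congrArg Subtype.val h, mul_inv_cancel]
      exact sub_eq_zero.1 (x_eq_one (by decide) h1),
    fun u => by obtain ⟨t, ht⟩ := six_mem u.1 u.2; exact ⟨t, Subtype.ext ht.symm⟩⟩
  rw [avg, ← Fintype.card_of_bijective hf, smul_mul_assoc, mul_smul_comm, smul_smul,
    mul_inv_cancel₀ (Nat.cast_ne_zero.2 Fintype.card_ne_zero), one_smul, ← hf.sum_comp, Finset.sum_mul,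
    Finset.mul_sum]

theorem ev_mul_self (p : Kˣ × Kˣ) : ev σ (tor p.1 p.2) ≠ 0 := fun h => A_ne hA (by
  have h1 := scalar_of_comm hA (tor_comm_A p.1 p.2)
  rw [h, zero_smul] at h1
  have h2 := congrArg (σ (tor p.1 p.2)⁻¹ * ·) h1
  simpa [← mul_assoc, ← map_mul] using h2)

/-- The quadratic equation for the coefficient, before the torus is known to act trivially. -/
theorem quad (he : ∃ u : Kˣ, (u : K) ≠ 1) : ∃ μ : ℂ, σ (n 1 * n 1) * A σ = μ • A σ ∧ μ ≠ 0 ∧
    (Fintype.card K : ℂ) * (ev σ (n 1) * ev σ (n 1)) =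
      μ * (1 + ((Fintype.card K : ℂ) - 1) * ev σ (n 1)) := by
  classical
  obtain ⟨a, b, hab⟩ := n_sq_tor (K := K) (show 1 < 2 by decide)
  have hμ : σ (n 1 * n 1) * A σ = ev σ (tor a b) • A σ := by rw [hab, scalar_of_comm hA (tor_comm_A a b)]
  refine ⟨_, hμ, ev_mul_self hA (a, b), ?_⟩
  have h1 := sum_avg_six (σ := σ) (A σ * σ (n 1)) (σ (n 1) * A σ)
  rw [avg_six_n1 hA he, mul_smul_comm, n1_sandwich hA, smul_smul, smul_smul] at h1
  have hterm : ∀ t : K, t ≠ 0 → A σ * σ (n 1) * (σ (x 6 t) * (σ (n 1) * A σ)) =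
      (ev σ (tor a b) * ev σ (n 1)) • A σ := fun t ht => by
    obtain ⟨e, he5, he5'⟩ : ∃ e : ℤ, tblG2.eta' 1 6 = e ∧ ((e : K) * t ≠ 0) :=
      ⟨-1, by decide +kernel, by simpa using ht⟩
    rw [mul_assoc, ← mul_assoc (σ (x 6 t)), ← mul_assoc (σ (n 1)), ← mul_assoc, ← map_mul, ← map_mul,
      show n 1 * (x 6 t * n 1) = x 5 ((e : K) * t) * (n 1 * n 1) by
        rw [← n_conj (i := 1) (r := 6) (k := 5) (e := e) ⟨by decide, by decide, by decide +kernel, he5⟩]; group,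
      map_mul, mul_assoc, mul_assoc, hμ, mul_smul_comm, mul_smul_comm, ← mul_assoc, x5_sandwich hA he5', smul_smul]
  rw [← Finset.add_sum_erase _ _ (Finset.mem_univ (0 : K)), x_zero, map_one, one_mul, ← mul_assoc,
    mul_assoc (A σ) (σ (n 1)), ← map_mul σ, mul_assoc (A σ), hμ, mul_smul_comm, (A_idem σ).eq,
    Finset.sum_congr rfl fun t ht => hterm t (Finset.ne_of_mem_erase ht), Finset.sum_const,
    Finset.card_erase_of_mem (Finset.mem_univ _), Finset.card_univ, ← Nat.cast_smul_eq_nsmul ℂ, smul_smul,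
    ← add_smul] at h1
  have h2 := congrArg tr h1
  simp only [LinearMap.map_smul, smul_eq_mul, hA, mul_one] at h2
  rw [Nat.cast_sub Fintype.card_pos] at h2
  push_cast at h2
  linear_combination h2

/-- The torus acts trivially. -/
theorem tor_trivial (he : ∃ u : Kˣ, (u : K) ≠ 1) (a b : Kˣ) :
    σ (tor a b) * A σ = A σ ∧ A σ * σ (tor a b) = A σ := by
  obtain ⟨μ, -, hμ0, hq⟩ := quad hA he
  have hb : ev σ (n 1) ≠ 0 := fun h => hμ0 (by rw [h] at hq; simpa using hq.symm)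
  obtain ⟨f, hf⟩ : ∃ f : Kˣ → Kˣ → ℂ, f = fun a b => ev σ (tor a b) := ⟨_, rfl⟩
  have hmul : ∀ a b a' b', f (a * a') (b * b') = f a b * f a' b' := fun a b a' b' => by
    subst hf
    simp only
    rw [← tor_mul, ev, map_mul σ, mul_assoc, scalar_of_comm hA (tor_comm_A a' b'), mul_smul_comm,
      LinearMap.map_smul, smul_eq_mul, mul_comm]
    rfl
  have h11 : f 1 1 = 1 := by subst hf; simp only; rw [tor_one, ev, map_one, one_mul, hA]
  have h0 : ∀ a b, f (b / a) b = f a b := fun a b => by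
    subst hf
    simp only
    have e := n_tor (i := 0) (by decide) a b
    rw [if_pos rfl] at e
    rw [← e, ev, ev, map_mul σ, map_mul σ, mul_assoc, mul_assoc]
    obtain ⟨hn, hn'⟩ := fix_n0 hA he
    have hi : σ (n 0)⁻¹ * A σ = A σ := by
      conv_lhs => rw [← hn]
      rw [← mul_assoc, ← map_mul, inv_mul_cancel, map_one, one_mul]
    rw [hi, scalar_of_comm hA (tor_comm_A a b), mul_smul_comm, hn]
  have h1 : ∀ a b, f a (a ^ 3 / b) = f a b := fun a b => by
    subst hf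
    simp only
    have e := n_tor (i := 1) (by decide) a b
    rw [if_neg one_ne_zero] at e
    have l1 : A σ * σ (n 1 * tor a b) * A σ = (ev σ (tor a b) * ev σ (n 1)) • A σ := by
      rw [map_mul, mul_assoc, mul_assoc, scalar_of_comm hA (tor_comm_A a b), mul_smul_comm, mul_smul_comm,
        ← mul_assoc, n1_sandwich hA, smul_smul]
    have l2 : A σ * σ (n 1 * tor a b) * A σ = (ev σ (tor a (a ^ 3 / b)) * ev σ (n 1)) • A σ := by
      rw [show n 1 * tor a b = tor a (a ^ 3 / b) * n 1 by rw [← e]; group, map_mul, ← mul_assoc, ← tor_comm_A,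
        scalar_of_comm hA (tor_comm_A _ _), smul_mul_assoc, smul_mul_assoc, n1_sandwich hA, smul_smul]
    have l3 := congrArg tr (l1.symm.trans l2)
    simp only [LinearMap.map_smul, smul_eq_mul, hA, mul_one] at l3
    exact (mul_right_cancel₀ hb l3).symm
  have hinv : ∀ a b, f a⁻¹ b⁻¹ * f a b = 1 := fun a b => by rw [← hmul, inv_mul_cancel, inv_mul_cancel, h11]
  have hne : ∀ a b, f a b ≠ 0 := fun a b h => by simpa [h] using hinv a b
  have ha : ∀ a, f a 1 = 1 := fun a => by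
    have hg : f 1 a = f a a := by simpa using (h0 1 a).symm
    have : f a a = f a 1 * f 1 a := by rw [← hmul, mul_one, one_mul]
    rw [← hg] at this
    exact (mul_eq_right₀ (hne 1 a)).1 this.symm
  have hab : ∀ a b, f a b = f 1 b := fun a b => by
    rw [show f a b = f (a * 1) (1 * b) by rw [mul_one, one_mul], hmul, ha, one_mul]
  have hb2 : ∀ b, f 1 b * f 1 b = 1 := fun b => by
    have h2 : f 1 b⁻¹ = f 1 b := by simpa using h1 1 b
    have h3 := hinv 1 b
    rwa [inv_one, h2] at h3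
  have hb3 : ∀ b, f 1 (b ^ 3) = 1 := fun b => by
    have h := h1 b 1
    rw [hab, div_one, ha] at h
    exact h
  have hbb : ∀ b, f 1 b = 1 := fun b => by
    have h3 : f 1 (b ^ 3) = f 1 b * f 1 b * f 1 b := by
      rw [← hmul, ← hmul, one_mul, one_mul, pow_succ, pow_two]
    rwa [hb3, hb2, one_mul, eq_comm] at h3
  have hev : ev σ (tor a b) = 1 := by
    have := (hab a b).trans (hbb b)
    subst hf
    exact this
  have h := scalar_of_comm hA (tor_comm_A (σ := σ) a b)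
  rw [hev, one_smul] at h
  exact ⟨h, (tor_comm_A (σ := σ) a b).symm.trans h⟩

/-- The quadratic equation. -/
theorem coef (he : ∃ u : Kˣ, (u : K) ≠ 1) :
    (ev σ (n 1) - 1) * ((Fintype.card K : ℂ) * ev σ (n 1) + 1) = 0 := by
  obtain ⟨μ, hμ, -, hq⟩ := quad hA he
  obtain ⟨a, b, hab⟩ := n_sq_tor (K := K) (show 1 < 2 by decide)
  rw [hab, (tor_trivial hA he a b).1] at hμ
  have h := congrArg tr hμ
  rw [LinearMap.map_smul, smul_eq_mul, hA, mul_one] at h
  rw [← h] at hq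
  linear_combination hq

theorem n1_inv (he : ∃ u : Kˣ, (u : K) ≠ 1) : σ (n 1)⁻¹ * A σ = σ (n 1) * A σ := by
  obtain ⟨a, b, hab⟩ := n_sq_tor (K := K) (show 1 < 2 by decide)
  conv_lhs => rw [show (n 1 : ↥(chevG2.group K))⁻¹ = n 1 * (tor a b)⁻¹ by rw [← hab]; group, tor_inv, map_mul,
    mul_assoc, (tor_trivial hA he _ _).1]

theorem x1_sandwich (he : ∃ u : Kˣ, (u : K) ≠ 1) {t : K} (ht : t ≠ 0) :
    A σ * σ (x 1 t) * A σ = ev σ (n 1) • A σ := by
  obtain ⟨e, he1, hh⟩ : ∃ e : ℤ, (tblG2.refl' 0 5 = 1 ∧ tblG2.eta' 0 5 = e) ∧ e * e = 1 :=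
    ⟨tblG2.eta' 0 5, ⟨by decide +kernel, rfl⟩, by decide +kernel⟩
  have hk : (e : K) * t ≠ 0 := mul_ne_zero (fun h => one_ne_zero (α := K) (by
    rw [← Int.cast_one, ← hh, Int.cast_mul, h, zero_mul])) ht
  have h := n_conj (i := 0) (r := 5) ⟨by decide, by decide, he1.1, he1.2⟩ ((e : K) * t)
  rw [← mul_assoc, ← Int.cast_mul, hh, Int.cast_one, one_mul] at h
  rw [← h, map_mul σ, map_mul σ]
  simp only [← mul_assoc]
  have hi : σ (n 0)⁻¹ * A σ = A σ := by
    conv_lhs => rw [← (fix_n0 hA he).1]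
    rw [← mul_assoc, ← map_mul, inv_mul_cancel, map_one, one_mul]
  rw [(fix_n0 hA he).2, mul_assoc _ (σ (n 0)⁻¹), hi, x5_sandwich hA hk]

theorem x0_sandwich (he : ∃ u : Kˣ, (u : K) ≠ 1) {t : K} (ht : t ≠ 0) :
    A σ * σ (x 0 t) * A σ = (ev σ (n 1) * ev σ (n 1) * ev σ (n 1)) • A σ := by
  obtain ⟨y, hy⟩ : ∃ y : ↥(chevG2.group K), y = n 1 * n 0 := ⟨_, rfl⟩
  have h5 : ∀ s : K, ∃ s', (s ≠ 0 → s' ≠ 0) ∧ y * x 5 s * y⁻¹ = x 0 s' := fun s => by
    obtain ⟨e, e', h1, h2⟩ : ∃ e e' : ℤ, (tblG2.refl' 0 5 = 1 ∧ tblG2.eta' 0 5 = e ∧ e * e = 1) ∧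
      (tblG2.refl' 1 1 = 0 ∧ tblG2.eta' 1 1 = e' ∧ e' * e' = 1) :=
      ⟨_, _, ⟨by decide +kernel, rfl, by decide +kernel⟩, ⟨by decide +kernel, rfl, by decide +kernel⟩⟩
    refine ⟨(e' : K) * ((e : K) * s), fun hs => ?_, ?_⟩
    · refine mul_ne_zero (fun h => one_ne_zero (α := K) ?_) (mul_ne_zero (fun h => one_ne_zero (α := K) ?_) hs)
      · rw [← Int.cast_one, ← h2.2.2, Int.cast_mul, h, zero_mul]
      · rw [← Int.cast_one, ← h1.2.2, Int.cast_mul, h, zero_mul]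
    · rw [hy, show n 1 * n 0 * x 5 s * (n 1 * n 0)⁻¹ = n 1 * (n 0 * x 5 s * (n 0)⁻¹) * (n 1)⁻¹ by group,
        n_conj ⟨by decide, by decide, h1.1, h1.2.1⟩, n_conj ⟨by decide, by decide, h2.1, h2.2.1⟩]
  obtain ⟨s, hs, hst⟩ : ∃ s, s ≠ 0 ∧ y * x 5 s * y⁻¹ = x 0 t := by
    obtain ⟨e, e', h1, h2⟩ : ∃ e e' : ℤ, (tblG2.refl' 0 5 = 1 ∧ tblG2.eta' 0 5 = e ∧ e * e = 1) ∧
      (tblG2.refl' 1 1 = 0 ∧ tblG2.eta' 1 1 = e' ∧ e' * e' = 1) :=
      ⟨_, _, ⟨by decide +kernel, rfl, by decide +kernel⟩, ⟨by decide +kernel, rfl, by decide +kernel⟩⟩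
    have k1 : (e : K) * e = 1 := by rw [← Int.cast_mul, h1.2.2, Int.cast_one]
    have k2 : (e' : K) * e' = 1 := by rw [← Int.cast_mul, h2.2.2, Int.cast_one]
    refine ⟨(e : K) * ((e' : K) * t), mul_ne_zero (left_ne_zero_of_mul_eq_one k1)
      (mul_ne_zero (left_ne_zero_of_mul_eq_one k2) ht), ?_⟩
    rw [hy, show n 1 * n 0 * x 5 ((e : K) * ((e' : K) * t)) * (n 1 * n 0)⁻¹ =
      n 1 * (n 0 * x 5 ((e : K) * ((e' : K) * t)) * (n 0)⁻¹) * (n 1)⁻¹ by group,
      n_conj ⟨by decide, by decide, h1.1, h1.2.1⟩, n_conj ⟨by decide, by decide, h2.1, h2.2.1⟩]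
    congr 1
    linear_combination (e' : K) * e' * t * k1 + t * k2
  obtain ⟨p, v, ev5⟩ := x5_eq hs
  have hU : ∀ w : K, y * x 6 w * y⁻¹ ∈ (sub [6, 7, 8, 9, 10, 11] : Subgroup ↥(chevG2.group K)) := fun w => by
    rw [hy, show n 1 * n 0 * x 6 w * (n 1 * n 0)⁻¹ = n 1 * (n 0 * x 6 w * (n 0)⁻¹) * (n 1)⁻¹ by group,
      n_conj (k := 10) (e := 1) (by decide +kernel), n_conj (k := 11) (e := 1) (by decide +kernel)]
    exact x_mem (by decide) _
  have hT : ∀ c d : Kˣ, ∃ c' d', y * tor c d * y⁻¹ = tor c' d' := fun c d => by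
    refine ⟨d / c, (d / c) ^ 3 / d, ?_⟩
    rw [hy, show n 1 * n 0 * tor c d * (n 1 * n 0)⁻¹ = n 1 * (n 0 * tor c d * (n 0)⁻¹) * (n 1)⁻¹ by group,
      n_tor (by decide), if_pos rfl, n_tor (by decide), if_neg one_ne_zero]
  obtain ⟨c₁, d₁, hc₁⟩ := hT p p
  obtain ⟨c₂, d₂, hc₂⟩ := hT p⁻¹ p⁻¹
  rw [← tor_inv] at hc₂
  rw [← hst, ev5,
    show y * (x 6 v * (tor p p * n 1 * (tor p p)⁻¹) * x 6 v) * y⁻¹ =
      y * x 6 v * y⁻¹ * ((y * tor p p * y⁻¹) * (y * n 1 * y⁻¹) * (y * (tor p p)⁻¹ * y⁻¹)) * (y * x 6 v * y⁻¹) by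
        group,
    hc₁, hc₂, map_mul σ, map_mul σ]
  simp only [← mul_assoc]
  rw [(fix_U hA he (hU v)).2, mul_assoc _ (σ (y * x 6 v * y⁻¹)), (fix_U hA he (hU v)).1]
  simp only [map_mul, ← mul_assoc]
  rw [mul_assoc _ (σ (tor c₂ d₂)), (tor_trivial hA he c₂ d₂).1, (tor_trivial hA he c₁ d₁).2, hy]
  obtain ⟨hn, hn'⟩ := fix_n0 hA he
  have hni : σ (n 0)⁻¹ * A σ = A σ := by
    conv_lhs => rw [← hn]
    rw [← mul_assoc, ← map_mul, inv_mul_cancel, map_one, one_mul]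
  simp only [mul_inv_rev, map_mul, ← mul_assoc]
  rw [mul_assoc _ (σ (n 1)⁻¹), n1_inv hA he, ← mul_assoc,
    show A σ * σ (n 1) * σ (n 0) * σ (n 1) * σ (n 0)⁻¹ = A σ * σ (n 1 * n 0 * n 1 * (n 0)⁻¹) by
      simp only [map_mul, mul_assoc],
    step hA he (fun w => ?_)]
  simp only [map_mul, ← mul_assoc]
  rw [mul_assoc _ (σ (n 0)⁻¹), hni,
    show A σ * σ (n 1) * σ (n 0) = A σ * σ (n 1 * n 0) by simp only [map_mul, mul_assoc],
    step hA he (fun w => ?_), map_mul σ, ← mul_assoc, mul_assoc _ (σ (n 0)), hn, n1_sandwich hA, smul_smul, smul_smul,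
    mul_assoc (ev σ (n 1))]
  · rw [← hy]; exact hU w
  · rw [show n 1 * n 0 * n 1 * (n 0)⁻¹ * x 6 w * (n 1 * n 0 * n 1 * (n 0)⁻¹)⁻¹ =
      n 1 * (n 0 * (n 1 * ((n 0)⁻¹ * x 6 w * n 0) * (n 1)⁻¹) * (n 0)⁻¹) * (n 1)⁻¹ by group,
      n_inv_conj (r := 10) (e := -1) (by decide +kernel), n_conj (k := 11) (e := 1) (by decide +kernel),
      n_conj (k := 11) (e := 1) (by decide +kernel), n_conj (k := 10) (e := -1) (by decide +kernel)]
    exact x_mem (by decide) _

end Cfsg.Lib.Chev.G2Deg
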