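import Cfsg.Agent.Lib.Chev.TriDegreeData

/-!
# Multiplicities of characters inside the range of an invariant projection
-/

set_option autoImplicit false
set_option linter.unusedSectionVars false

namespace Cfsg.Lib.Chev.G2Deg

open Cfsg.Lib.Linear.MinDegree Cfsg.Lib.Chev.TriDeg

variable {V : Type*} [AddCommGroup V] [Module ℂ V] [FiniteDimensional ℂ V]
variable {W : Type*} [AddCommGroup W] [Fintype W]

local notation "tr" => LinearMap.trace ℂ V

/-- The multiplicity of a character in the range of a projection. -/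
noncomputable def mlt (R : Multiplicative W →* Module.End ℂ V) (P : Module.End ℂ V) (θ : AddChar W ℂ) : ℕ :=
  Module.finrank ℂ (LinearMap.range (proj R θ * P))

section

variable {R : Multiplicative W →* Module.End ℂ V} {P : Module.End ℂ V}

/-- The projection is invariant. -/
def Inv (R : Multiplicative W →* Module.End ℂ V) (P : Module.End ℂ V) : Prop :=
  IsIdempotentElem P ∧ ∀ b, Commute (R (.ofAdd b)) P

theorem inv_id : Inv R (1 : Module.End ℂ V) := ⟨IsIdempotentElem.one, fun _ => Commute.one_right _⟩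

theorem proj_commute {B : Module.End ℂ V} (h : ∀ b, Commute (R (.ofAdd b)) B) (θ : AddChar W ℂ) :
    Commute (proj R θ) B :=
  (Commute.sum_left _ _ _ fun b _ => (h b).smul_left _).smul_left _

theorem Inv.idem (h : Inv R P) (θ : AddChar W ℂ) : IsIdempotentElem (proj R θ * P) :=
  IsIdempotentElem.mul_of_commute (proj_commute h.2 θ) (proj_mul_self R θ) h.1

theorem tr_mlt (h : Inv R P) (θ : AddChar W ℂ) : tr (proj R θ * P) = mlt R P θ :=
  ((LinearMap.isProj_range_iff_isIdempotentElem _).2 (h.idem θ)).trace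

theorem tr_proj (R : Multiplicative W →* Module.End ℂ V) (θ : AddChar W ℂ) : tr (proj R θ) = mlt R 1 θ := by
  conv_lhs => rw [← mul_one (proj R θ)]
  exact tr_mlt inv_id θ

theorem sum_mlt (h : Inv R P) : ((∑ θ, mlt R P θ : ℕ) : ℂ) = tr P := by
  push_cast
  simp only [← tr_mlt h, ← map_sum, ← Finset.sum_mul, sum_proj, one_mul]

theorem sum_mlt_one : ∑ θ, mlt R 1 θ = Module.finrank ℂ V := by
  have := sum_mlt (R := R) (P := 1) inv_id
  rw [LinearMap.trace_one] at this
  exact_mod_cast this

theorem proj_mul_eq_zero (h : Inv R P) {θ : AddChar W ℂ} (h0 : mlt R P θ = 0) : proj R θ * P = 0 :=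
  eq_zero_of_trace_zero (h.idem θ) (by rw [tr_mlt h, h0, Nat.cast_zero])

theorem mlt_ne_zero (h : Inv R P) {θ : AddChar W ℂ} {Q : Module.End ℂ V} (hQ : Q ≠ 0) (hP : P * Q = Q)
    (hR : ∀ b, R (.ofAdd b) * Q = θ b • Q) : mlt R P θ ≠ 0 := fun h0 => hQ <| by
  have h1 := proj_mul_eigen R hR
  rw [← hP, ← mul_assoc, proj_mul_eq_zero h h0, zero_mul] at h1
  rw [← hP]
  exact h1.symm

theorem tr_conj {g g' A B : Module.End ℂ V} (hg : g' * g = 1) (h : g * A * g' = B) : tr A = tr B := by
  rw [← h, LinearMap.trace_mul_comm, ← mul_assoc, hg, one_mul]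

theorem conj_mul' {g g' A B : Module.End ℂ V} (hg : g' * g = 1) : g * (A * B) * g' = g * A * g' * (g * B * g') := by
  calc g * (A * B) * g' = g * A * (g' * g) * (B * g') := by rw [hg]; noncomm_ring
    _ = _ := by noncomm_ring

/-- A conjugation moves multiplicities. -/
theorem mlt_conj {P' g g' : Module.End ℂ V} (h : Inv R P) (h' : Inv R P') (hg : g' * g = 1) (τ : W ≃ W)
    (hτ : ∀ b, g * R (.ofAdd b) * g' = R (.ofAdd (τ b))) (hP : g * P * g' = P') {θ θ' : AddChar W ℂ}
    (hθ : ∀ b, θ' (-τ b) = θ (-b)) : mlt R P θ = mlt R P' θ' := by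
  have e : g * (proj R θ * P) * g' = proj R θ' * P' := by rw [conj_mul' hg, conj_proj R τ hτ θ θ' hθ, hP]
  have := tr_conj hg e
  rw [tr_mlt h, tr_mlt h', Nat.cast_inj] at this
  exact this

/-- The multiplicities of the second factor are marginals. -/
theorem mlt_marginal {U : Type*} [AddCommGroup U] [Fintype U] (R2 : Multiplicative W →* Module.End ℂ V)
    (R3 : Multiplicative (U × W) →* Module.End ℂ V)
    (hR : ∀ b, R2 (.ofAdd b) = R3 (.ofAdd ((0 : U), b))) (θ : AddChar W ℂ) :
    mlt R2 1 θ = ∑ γ : AddChar U ℂ, mlt R3 1 (mk γ θ) := by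
  have h := congrArg tr (sum_marginal R2 R3 hR θ)
  simp only [map_sum, tr_proj] at h
  exact_mod_cast h.symm

end

/-- On a line every operator is a scalar. -/
theorem rank_one {P : Module.End ℂ V} (hP : IsIdempotentElem P) (h1 : tr P = 1) (X : Module.End ℂ V) :
    P * X * P = tr (X * P) • P := by
  have hp := (LinearMap.isProj_range_iff_isIdempotentElem P).2 hP
  have h2 : Module.finrank ℂ (LinearMap.range P) = 1 := by
    have := hp.trace.symm.trans h1
    exact_mod_cast this
  obtain ⟨⟨v, hv⟩, hv0, hspan⟩ := finrank_eq_one_iff'.1 h2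
  have hc : ∀ w, ∃ a : ℂ, P w = a • v := fun w => by
    obtain ⟨a, ha⟩ := hspan ⟨P w, ⟨w, rfl⟩⟩
    exact ⟨a, (congrArg Subtype.val ha).symm⟩
  obtain ⟨c, hc'⟩ := hc (X v)
  have e : P * X * P = c • P := LinearMap.ext fun w => by
    obtain ⟨a, ha⟩ := hc w
    simp only [Module.End.mul_apply, LinearMap.smul_apply, ha, map_smul, hc', smul_comm c a]
  have := congrArg tr e
  rw [map_smul, h1, smul_eq_mul, mul_one, LinearMap.trace_mul_comm, ← mul_assoc, hP.eq,
    LinearMap.trace_mul_comm] at this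
  rw [this, ← e]

/-- An operator that moves an idempotent to one orthogonal to it has trace zero on it. -/
theorem tr_mul_eq_zero {A P P' : Module.End ℂ V} (hP : IsIdempotentElem P) (h : A * P = P' * A)
    (h0 : P * P' = 0) : tr (A * P) = 0 := by
  rw [show A * P = P' * A * P by rw [← h, mul_assoc, hP.eq], mul_assoc, LinearMap.trace_mul_comm, mul_assoc, h0,
    mul_zero, map_zero]

/-- Projections of distinct characters are orthogonal. -/
theorem proj_mul_proj {R : Multiplicative W →* Module.End ℂ V} {θ θ' : AddChar W ℂ} (h : θ' ≠ θ) :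
    proj R θ * proj R θ' = 0 := by
  rw [proj.eq_def R θ, smul_mul_assoc, Finset.sum_mul]
  simp only [smul_mul_assoc, R_mul_proj, smul_smul, ← Finset.sum_smul]
  have h2 : ∀ a, θ (-a) * θ' a = (θ⁻¹ * θ') a := fun a => by rw [AddChar.mul_apply, AddChar.inv_apply]
  simp only [h2]
  rw [AddChar.sum_eq_zero_iff_ne_zero.2 fun e => h (inv_mul_eq_one.1 e).symm, mul_zero, zero_smul]

end Cfsg.Lib.Chev.G2Deg
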