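import Cfsg.Agent.Lib.Chev.G2Degree.Radical

/-!
# The character at a torus element of order three

The degree being `q ^ 3 - 1`, every line of the decomposition is fixed by it.
-/

set_option autoImplicit false
set_option linter.unusedSectionVars false

namespace Cfsg.Lib.Chev.G2Deg

open Cfsg.Lie Cfsg.Lib.Linear.MinDegree Cfsg.Lib.Chev.TriDeg

variable {K : Type*} [Field K] [Fintype K]
variable {V : Type*} [AddCommGroup V] [Module ℂ V] [FiniteDimensional ℂ V]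
variable (σ : ↥(chevG2.group K) →* Module.End ℂ V)
variable {u : Kˣ} (hu3 : (u : K) ^ 3 = 1) (hu : (u : K) ≠ 1)

local notation "tr" => LinearMap.trace ℂ V

theorem mul_eq_zero_of_sigma {g : ↥(chevG2.group K)} {X : Module.End ℂ V} (h : σ g * X = 0) : X = 0 := by
  have := congrArg (σ g⁻¹ * ·) h
  simpa [← mul_assoc, ← map_mul] using this

/-- A torus element as an equivalence of the characters' group. -/
def tauTor (a b c : Kˣ) : K × (K × K) ≃ K × (K × K) :=
  (Equiv.mulLeft₀ (a : K) a.ne_zero).prodCongr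
    ((Equiv.mulLeft₀ (b : K) b.ne_zero).prodCongr (Equiv.mulLeft₀ (c : K) c.ne_zero))

theorem tor_eE (a b : Kˣ) (p : K × (K × K)) :
    tor a b * eE (.ofAdd p) * (tor a b)⁻¹ = eE (.ofAdd (tauTor a (a ^ 3 / b) b p)) := by
  obtain ⟨t, d, z⟩ := p
  show _ = eE (.ofAdd ((a : K) * t, ((a ^ 3 / b : Kˣ) : K) * d, (b : K) * z))
  rw [eE_apply, eE_apply, ← conj_mul, ← conj_mul, tor9, tor10, tor11, Units.val_div_eq_div_val,
    Units.val_pow_eq_pow_val]

include hu3

theorem sigma_cube : σ (tor u 1) * σ (tor u 1) * σ (tor u 1) = 1 := by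
  rw [← map_mul, ← map_mul, tor_mul, tor_mul, one_mul, one_mul,
    show u * u * u = 1 from Units.ext (by rw [Units.val_mul, Units.val_mul, Units.val_one, ← hu3]; ring), tor_one,
    map_one]

/-- The eigenvalue on one of the lines. -/
noncomputable def lineVal (δ lam : AddChar K ℂ) : ℂ := tr (σ (tor u 1) * proj (R3 σ) (mk 1 (mk δ lam)))

omit hu3 in
theorem tor_u_comm (δ lam : AddChar K ℂ) (hu3 : (u : K) ^ 3 = 1) :
    σ (tor u 1) * proj (R3 σ) (mk 1 (mk δ lam)) = proj (R3 σ) (mk 1 (mk δ lam)) * σ (tor u 1) := by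
  refine commute_proj (R3 σ) (sigma_inv_mul σ _) (tauTor u (u ^ 3 / 1) 1)
    (fun p => by rw [R3_apply, R3_apply, ← map_mul, ← map_mul, tor_eE]) _ fun p => ?_
  obtain ⟨t, d, z⟩ := p
  simp [tauTor, hu3]

include hu

/-- The lines carrying a non-trivial character of the short root group contribute nothing. -/
theorem tr_off {γ : AddChar K ℂ} (hγ : γ ≠ 1) (δ lam : AddChar K ℂ) :
    tr (σ (tor u 1) * proj (R3 σ) (mk γ (mk δ lam))) = 0 := by
  obtain ⟨γ', hγ'⟩ : ∃ γ' : AddChar K ℂ, ∀ t, γ' ((u : K) * t) = γ t :=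
    ⟨γ.mulShift ((u : K)⁻¹), fun t => by
      rw [AddChar.mulShift_apply, ← mul_assoc, inv_mul_cancel₀ u.ne_zero, one_mul]⟩
  have h := conj3 σ (tor u 1) (tauTor u (u ^ 3 / 1) 1) (tor_eE u 1) (θ := mk γ (mk δ lam))
    (θ' := mk γ' (mk δ lam)) fun p => by
      obtain ⟨t, d, z⟩ := p
      simp [tauTor, hu3, ← hγ']
  have hne : mk γ' (mk δ lam) ≠ mk γ (mk δ lam) := fun e => hγ (char_eq_one_of_scale hu fun t => by
    rw [← (mk_inj e).1, hγ', (mk_inj e).1])
  refine tr_mul_eq_zero (proj_mul_self _ _) (P' := proj (R3 σ) (mk γ' (mk δ lam))) ?_ (proj_mul_proj hne)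
  rw [← h, mul_assoc _ (σ (tor u 1)⁻¹), sigma_inv_mul, mul_one]

theorem tr_R2 (δ lam : AddChar K ℂ) :
    tr (σ (tor u 1) * proj (R2 σ) (mk δ lam)) = lineVal σ (u := u) δ lam := by
  classical
  rw [← sum_marginal (R2 σ) (R3 σ) (R2_apply σ), Finset.mul_sum, map_sum,
    Finset.sum_eq_single (1 : AddChar K ℂ) (fun γ _ hγ => tr_off σ hu3 hu hγ δ lam)
      (fun h => absurd (Finset.mem_univ _) h)]
  rfl

omit hu in
theorem lineVal_move {g : ↥(chevG2.group K)} (τ : K × (K × K) ≃ K × (K × K))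
    (hg : ∀ p, g * eE (.ofAdd p) * g⁻¹ = eE (.ofAdd (τ p))) (hc : g * tor u 1 * g⁻¹ = tor u 1)
    {δ lam δ' lam' : AddChar K ℂ} (hθ : ∀ p, mk 1 (mk δ' lam') (-τ p) = mk (1 : AddChar K ℂ) (mk δ lam) (-p)) :
    lineVal σ (u := u) δ lam = lineVal σ (u := u) δ' lam' :=
  tr_conj (sigma_inv_mul σ g) (by
    rw [conj_mul' (sigma_inv_mul σ g), conj3 σ g τ hg hθ, ← map_mul σ, ← map_mul σ, hc])

omit hu in
/-- All lines have the same eigenvalue. -/
theorem lineVal_eq {lam₁ : AddChar K ℂ} (hl₁ : lam₁ ≠ 1) (δ lam : AddChar K ℂ) (h : δ ≠ 1 ∨ lam ≠ 1) :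
    lineVal σ (u := u) δ lam = lineVal σ (u := u) 1 lam₁ := by
  have htor : ∀ lam, lam ≠ 1 → lineVal σ (u := u) 1 lam = lineVal σ (u := u) 1 lam₁ := by
    intro lam hl
    obtain ⟨w, hw⟩ := shift_surjective hl₁ lam
    have hw0 : w ≠ 0 := fun e => hl (DFunLike.ext _ _ fun p => by rw [← hw, e, zero_mul]; simp)
    refine lineVal_move σ hu3 (tauTor 1 (1 ^ 3 / Units.mk0 w hw0) (Units.mk0 w hw0)) (tor_eE _ _) ?_ fun p => ?_
    · rw [tor_inv, tor_mul, tor_mul, one_mul, inv_one, mul_one, mul_one, mul_inv_cancel]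
    · simp [tauTor, ← hw]
  rcases eq_or_ne lam 1 with rfl | hl
  · have hd := h.resolve_right fun e => e rfl
    rw [← htor δ hd]
    let τ : K × (K × K) ≃ K × (K × K) :=
      { toFun := fun p => (p.1, (-p.2.2, p.2.1))
        invFun := fun p => (p.1, (p.2.2, -p.2.1))
        left_inv := fun p => by simp
        right_inv := fun p => by simp }
    refine lineVal_move σ hu3 τ (fun p => n1_conj p.1 p.2.1 p.2.2) ?_ fun p => by simp [τ]
    rw [n_tor (by decide), if_neg one_ne_zero]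
    congr 1
    exact Units.ext (by simp [hu3])
  · rw [← htor lam hl]
    obtain ⟨a, ha⟩ := shift_surjective hl δ
    let τ : K × (K × K) ≃ K × (K × K) :=
      { toFun := fun p => (p.1, (p.2.1, p.2.2 + a * p.2.1))
        invFun := fun p => (p.1, (p.2.1, p.2.2 - a * p.2.1))
        left_inv := fun p => by simp
        right_inv := fun p => by simp }
    refine lineVal_move σ hu3 (g := x 6 a) τ (fun p => ?_) ?_ fun p => ?_
    · have e := eA_conj a 0 p.1 p.2.1 p.2.2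
      rw [eA_apply, x_zero, mul_one, mul_zero, add_zero] at e
      exact e
    · have e := tor6 u 1 a
      rw [Units.val_one, one_pow, hu3, div_one, one_mul, mul_inv_eq_iff_eq_mul] at e
      rw [← e]; group
    · show mk 1 (mk 1 lam) (-p.1, (-p.2.1, -(p.2.2 + a * p.2.1))) = mk 1 (mk δ lam) (-p.1, (-p.2.1, -p.2.2))
      simp only [mk_apply, AddChar.one_apply, one_mul, ← ha]
      rw [← AddChar.map_add_eq_mul]
      congr 1
      ring

variable {r : ℕ} (F : Facts σ r) (hr : r = 1)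
include F hr

theorem line_idem (δ lam : AddChar K ℂ) (h : δ ≠ 1 ∨ lam ≠ 1) :
    σ (tor u 1) * proj (R3 σ) (mk 1 (mk δ lam)) = lineVal σ (u := u) δ lam • proj (R3 σ) (mk 1 (mk δ lam)) :=
  line_scalar (proj_mul_self _ _) (by rw [tr_proj, F.n3 _ _ _ h, hr, Nat.cast_one]) (tor_u_comm σ δ lam hu3)

/-- The common eigenvalue is one. -/
theorem lineVal_one [Nontrivial (AddChar K ℂ)] (δ lam : AddChar K ℂ) (h : δ ≠ 1 ∨ lam ≠ 1) :
    lineVal σ (u := u) δ lam = 1 := by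
  classical
  obtain ⟨lam₁, hl₁⟩ := exists_ne (1 : AddChar K ℂ)
  rw [lineVal_eq σ hu3 hl₁ δ lam h]
  have hui : ((u⁻¹ : Kˣ) : K) ^ 3 = 1 := by rw [Units.val_inv_eq_inv_val, inv_pow, hu3, inv_one]
  have hui1 : ((u⁻¹ : Kˣ) : K) ≠ 1 := fun e => hu (by rw [Units.val_inv_eq_inv_val, inv_eq_one] at e; exact e)
  have hl := line_idem σ hu3 hu F hr 1 lam₁ (Or.inr hl₁)
  obtain ⟨c, hc⟩ : ∃ c, c = lineVal σ (u := u) 1 lam₁ := ⟨_, rfl⟩
  rw [← hc] at hl ⊢
  have he : σ (tor u⁻¹ 1) = σ (tor u 1) * σ (tor u 1) := by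
    rw [← map_mul, tor_mul, one_mul, show u⁻¹ = u * u from
      inv_eq_of_mul_eq_one_right (Units.ext (by rw [Units.val_mul, Units.val_mul, Units.val_one, ← hu3]; ring))]
  have htr1 : tr (proj (R3 σ) (mk 1 (mk 1 lam₁))) = 1 := by
    rw [tr_proj, F.n3 _ _ _ (Or.inr hl₁), hr, Nat.cast_one]
  have hc2 : lineVal σ (u := u⁻¹) 1 lam₁ = c * c := by
    rw [lineVal, he, mul_assoc, hl, mul_smul_comm, hl, smul_smul, LinearMap.map_smul, smul_eq_mul, htr1, mul_one]
  have hc3 : c * c * c = 1 := by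
    have h1 : σ (tor u 1) * σ (tor u 1) * σ (tor u 1) * proj (R3 σ) (mk 1 (mk 1 lam₁)) =
        (c * c * c) • proj (R3 σ) (mk 1 (mk 1 lam₁)) := by
      rw [mul_assoc, hl, mul_smul_comm, mul_assoc, hl, mul_smul_comm, hl, smul_smul, smul_smul, mul_assoc]
    rw [sigma_cube σ hu3, one_mul] at h1
    have h2 := congrArg tr h1
    rw [LinearMap.map_smul, smul_eq_mul, htr1, mul_one] at h2
    exact h2.symm
  -- the short simple reflection fixes the centre and inverts the element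
  obtain ⟨R1, hR1⟩ : ∃ R : Multiplicative K →* Module.End ℂ V, ∀ z, R (.ofAdd z) = R2 σ (.ofAdd ((0 : K), z)) :=
    ⟨(R2 σ).comp (AddMonoidHom.toMultiplicative (AddMonoidHom.inr K K)), fun z => rfl⟩
  have hsum : ∀ {w : Kˣ}, (w : K) ^ 3 = 1 → (w : K) ≠ 1 →
      tr (σ (tor w 1) * proj R1 lam₁) = (Fintype.card K : ℂ) * lineVal σ (u := w) 1 lam₁ := by
    intro w hw3 hw
    rw [← sum_marginal R1 (R2 σ) hR1, Finset.mul_sum, map_sum,
      Finset.sum_congr rfl fun δ _ => (tr_R2 σ hw3 hw δ lam₁).trans (lineVal_eq σ hw3 hl₁ δ lam₁ (Or.inr hl₁))]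
    simp [AddChar.card_eq]
  have hfix : σ (n 0) * proj R1 lam₁ * σ (n 0)⁻¹ = proj R1 lam₁ :=
    conj_proj R1 (Equiv.refl K) (fun z => by
      rw [hR1, R2_apply, R3_apply, eE_apply, x_zero, x_zero, one_mul, one_mul, ← map_mul, ← map_mul,
        n_conj (k := 11) (e := 1) (by decide +kernel)]
      simp [hR1, R2_apply, R3_apply, eE_apply, x_zero]) _ _ fun z => rfl
  have hinv : tr (σ (tor u 1) * proj R1 lam₁) = tr (σ (tor u⁻¹ 1) * proj R1 lam₁) := by
    refine tr_conj (sigma_inv_mul σ (n 0)) ?_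
    rw [conj_mul' (sigma_inv_mul σ (n 0)), hfix, ← map_mul σ, ← map_mul σ, n_tor (by decide), if_pos rfl, one_div]
  rw [hsum hu3 hu, hsum hui hui1, hc2, ← hc] at hinv
  have hq : (Fintype.card K : ℂ) ≠ 0 := Nat.cast_ne_zero.2 Fintype.card_ne_zero
  have h2 := mul_left_cancel₀ hq hinv
  rw [← h2] at hc3
  rwa [← h2] at hc3

/-- The character at the element. -/
theorem tr_tor [Nontrivial (AddChar K ℂ)] (h1 : mF σ 1 = 0) (hm : ∀ α, α ≠ 1 → mF σ α = 1) :
    tr (σ (tor u 1)) = (Fintype.card K : ℂ) ^ 2 + (Fintype.card K : ℂ) - 2 := by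
  classical
  have hui : ((u⁻¹ : Kˣ) : K) ^ 3 = 1 := by rw [Units.val_inv_eq_inv_val, inv_pow, hu3, inv_one]
  have hui1 : ((u⁻¹ : Kˣ) : K) ≠ 1 := fun e => hu (by rw [Units.val_inv_eq_inv_val, inv_eq_one] at e; exact e)
  have hs6 : ∀ a : K, σ (tor u 1) * RF σ (.ofAdd a) = RF σ (.ofAdd a) * σ (tor u 1) := fun a => by
    have e := tor6 u 1 a
    rw [Units.val_one, one_pow, hu3, div_one, one_mul, mul_inv_eq_iff_eq_mul] at e
    rw [RF_apply, ← map_mul, ← map_mul, e]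
  have hP0 : σ (tor u 1) * P0 σ = P0 σ * σ (tor u 1) := by
    rw [P0]
    refine commute_proj (R2 σ) (sigma_inv_mul σ _) (Equiv.refl _) (fun p => ?_) 1 fun p => rfl
    rw [R2_apply, R3_apply, ← map_mul, ← map_mul, tor_eE]
    simp [tauTor, hu3, R2_apply, R3_apply]
  have hT : ∀ α, α ≠ 1 → tr (σ (tor u 1) * (proj (RF σ) α * P0 σ)) = 1 := by
    intro α hα
    obtain ⟨L, hL⟩ : ∃ L, L = proj (RF σ) α * P0 σ := ⟨_, rfl⟩
    have h1' : mlt (R3 σ) 1 (mk 1 (mk α 1)) = 1 := by rw [F.n3 _ _ _ (Or.inl hα), hr]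
    obtain ⟨hQ0, hQP, hQR⟩ := moved σ h1' (F.trivA hr α hα)
    obtain ⟨Q, hQ⟩ : ∃ Q, Q = σ (n 0)⁻¹ * proj (R3 σ) (mk 1 (mk α 1)) := ⟨_, rfl⟩
    rw [← hQ] at hQ0 hQP hQR
    have hLQ : L * Q = Q := by rw [hL, mul_assoc, hQP]; exact proj_mul_eigen _ hQR
    have hsQ : σ (tor u 1) * Q = Q := by
      have e := n_tor (i := 0) (by decide) u 1
      rw [if_pos rfl, one_div] at e
      rw [hQ, ← mul_assoc, ← map_mul, show tor u 1 * (n 0)⁻¹ = (n 0)⁻¹ * tor u⁻¹ 1 by rw [← e]; group,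
        map_mul, mul_assoc, line_idem σ hui hui1 F hr α 1 (Or.inl hα), lineVal_one σ hui hui1 F hr α 1 (Or.inl hα),
        one_smul]
    have hLc : σ (tor u 1) * L = L * σ (tor u 1) := by
      rw [hL, ← mul_assoc, ← (proj_commute (fun a => (hs6 a).symm) α).eq, mul_assoc, hP0, mul_assoc]
    have hl := line_scalar (hL ▸ (P0_inv σ).idem α)
      (by rw [hL, tr_mlt (P0_inv σ), ← mF.eq_def σ, hm α hα, Nat.cast_one]) hLc
    have h2 := congrArg (· * Q) hl
    simp only [mul_assoc, hLQ, smul_mul_assoc, hsQ] at h2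
    rw [← hL]
    by_contra hne
    exact hQ0 ((smul_eq_zero.1 (show (tr (σ (tor u 1) * L) - 1) • Q = 0 by
      rw [sub_smul, ← h2, one_smul, sub_self])).resolve_left (sub_ne_zero.2 hne))
  have hP : tr (σ (tor u 1) * P0 σ) = (Fintype.card K : ℂ) - 1 := by
    rw [← one_mul (P0 σ), ← sum_proj (RF σ), Finset.sum_mul, Finset.mul_sum, map_sum,
      ← Finset.add_sum_erase _ _ (Finset.mem_univ 1), proj_mul_eq_zero (P0_inv σ) (by rw [← mF.eq_def σ]; exact h1),
      mul_zero, map_zero, zero_add, Finset.sum_congr rfl fun α hα => hT α (Finset.ne_of_mem_erase hα)]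
    simp [Finset.card_erase_of_mem, AddChar.card_eq, Nat.cast_sub Fintype.card_pos]
  rw [← mul_one (σ (tor u 1)), ← sum_proj (R2 σ), Finset.mul_sum, map_sum,
    ← Finset.add_sum_erase _ _ (Finset.mem_univ 1), ← P0.eq_def σ, hP]
  have hne : ∀ θ ∈ (Finset.univ : Finset (AddChar (K × K) ℂ)).erase 1,
      tr (σ (tor u 1) * proj (R2 σ) θ) = 1 := by
    intro θ hθ
    obtain ⟨⟨δ, lam⟩, hθ'⟩ := mk_bijective.2 θ
    rw [← hθ', tr_R2 σ hu3 hu]
    refine lineVal_one σ hu3 hu F hr δ lam ?_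
    by_contra! hh
    refine Finset.ne_of_mem_erase hθ (hθ'.symm.trans ?_)
    simp only [hh.1, hh.2]
    exact mk_one_one
  rw [Finset.sum_congr rfl hne]
  simp [Finset.card_erase_of_mem, AddChar.card_eq, Nat.cast_sub (show 1 ≤ Fintype.card K * Fintype.card K from
    Nat.one_le_iff_ne_zero.2 (mul_ne_zero Fintype.card_ne_zero Fintype.card_ne_zero))]
  ring

end Cfsg.Lib.Chev.G2Deg
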