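import Cfsg.Agent.Lib.Chev.G2Degree.OneFixed
import Cfsg.Agent.Lib.Chev.G2Degree.OneZero
import Cfsg.Agent.Lib.Chev.G2Degree.Centralizer
import Cfsg.Agent.Lib.Chev.OrderG2
import Cfsg.Agent.Lib.Chev.FullAll
import Cfsg.Agent.Lib.Char.Basic
import Cfsg.Agent.Lib.Char.Central

/-!
# The bounds for G₂, the characteristic not three
-/

set_option autoImplicit false
set_option linter.unusedSectionVars false

namespace Cfsg.Lib.Chev.G2Deg

open Cfsg.Lie Cfsg.Lib.Linear.MinDegree Cfsg.Lib.Chev.TriDeg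

variable {K : Type*} [Field K] [Fintype K]
variable {V : Type*} [AddCommGroup V] [Module ℂ V] [FiniteDimensional ℂ V]
variable {σ : ↥(chevG2.group K) →* Module.End ℂ V}

theorem no_integral {q j cls : ℕ} (hq : 7 ≤ q) (hd : q ^ 3 - 1 ∣ cls * (q ^ 2 + q - 2))
    (ho : (q ^ 3 - 1) * j * cls = q ^ 6 * ((q ^ 2 - 1) * (q ^ 6 - 1))) : False := by
  obtain ⟨m, hm⟩ := hd
  obtain ⟨x, hx⟩ : ∃ x : ℤ, x = q := ⟨_, rfl⟩
  have h2 : 1 ≤ q ^ 2 := Nat.one_le_pow _ _ (by omega)
  have h3 : 1 ≤ q ^ 3 := Nat.one_le_pow _ _ (by omega)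
  have h6 : 1 ≤ q ^ 6 := Nat.one_le_pow _ _ (by omega)
  have h22 : 2 ≤ q ^ 2 + q := by omega
  have ho' : (x ^ 3 - 1) * j * cls = x ^ 6 * ((x ^ 2 - 1) * (x ^ 6 - 1)) := by
    have := congrArg (Nat.cast (R := ℤ)) ho
    push_cast [Nat.cast_sub h2, Nat.cast_sub h3, Nat.cast_sub h6] at this
    rw [hx]; exact this
  have hm' : (cls : ℤ) * (x ^ 2 + x - 2) = (x ^ 3 - 1) * m := by
    have := congrArg (Nat.cast (R := ℤ)) hm
    push_cast [Nat.cast_sub h22, Nat.cast_sub h3] at this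
    rw [hx]; exact this
  have hne : x ^ 3 - 1 ≠ 0 := by
    have h7 : 7 ^ 3 ≤ q ^ 3 := Nat.pow_le_pow_left hq 3
    have : (343 : ℤ) ≤ x ^ 3 := by rw [hx]; exact_mod_cast h7
    omega
  have e1 : (x ^ 3 - 1) * (j * m) = x ^ 6 * ((x ^ 2 - 1) * (x ^ 3 + 1)) * (x ^ 2 + x - 2) := by
    refine mul_left_cancel₀ hne ?_
    linear_combination (x ^ 2 + x - 2) * ho' - ((x ^ 3 - 1) * j) * hm'
  have hne' : x - 1 ≠ 0 := by
    have : (7 : ℤ) ≤ x := by rw [hx]; exact_mod_cast hq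
    omega
  have e2 : (x ^ 2 + x + 1) * (j * m) = x ^ 6 * ((x ^ 2 - 1) * (x ^ 3 + 1)) * (x + 2) := by
    refine mul_left_cancel₀ hne' ?_
    linear_combination e1
  have h6' : (x ^ 2 + x + 1) ∣ (6 : ℤ) * (x ^ 2) := by
    refine ⟨j * m - (2 * (x - 2) + (x - 1) * ((x ^ 3 + 1) ^ 2 + 1) * ((x ^ 2 - 1) * (x + 2))), ?_⟩
    linear_combination -e2
  have hco : IsCoprime (x ^ 2 + x + 1) (x ^ 2) := IsCoprime.pow_right ⟨1, -(x + 1), by ring⟩
  have h6'' := Int.le_of_dvd (by norm_num) (hco.dvd_of_dvd_mul_right h6')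
  have : (7 : ℤ) ≤ x := by rw [hx]; exact_mod_cast hq
  nlinarith

theorem three_ne_zero (h : Fintype.card K % 3 ≠ 0) : (3 : K) ≠ 0 := fun h3 => h <| by
  haveI : Fact (Nat.Prime 3) := ⟨Nat.prime_three⟩
  have h2 : addOrderOf (1 : K) = 3 := addOrderOf_eq_prime (by rw [nsmul_one]; exact_mod_cast h3) one_ne_zero
  exact Nat.mod_eq_zero_of_dvd (h2 ▸ addOrderOf_dvd_card)

theorem exists_unit_pow_ne {m : ℕ} (hm : m + 1 < Fintype.card K) (hm0 : 0 < m) : ∃ u : Kˣ, (u : K) ^ m ≠ 1 := by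
  classical
  by_contra! h
  obtain ⟨g, hg⟩ := IsCyclic.exists_generator (α := Kˣ)
  have h2 := Nat.le_of_dvd hm0 (orderOf_dvd_of_pow_eq_one (Units.ext (by rw [Units.val_pow_eq_pow_val, h, Units.val_one]) :
    g ^ m = 1))
  rw [orderOf_eq_card_of_forall_mem_zpowers hg, Nat.card_units, Nat.card_eq_fintype_card] at h2
  omega

/-- The data, when the field is large enough. -/
theorem facts_of_card (h : Fintype.card K % 3 ≠ 0) (h4 : 4 < Fintype.card K) (hσ : Function.Injective σ) :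
    ∃ r, Facts σ r :=
  exists_facts σ (three_ne_zero h) (exists_unit_pow_ne (by omega) (by norm_num)) (exists_unit_pow_ne (by omega) (by norm_num)) hσ

/-- The first bound. -/
theorem sum_split {r : ℕ} (F : Facts σ r) : Module.finrank ℂ V =
    (Fintype.card K ^ 2 - 1) * (Fintype.card K * r) + mF σ 1 +
      ∑ α ∈ (Finset.univ : Finset (AddChar K ℂ)).erase 1, mF σ α := by
  classical
  rw [F.total, ← Finset.add_sum_erase _ _ (Finset.mem_univ (1 : AddChar K ℂ)), add_assoc]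

theorem cube_split (q : ℕ) (hq : 1 ≤ q) : (q ^ 2 - 1) * q + q = q ^ 3 := by
  rw [← Nat.succ_mul, Nat.succ_eq_add_one, Nat.sub_add_cancel (Nat.one_le_pow _ _ hq)]; ring

/-- The torus permutes the non-trivial characters of the root group `6` transitively. -/
theorem mF_uniform (σ : ↥(chevG2.group K) →* Module.End ℂ V) {α β : AddChar K ℂ} (hα : α ≠ 1) (hβ : β ≠ 1) :
    mF σ β = mF σ α := by
  obtain ⟨w, hw⟩ := shift_surjective hα β
  have hw0 : w ≠ 0 := fun e => hβ (DFunLike.ext _ _ fun p => by rw [← hw, e, zero_mul]; simp)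
  obtain ⟨u, hu⟩ : ∃ u : Kˣ, (u : K) = w := ⟨Units.mk0 w hw0, rfl⟩
  refine mlt_conj (P0_inv σ) (P0_inv σ) (g := σ (tor u (u ^ 2))) (g' := σ (tor u (u ^ 2))⁻¹) (sigma_inv_mul σ _)
    (Equiv.mulLeft₀ w hw0) (fun a => ?_) ?_ fun a => by simp [← hw]
  · rw [RF_apply, RF_apply, ← map_mul, ← map_mul, tor6]
    congr 2
    show _ = w * a
    rw [← hu, Units.val_pow_eq_pow_val]
    field_simp
  · rw [P0]
    refine conj_proj (R2 σ) ((Equiv.mulLeft₀ _ (u ^ 3 / u ^ 2).ne_zero).prodCongr (Equiv.mulLeft₀ _ (u ^ 2).ne_zero))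
      (fun p => ?_) _ _ fun p => by simp
    rw [R2_apply, R2_apply, R3_apply, R3_apply, ← map_mul, ← map_mul, tor_eE]
    simp [tauTor]

theorem small_case {r : ℕ} (F : Facts σ r) (h2q : 2 < Fintype.card K) (hk : Module.finrank ℂ V ≤ Fintype.card K ^ 3) :
    r = 1 ∧ mF σ 1 ≤ 1 ∧ (∀ α, α ≠ 1 → mF σ α = 1) ∧
      Module.finrank ℂ V = Fintype.card K ^ 3 - 1 + mF σ 1 := by
  classical
  obtain ⟨q, hq⟩ : ∃ q, q = Fintype.card K := ⟨_, rfl⟩
  have hq2 : 2 < q := hq ▸ h2q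
  have hs := sum_split F
  have h3 := cube_split q (by omega)
  have hr : r = 1 := by
    by_contra hne
    have h2 : 2 ≤ r := by have := F.pos; omega
    have : (q ^ 2 - 1) * q * 2 ≤ (q ^ 2 - 1) * (q * r) := by
      rw [mul_assoc]; exact Nat.mul_le_mul_left _ (Nat.mul_le_mul_left _ h2)
    have : 4 * q ≤ q ^ 3 := by
      calc 4 * q ≤ q ^ 2 * q := Nat.mul_le_mul_right _ (by nlinarith)
        _ = q ^ 3 := by ring
    rw [← hq] at hs hk
    omega
  subst hr
  have hcard : ((Finset.univ : Finset (AddChar K ℂ)).erase 1).card = q - 1 := by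
    simp [Finset.card_erase_of_mem, AddChar.card_eq, hq]
  have hlow : q - 1 ≤ ∑ α ∈ (Finset.univ : Finset (AddChar K ℂ)).erase 1, mF σ α := by
    rw [← hcard, Finset.card_eq_sum_ones]
    exact Finset.sum_le_sum fun α hα => F.low rfl α (Finset.ne_of_mem_erase hα)
  rw [← hq, mul_one] at hs
  rw [← hq] at hk ⊢
  have hone : ∀ α, α ≠ 1 → mF σ α = 1 := by
    intro α hα
    have hconst : ∀ β ∈ (Finset.univ : Finset (AddChar K ℂ)).erase 1, mF σ β = mF σ α := fun β hβ =>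
      mF_uniform σ hα (Finset.ne_of_mem_erase hβ)
    rw [Finset.sum_congr rfl hconst, Finset.sum_const, smul_eq_mul, hcard] at hs
    have h2 := F.low rfl α hα
    by_contra hne
    have : (q - 1) * 2 ≤ (q - 1) * mF σ α := Nat.mul_le_mul_left _ (by omega)
    omega
  rw [Finset.sum_congr rfl fun α hα => hone α (Finset.ne_of_mem_erase hα), Finset.sum_const, smul_eq_mul, mul_one,
    hcard] at hs
  exact ⟨rfl, by omega, hone, by omega⟩

/-- The trace at a long root element, when all the multiplicities are equal. -/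
theorem tr_long {r : ℕ} (F : Facts σ r) (h1 : mlt (R2 σ) 1 1 = Fintype.card K * r) :
    LinearMap.trace ℂ V (σ (x 11 1)) = 0 := by
  classical
  have hall : ∀ θ, mlt (R2 σ) 1 θ = Fintype.card K * r := by
    intro θ
    rcases eq_or_ne θ 1 with rfl | hθ
    · exact h1
    obtain ⟨⟨δ, lam⟩, rfl⟩ := mk_bijective.2 θ
    refine F.n2 δ lam ?_
    by_contra! hh
    refine hθ ?_
    simp only [hh.1, hh.2]
    exact mk_one_one
  have e : σ (x 11 (1 : K)) = R2 σ (.ofAdd ((0 : K), (1 : K))) := by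
    rw [R2_apply, R3_apply, eE_apply, x_zero, x_zero, one_mul, one_mul]
  rw [e, ← mul_one (R2 σ _), ← sum_proj (R2 σ), Finset.mul_sum, map_sum]
  simp only [R_mul_proj, LinearMap.map_smul, smul_eq_mul, tr_proj, hall, ← Finset.sum_mul]
  rw [AddChar.sum_apply_eq_ite, if_neg (by simp), zero_mul]

section Irreducible

variable {k : ℕ} (ρ : Representation ℂ (chevG2.group K) (Fin k → ℂ))

/-- Schur's lemma for the sum over a class. -/
theorem sum_conj_eq_zero [Fintype ↥(chevG2.group K)] (hρ : ρ.IsIrreducible) (hk : 0 < k) (z : ↥(chevG2.group K))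
    (hz : LinearMap.trace ℂ (Fin k → ℂ) (ρ z) = 0) : ∑ g : ↥(chevG2.group K), ρ (g * z * g⁻¹) = 0 := by
  haveI := hρ
  obtain ⟨T, hT⟩ : ∃ T, T = ∑ g : ↥(chevG2.group K), ρ (g * z * g⁻¹) := ⟨_, rfl⟩
  have hcomm : ∀ h, T * ρ h = ρ h * T := fun h => by
    rw [hT, Finset.sum_mul, Finset.mul_sum]
    simp only [← map_mul]
    exact Fintype.sum_equiv (Equiv.mulLeft h⁻¹) _ _ fun g => by rw [Equiv.coe_mulLeft]; congr 1; group
  let T' : Representation.IntertwiningMap ρ ρ := ⟨T, fun g => hcomm g⟩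
  obtain ⟨c, hc⟩ :=
    (Representation.IsIrreducible.algebraMap_intertwiningMap_bijective_of_isAlgClosed (ρ := ρ)).2 T'
  have hc' : T = c • (1 : Module.End ℂ (Fin k → ℂ)) :=
    (congrArg Representation.IntertwiningMap.toLinearMap hc).symm
  have h0 : LinearMap.trace ℂ (Fin k → ℂ) T = 0 := by
    rw [hT, map_sum]
    refine Finset.sum_eq_zero fun g _ => ?_
    rw [map_mul, LinearMap.trace_mul_comm, ← map_mul, show g⁻¹ * (g * z) = z by group, hz]
  rw [hc', LinearMap.map_smul, LinearMap.trace_one, Module.finrank_fin_fun, smul_eq_mul] at h0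
  rw [← hT, hc', (mul_eq_zero.1 h0).resolve_right (Nat.cast_ne_zero.2 hk.ne'), zero_smul]

variable (hρ : ρ.IsIrreducible) (hinj : Function.Injective ρ)
include hρ hinj

theorem low_bound (h : Fintype.card K % 3 ≠ 0) (h4 : 4 < Fintype.card K) : Fintype.card K ^ 3 - 1 ≤ k := by
  obtain ⟨r, F⟩ := facts_of_card (σ := ρ) h h4 hinj
  by_contra hlt
  have := (small_case F (by omega) (by rw [Module.finrank_fin_fun]; omega)).2.2.2
  rw [Module.finrank_fin_fun] at this
  omega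

theorem not_fixed (h : Fintype.card K % 3 ≠ 0) (h4 : 4 < Fintype.card K) (hk : k ≤ Fintype.card K ^ 3) (hk0 : 0 < k)
    {r : ℕ} (F : Facts (σ := ρ) r) : mF (ρ : ↥(chevG2.group K) →* Module.End ℂ (Fin k → ℂ)) 1 = 0 := by
  classical
  obtain ⟨hr, h1, hm, -⟩ := small_case F (by omega) (by rw [Module.finrank_fin_fun]; exact hk)
  by_contra hne
  have h11 : mF (ρ : ↥(chevG2.group K) →* Module.End ℂ (Fin k → ℂ)) 1 = 1 := by omega
  letI : Fintype ↥(chevG2.group K) := Fintype.ofFinite _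
  have hA := tr_A (ρ : ↥(chevG2.group K) →* Module.End ℂ (Fin k → ℂ)) h11
  obtain ⟨u, hu⟩ := exists_unit_pow_ne (K := K) (m := 1) (by omega) (by norm_num)
  refine class_sum_ne hA ⟨u, by rwa [pow_one] at hu⟩ (sum_conj_eq_zero ρ hρ hk0 _ (tr_long F ?_))
  rw [← sum_mF, ← Finset.add_sum_erase _ _ (Finset.mem_univ (1 : AddChar K ℂ)), h11,
    Finset.sum_congr rfl fun α hα => hm α (Finset.ne_of_mem_erase hα), Finset.sum_const, smul_eq_mul, mul_one,
    Finset.card_erase_of_mem (Finset.mem_univ _), Finset.card_univ, card_chars, hr, mul_one]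
  have := Fintype.card_pos (α := K)
  omega

theorem one_bound (h : Fintype.card K % 3 = 1) (h4 : 4 < Fintype.card K) : Fintype.card K ^ 3 + 1 ≤ k := by
  classical
  obtain ⟨r, F⟩ := facts_of_card (σ := ρ) (by omega) h4 hinj
  by_contra hlt
  have hfin : Module.finrank ℂ (Fin k → ℂ) ≤ Fintype.card K ^ 3 := by rw [Module.finrank_fin_fun]; omega
  obtain ⟨hr, -, hm, hk⟩ := small_case F (by omega) hfin
  rw [Module.finrank_fin_fun] at hk hfin
  have hq7 : 7 ≤ Fintype.card K := by omega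
  have hq3 : 7 ^ 3 ≤ Fintype.card K ^ 3 := Nat.pow_le_pow_left hq7 3
  have h0 := not_fixed ρ hρ hinj (by omega) h4 hfin (by omega) F
  rw [h0, add_zero] at hk
  obtain ⟨q, hq⟩ : ∃ q, q = Fintype.card K := ⟨_, rfl⟩
  obtain ⟨g, hg⟩ : ∃ g, orderOf (g : Kˣ) = 3 := by
    haveI : Fact (Nat.Prime 3) := ⟨Nat.prime_three⟩
    exact exists_prime_orderOf_dvd_card' 3 (by rw [Nat.card_units, Nat.card_eq_fintype_card]; omega)
  have hu3 : (g : K) ^ 3 = 1 := by
    rw [← Units.val_pow_eq_pow_val, show g ^ 3 = 1 from hg ▸ pow_orderOf_eq_one g, Units.val_one]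
  have hu : (g : K) ≠ 1 := fun e => by
    rw [orderOf_eq_one_iff.2 (Units.ext e : g = 1)] at hg; omega
  haveI : Nontrivial (AddChar K ℂ) := Fintype.one_lt_card_iff_nontrivial.1 (by
    rw [card_chars]; exact Fintype.one_lt_card)
  have htr := tr_tor (ρ : ↥(chevG2.group K) →* Module.End ℂ (Fin k → ℂ)) hu3 hu F hr h0 hm
  obtain ⟨j, hj⟩ := dvd_card_centralizer (K := K) hu3 hu
  letI : Fintype ↥(chevG2.group K) := Fintype.ofFinite _
  obtain ⟨cls, hcls⟩ : ∃ c, c = (Cfsg.Lib.Char.classFinset (tor g (1 : Kˣ))).card := ⟨_, rfl⟩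
  have horder := (Subgroup.centralizer ({tor g 1} : Set ↥(chevG2.group K))).card_mul_index
  rw [← Cfsg.Lib.Char.card_classFinset, ← hcls, hj, ← hq] at horder
  haveI := hρ
  have hint := Cfsg.Lib.Char.isIntegral_centralChar ρ (tor g 1)
  rw [← hcls, Module.finrank_fin_fun, Representation.character, htr, hk, ← hq] at hint
  have hdvd : q ^ 3 - 1 ∣ cls * (q ^ 2 + q - 2) := by
    refine Cfsg.Lib.Char.natCast_dvd_of_isIntegral (by rw [hq]; omega) ?_
    rw [Nat.cast_mul, Nat.cast_sub (show 2 ≤ q ^ 2 + q by nlinarith)]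
    push_cast
    exact hint
  have hG := Cfsg.Lib.Chev.order_formula (F := K) certG2 fullCertG2 chkWeylG2 torusCertG2
    (polyG2 Nat.card_pos)
  rw [show chevG2.nroots / 2 = 6 from rfl, Nat.card_eq_fintype_card (α := K), ← hq] at hG
  have hG' : (∏ k, (q - 1).gcd ((![1, 1] : Fin 2 → ℕ) k)) * Nat.card ↥(chevG2.group K) = _ := hG
  simp [Fin.prod_univ_succ] at hG'
  exact no_integral (by omega) hdvd (horder.trans (Nat.card_eq_fintype_card.trans hG'))

end Irreducible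

end Cfsg.Lib.Chev.G2Deg
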