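import Cfsg.Agent.Lib.Chev.G2Degree.FixedVec
import Cfsg.Agent.Lib.Chev.G2Degree.Cells
import Cfsg.Agent.Lib.Chev.WeylG2

/-!
# The class sum of a long root element on a line fixed by a Borel subgroup
-/

set_option autoImplicit false
set_option maxRecDepth 100000
set_option linter.unusedSectionVars false

namespace Cfsg.Lib.Chev.G2Deg

open Cfsg.Lie

variable {K : Type*} [Field K] [Fintype K]
variable {V : Type*} [AddCommGroup V] [Module ℂ V] [FiniteDimensional ℂ V]
variable {σ : ↥(chevG2.group K) →* Module.End ℂ V}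
variable (hA : LinearMap.trace ℂ V (A σ) = 1) (he : ∃ u : Kˣ, (u : K) ≠ 1)

local notation "tr" => LinearMap.trace ℂ V

/-- The lengths and the images of the highest root along the table of the Weyl group. -/
theorem cell_table :
    ((allW (nth ([], []) weylG2) chevG2.rank).map fun w =>
      (((List.range' 6 6).filter fun r => decide (2 * wperm tblG2 w r < 12)).length, wperm tblG2 w 11)).Perm
      [(0, 11), (1, 11), (1, 10), (2, 10), (2, 6), (3, 6), (3, 5), (4, 5), (4, 1), (5, 1), (5, 0), (6, 0)] := by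
  decide +kernel

include hA he

theorem fix_borel {b : ↥(chevG2.group K)} (hb : (b : GL chevG2.Idx K) ∈ chevG2.borelSubgroup K) :
    σ b * A σ = A σ ∧ A σ * σ b = A σ := by
  obtain ⟨u, hu, h, hh, e⟩ := (mem_borel certG2).1 hb
  have hhg : h ∈ chevG2.group K := diag_le_group certG2 hh
  have hug : u ∈ chevG2.group K := pos_le_group certG2 hu
  have hu' : (⟨u, hug⟩ : ↥(chevG2.group K)) ∈ (sub [6, 7, 8, 9, 10, 11] : Subgroup ↥(chevG2.group K)) := by
    have hle : chevG2.posUnipotent K ≤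
        (sub [6, 7, 8, 9, 10, 11] : Subgroup ↥(chevG2.group K)).map (chevG2.group K).subtype := by
      refine (Subgroup.closure_le _).2 ?_
      rintro g ⟨r, t, hr, hg⟩
      have h1 := (certG2.isPos_iff hr.1).1 hr
      have h2 : r < 12 := hr.1
      have h3 : 12 ≤ 2 * r := h1
      refine ⟨x r t, x_mem (by interval_cases r <;> first | omega | decide) t, ?_⟩
      rw [eq_xg certG2 hg, ← coe_x]
      rfl
    obtain ⟨g, hg, e'⟩ := hle hu
    rwa [show (⟨u, hug⟩ : ↥(chevG2.group K)) = g from Subtype.ext e'.symm]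
  obtain ⟨a, b', hab⟩ := exists_tor (g := (⟨h, hhg⟩ : ↥(chevG2.group K))) hh
  have e' : b = ⟨u, hug⟩ * tor a b' := by rw [← hab]; exact Subtype.ext e
  rw [e', map_mul]
  exact ⟨by rw [mul_assoc, (tor_trivial hA he a b').1, (fix_U hA he hu').1],
    by rw [← mul_assoc, (fix_U hA he hu').2, (tor_trivial hA he a b').2]⟩

theorem x_sandwich {r : ℕ} (hr : r ∈ [0, 1, 5, 6, 10, 11]) {t : K} (ht : t ≠ 0) :
    A σ * σ (x r t) * A σ = (if r = 0 then ev σ (n 1) * ev σ (n 1) * ev σ (n 1) else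
      if r < 6 then ev σ (n 1) else 1) • A σ := by
  have hU : ∀ s ∈ [6, 10, 11], A σ * σ (x s t) * A σ = (1 : ℂ) • A σ := fun s hs => by
    rw [mul_assoc, (fix_U hA he (x_mem (l := [6, 7, 8, 9, 10, 11]) (by
      simp only [List.mem_cons, List.not_mem_nil, or_false] at hs
      rcases hs with rfl | rfl | rfl <;> decide) t)).1, (A_idem σ).eq, one_smul]
  simp only [List.mem_cons, List.not_mem_nil, or_false] at hr
  rcases hr with rfl | rfl | rfl | rfl | rfl | rfl
  · exact x0_sandwich hA he ht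
  · exact x1_sandwich hA he ht
  · exact x5_sandwich hA ht
  all_goals exact hU _ (by decide)

/-- The class sum is not zero. -/
theorem class_sum_ne [Fintype ↥(chevG2.group K)] :
    ∑ g : ↥(chevG2.group K), σ (g * x 11 (1 : K) * g⁻¹) ≠ 0 := by
  classical
  intro h0
  letI : Fintype ↥(chevG2.borelSubgroup K) := Fintype.ofFinite _
  letI : ∀ w, Fintype ↥(signPart certG2 fullCertG2 K w true (chevG2.nroots / 2)) := fun _ => Fintype.ofFinite _
  obtain ⟨φ, hφ⟩ : ∃ φ : GL chevG2.Idx K → ℂ, ∀ g : ↥(chevG2.group K), φ g = tr (σ (g * x 11 1 * g⁻¹) * A σ) := by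
    refine ⟨fun g => if h : g ∈ chevG2.group K then tr (σ (⟨g, h⟩ * x 11 1 * ⟨g, h⟩⁻¹) * A σ) else 0, fun g => ?_⟩
    simp [g.2]
  obtain ⟨val, hval⟩ : ∃ val : ℕ → ℂ, val = fun r => if r = 0 then ev σ (n 1) * ev σ (n 1) * ev σ (n 1) else
      if r < 6 then ev σ (n 1) else 1 := ⟨_, rfl⟩
  let W := allW (nth ([], []) weylG2) chevG2.rank
  have hWw : ∀ a : Fin W.length, IsWord chevG2 W[a] := fun a =>
    (allW_below certG2 fullCertG2 chkWeylG2 _ le_rfl _ (List.getElem_mem a.2)).isWord le_rfl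
  have hmem : ∀ a : Fin W.length, wperm tblG2 W[a] 11 ∈ [0, 1, 5, 6, 10, 11] := fun a => by
    have h := cell_table.mem_iff.1 (List.mem_map.2 ⟨W[a], List.getElem_mem a.2, rfl⟩)
    simp only [List.mem_cons, List.not_mem_nil, or_false, Prod.mk.injEq] at h ⊢
    omega
  have hterm : ∀ (a : Fin W.length) (b : ↥(chevG2.borelSubgroup K))
      (c : ↥(signPart certG2 fullCertG2 K W[a] true (chevG2.nroots / 2))),
      φ ((b : GL chevG2.Idx K) * wnu certG2 K W[a] * c) = val (wperm tblG2 W[a] 11) := by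
    intro a b c
    have hb : (b : GL chevG2.Idx K) ∈ chevG2.group K := borel_le_group certG2 b.2
    have hw : wnu certG2 K W[a] ∈ chevG2.group K := wnu_mem_group certG2 (hWw a)
    have hc' : (c : GL chevG2.Idx K) ∈ chevG2.borelSubgroup K := signPart_le_borel certG2 fullCertG2 _ _ c.2
    have hc : (c : GL chevG2.Idx K) ∈ chevG2.group K := borel_le_group certG2 hc'
    rw [show (b : GL chevG2.Idx K) * wnu certG2 K W[a] * c =
      ((⟨b, hb⟩ * ⟨_, hw⟩ * ⟨c, hc⟩ : ↥(chevG2.group K)) : GL chevG2.Idx K) from rfl, hφ]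
    have hcz : Commute (⟨c, hc⟩ : ↥(chevG2.group K)) (x 11 1) := by
      have h1 : (c : GL chevG2.Idx K) ∈ chevG2.posUnipotent K :=
        (posUnipotent_eq certG2).ge (signPart_le_upper certG2 fullCertG2 _ _ _ c.2)
      refine Subtype.ext ?_
      show (c : GL chevG2.Idx K) * (x 11 1 : ↥(chevG2.group K)).1 = (x 11 1 : ↥(chevG2.group K)).1 * c
      rw [coe_x]
      refine Subgroup.mem_centralizer_singleton_iff.1 ((Subgroup.closure_le _).2 ?_ h1)
      rintro g ⟨r, t, hr, hg⟩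
      have h2 : r < 12 := hr.1
      have h3 : 12 ≤ 2 * r := (certG2.isPos_iff hr.1).1 hr
      rw [eq_xg certG2 hg, SetLike.mem_coe, Subgroup.mem_centralizer_singleton_iff, ← coe_x, ← coe_x]
      refine congrArg Subtype.val (show x r t * x 11 1 = x 11 1 * x r t from ?_)
      rcases eq_or_ne r 11 with rfl | hne
      · rw [x_add, x_add, add_comm]
      · have hr6 : 6 ≤ r := by omega
        interval_cases r <;> first | exact (x_comm (by decide +kernel) t 1).eq | exact absurd rfl hne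
    obtain ⟨k, hk, hkt⟩ := wnu_conj_xg certG2 (F := K) (hWw a) (show 11 < chevG2.nroots by decide)
    have hconj : (⟨_, hw⟩ : ↥(chevG2.group K)) * x 11 1 * (⟨_, hw⟩ : ↥(chevG2.group K))⁻¹ =
        x (wperm tblG2 W[a] 11) (k * 1) := by
      refine Subtype.ext ?_
      simp only [Subgroup.coe_mul, Subgroup.coe_inv, coe_x]
      exact hkt 1
    rw [show (⟨b, hb⟩ * ⟨_, hw⟩ * ⟨c, hc⟩ : ↥(chevG2.group K)) * x 11 1 * (⟨b, hb⟩ * ⟨_, hw⟩ * ⟨c, hc⟩)⁻¹ =
      ⟨b, hb⟩ * (⟨_, hw⟩ * (⟨c, hc⟩ * x 11 1 * (⟨c, hc⟩ : ↥(chevG2.group K))⁻¹) *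
        (⟨_, hw⟩ : ↥(chevG2.group K))⁻¹) * (⟨b, hb⟩ : ↥(chevG2.group K))⁻¹ by group,
      fix_of_comm hcz, hconj, map_mul σ, map_mul σ]
    have hb1 := (fix_borel hA he (b := (⟨b, hb⟩ : ↥(chevG2.group K))) b.2).2
    have hb2 : σ (⟨b, hb⟩ : ↥(chevG2.group K))⁻¹ * A σ = A σ :=
      (fix_borel hA he (b := (⟨b, hb⟩ : ↥(chevG2.group K))⁻¹) (inv_mem b.2)).1
    have hs := sandwich hA (σ ⟨b, hb⟩ * σ (x (wperm tblG2 W[a] 11) (k * 1)) * σ (⟨b, hb⟩ : ↥(chevG2.group K))⁻¹)
    simp only [← mul_assoc] at hs ⊢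
    rw [hb1, mul_assoc _ (σ (⟨b, hb⟩ : ↥(chevG2.group K))⁻¹) (A σ), hb2, x_sandwich hA he (hmem a)
      (mul_ne_zero (left_ne_zero_of_mul_eq_one hk) one_ne_zero)] at hs
    have h2 := congrArg tr hs
    simp only [LinearMap.map_smul, smul_eq_mul, hA, mul_one] at h2
    simp only [mul_one] at h2 ⊢
    rw [hval, ← h2]
  have hsum : (0 : ℂ) = ∑ a : Fin W.length, (Nat.card ↥(chevG2.borelSubgroup K) : ℂ) *
      (Fintype.card K : ℂ) ^ ((List.range' 6 6).filter fun r => decide (2 * wperm tblG2 W[a] r < 12)).length *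
      val (wperm tblG2 W[a] 11) := by
    calc (0 : ℂ) = tr ((∑ g : ↥(chevG2.group K), σ (g * x 11 (1 : K) * g⁻¹)) * A σ) := by rw [h0, zero_mul, map_zero]
      _ = ∑ g : ↥(chevG2.group K), φ g := by simp only [Finset.sum_mul, map_sum, hφ]
      _ = _ := by
        rw [sum_cells certG2 fullCertG2 chkWeylG2]
        refine Finset.sum_congr rfl fun a _ => ?_
        rw [Finset.sum_congr rfl fun b _ => Finset.sum_congr rfl fun c _ => hterm a b c]
        simp only [Finset.sum_const, Finset.card_univ, nsmul_eq_mul]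
        rw [← Nat.card_eq_fintype_card (α := ↥(signPart certG2 fullCertG2 K _ true (chevG2.nroots / 2))),
          card_signPart certG2 fullCertG2 (hWw a) (chevG2.nroots / 2) (by decide) (by decide),
          Nat.card_eq_fintype_card, Nat.card_eq_fintype_card]
        push_cast
        norm_num [show chevG2.nroots = 12 from rfl, mul_assoc]
  have hlist : ∑ a : Fin W.length, (Fintype.card K : ℂ) ^
      ((List.range' 6 6).filter fun r => decide (2 * wperm tblG2 W[a] r < 12)).length * val (wperm tblG2 W[a] 11) =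
      (([(0, 11), (1, 11), (1, 10), (2, 10), (2, 6), (3, 6), (3, 5), (4, 5), (4, 1), (5, 1), (5, 0), (6, 0)] :
        List (ℕ × ℕ)).map fun p => (Fintype.card K : ℂ) ^ p.1 * val p.2).sum := by
    rw [← ((cell_table.map fun p => (Fintype.card K : ℂ) ^ p.1 * val p.2)).sum_eq, List.map_map, ← List.sum_ofFn]
    exact congrArg List.sum (List.ofFn_getElem_eq_map W fun w => (Fintype.card K : ℂ) ^
      ((List.range' 6 6).filter fun r => decide (2 * wperm tblG2 w r < 12)).length * val (wperm tblG2 w 11))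
  simp only [mul_assoc, ← Finset.mul_sum, hlist] at hsum
  rw [hval] at hsum
  simp at hsum
  obtain ⟨q, hq⟩ : ∃ q : ℕ, q = Fintype.card K := ⟨_, rfl⟩
  have hq2 : 2 ≤ q := hq ▸ Fintype.one_lt_card
  rw [← hq] at hsum
  have hcoef := coef hA he
  rw [← hq] at hcoef
  obtain ⟨b, hb⟩ : ∃ b, b = ev σ (n 1) := ⟨_, rfl⟩
  rw [← hb] at hsum hcoef
  rcases mul_eq_zero.1 hcoef with h1 | h1
  · rw [show b = 1 by linear_combination h1] at hsum
    norm_num at hsum
    have : ((1 + q + q + q ^ 2 + q ^ 2 + q ^ 3 + q ^ 3 + q ^ 4 + q ^ 4 + q ^ 5 + q ^ 5 + q ^ 6 : ℕ) : ℂ) = 0 := by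
      push_cast; linear_combination hsum
    rw [Nat.cast_eq_zero] at this
    omega
  · have e3 : ((q : ℂ) * b) ^ 3 + 1 = 0 := by rw [show (q : ℂ) * b = -1 by linear_combination h1]; ring
    have key : ((1 + q + q + q ^ 2 : ℕ) : ℂ) = ((q ^ 2 + q ^ 3 + q ^ 3 + q ^ 4 : ℕ) : ℂ) := by
      push_cast
      linear_combination hsum - ((q : ℂ) ^ 2 + 2 * (q : ℂ) ^ 3 + (q : ℂ) ^ 4) * h1 - ((q : ℂ) ^ 2 + (q : ℂ) ^ 3) * e3
    have h4 : 1 + q + q + q ^ 2 = q ^ 2 + q ^ 3 + q ^ 3 + q ^ 4 := Nat.cast_injective key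
    have : q ≤ q ^ 3 := Nat.le_self_pow (by norm_num) q
    have : q ≤ q ^ 4 := Nat.le_self_pow (by norm_num) q
    omega

end Cfsg.Lib.Chev.G2Deg
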