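import Cfsg.Agent.Lib.Chev.G2Degree.Mult
import Cfsg.Agent.Lib.Chev.G2Degree.Elts

/-!
# Characters of the radical of a parabolic subgroup of G₂, the characteristic not three

The long root groups `10, 11` and the short root group `9` generate an abelian group, on whose characters the rest
of the radical, the short simple root group and two reflections act with few orbits.
-/

set_option autoImplicit false
set_option linter.unusedSectionVars false

namespace Cfsg.Lib.Chev.G2Deg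

open Cfsg.Lie Cfsg.Lib.Linear.MinDegree Cfsg.Lib.Chev.TriDeg

variable {K : Type*} [Field K] [Fintype K]
variable {V : Type*} [AddCommGroup V] [Module ℂ V] [FiniteDimensional ℂ V]

local notation "tr" => LinearMap.trace ℂ V

theorem mk_one_one {A B : Type*} [AddCommGroup A] [AddCommGroup B] :
    mk (1 : AddChar A ℂ) (1 : AddChar B ℂ) = 1 := DFunLike.ext _ _ fun x => by simp

theorem mk_apply_zero_left {A B : Type*} [AddCommGroup A] [AddCommGroup B] (α : AddChar A ℂ) (β : AddChar B ℂ)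
    (b : B) : mk α β ((0 : A), b) = β b := by simp

/-- A character fixed by a nontrivial scaling is trivial. -/
theorem char_eq_one_of_scale {χ : AddChar K ℂ} {u : K} (hu : u ≠ 1) (h : ∀ x, χ (u * x) = χ x) : χ = 1 := by
  refine DFunLike.ext _ _ fun x => ?_
  have hne : u - 1 ≠ 0 := sub_ne_zero.2 hu
  have h1 := h (x / (u - 1))
  rw [show u * (x / (u - 1)) = x + x / (u - 1) by linear_combination div_mul_cancel₀ x hne,
    AddChar.map_add_eq_mul] at h1
  rw [AddChar.one_apply]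
  exact (mul_eq_right₀ ((AddChar.val_isUnit χ _).ne_zero)).1 h1

theorem card_chars : Fintype.card (AddChar K ℂ) = Fintype.card K := AddChar.card_eq

theorem sigma_inv_mul (σ : ↥(chevG2.group K) →* Module.End ℂ V) (g : ↥(chevG2.group K)) : σ g⁻¹ * σ g = 1 := by
  rw [← map_mul, inv_mul_cancel, map_one]

/-- The abelian group of the roots `9, 10, 11`. -/
noncomputable def eE : Multiplicative (K × (K × K)) →* ↥(chevG2.group K) where
  toFun v := x 9 v.toAdd.1 * x 10 v.toAdd.2.1 * x 11 v.toAdd.2.2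
  map_one' := by simp [x_zero]
  map_mul' v w := by
    have c1 : ∀ a b : K, Commute (x 10 a) (x 9 b) := x_comm (by decide +kernel)
    have c2 : ∀ a b : K, Commute (x 11 a) (x 9 b) := x_comm (by decide +kernel)
    have c3 : ∀ a b : K, Commute (x 11 a) (x 10 b) := x_comm (by decide +kernel)
    simp only [toAdd_mul, Prod.fst_add, Prod.snd_add, ← x_add]
    obtain ⟨t, d, z⟩ := v.toAdd
    obtain ⟨t', d', z'⟩ := w.toAdd
    calc x 9 t * x 9 t' * (x 10 d * x 10 d') * (x 11 z * x 11 z')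
        = x 9 t * (x 9 t' * x 10 d) * (x 10 d' * x 11 z) * x 11 z' := by group
      _ = x 9 t * x 10 d * (x 9 t' * x 11 z) * x 10 d' * x 11 z' := by
          rw [← (c1 d t').eq, ← (c3 z d').eq]; group
      _ = _ := by rw [← (c2 z t').eq]; group

theorem eE_apply (t d z : K) : eE (.ofAdd (t, (d, z))) = x 9 t * x 10 d * x 11 z := rfl

/-- The abelian group of the roots `6, 8`. -/
noncomputable def eA : Multiplicative (K × K) →* ↥(chevG2.group K) where
  toFun v := x 6 v.toAdd.1 * x 8 v.toAdd.2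
  map_one' := by simp [x_zero]
  map_mul' v w := by
    have c1 : ∀ a b : K, Commute (x 8 a) (x 6 b) := x_comm (by decide +kernel)
    simp only [toAdd_mul, Prod.fst_add, Prod.snd_add, ← x_add]
    obtain ⟨a, b⟩ := v.toAdd
    obtain ⟨a', b'⟩ := w.toAdd
    calc x 6 a * x 6 a' * (x 8 b * x 8 b') = x 6 a * (x 6 a' * x 8 b) * x 8 b' := by group
      _ = _ := by rw [← (c1 b a').eq]; group

theorem eA_apply (a v : K) : eA (.ofAdd (a, v)) = x 6 a * x 8 v := rfl

theorem eA_conj (a v t d z : K) :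
    eA (.ofAdd (a, v)) * eE (.ofAdd (t, (d, z))) * (eA (.ofAdd (a, v)))⁻¹ =
      eE (.ofAdd (t, (d, z + (a * d + 3 * t * v)))) := by
  have c1 : ∀ p s : K, Commute (x 10 p) (x 11 s) := x_comm (by decide +kernel)
  have c2 : ∀ p s : K, Commute (x 11 p) (x 9 s) := x_comm (by decide +kernel)
  have k8 : x 8 v * eE (.ofAdd (t, (d, z))) * (x 8 v)⁻¹ = eE (.ofAdd (t, (d, z + 3 * t * v))) := by
    rw [eE_apply, eE_apply, ← conj_mul, ← conj_mul, x9_x8, fix_of_comm (x_comm (by decide +kernel) _ _),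
      fix_of_comm (x_comm (by decide +kernel) _ _), mul_assoc (x 9 t), ← (c1 _ _).eq, ← mul_assoc, mul_assoc, x_add,
      add_comm z]
  have k6 : ∀ z' : K, x 6 a * eE (.ofAdd (t, (d, z'))) * (x 6 a)⁻¹ = eE (.ofAdd (t, (d, z' + a * d))) := by
    intro z'
    rw [eE_apply, eE_apply, ← conj_mul, ← conj_mul, x10_x6, fix_of_comm (x_comm (by decide +kernel) _ _),
      fix_of_comm (x_comm (by decide +kernel) _ _), ← mul_assoc, mul_assoc, x_add, add_comm z', mul_comm d]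
  calc _ = x 6 a * (x 8 v * eE (.ofAdd (t, (d, z))) * (x 8 v)⁻¹) * (x 6 a)⁻¹ := by rw [eA_apply]; group
    _ = _ := by rw [k8, k6, add_assoc, add_comm (3 * t * v)]

theorem x7_conj (u t d z : K) :
    x 7 u * eE (.ofAdd (t, (d, z))) * (x 7 u)⁻¹ = eE (.ofAdd (t, (d + 3 * t * u, z))) := by
  rw [eE_apply, eE_apply, ← conj_mul, ← conj_mul, x9_x7, fix_of_comm (x_comm (by decide +kernel) _ _),
    fix_of_comm (x_comm (by decide +kernel) _ _), mul_assoc (x 9 t), x_add, add_comm d]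

theorem n1_conj (t d z : K) : n 1 * eE (.ofAdd (t, (d, z))) * (n 1)⁻¹ = eE (.ofAdd (t, (-z, d))) := by
  have c3 : ∀ a b : K, Commute (x 11 a) (x 10 b) := x_comm (by decide +kernel)
  rw [eE_apply, eE_apply, ← conj_mul, ← conj_mul, n_conj (k := 9) (e := 1) (by decide +kernel),
    n_conj (k := 11) (e := 1) (by decide +kernel), n_conj (k := 10) (e := -1) (by decide +kernel),
    mul_assoc, (c3 _ _).eq, ← mul_assoc]
  simp

variable (σ : ↥(chevG2.group K) →* Module.End ℂ V)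

/-- The representation of the group of the roots `9, 10, 11`. -/
noncomputable def R3 : Multiplicative (K × (K × K)) →* Module.End ℂ V := σ.comp eE

/-- The representation of the group of the roots `10, 11`. -/
noncomputable def R2 : Multiplicative (K × K) →* Module.End ℂ V :=
  (σ.comp eE).comp (AddMonoidHom.toMultiplicative (AddMonoidHom.inr K (K × K)))

/-- The representation of the root group `6`. -/
noncomputable def RF : Multiplicative K →* Module.End ℂ V :=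
  (σ.comp eA).comp (AddMonoidHom.toMultiplicative (AddMonoidHom.inl K K))

theorem R2_apply (p : K × K) : R2 σ (.ofAdd p) = R3 σ (.ofAdd ((0 : K), p)) := rfl

theorem R3_apply (p : K × (K × K)) : R3 σ (.ofAdd p) = σ (eE (.ofAdd p)) := rfl

theorem RF_apply (a : K) : RF σ (.ofAdd a) = σ (x 6 a) := by
  show σ (x 6 a * x 8 0) = _
  rw [x_zero, mul_one]

/-- The projection on the vectors fixed by the roots `10, 11`. -/
noncomputable def P0 : Module.End ℂ V := proj (R2 σ) 1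

/-- The multiplicities of the characters of `6` in that space. -/
noncomputable def mF (α : AddChar K ℂ) : ℕ := mlt (RF σ) (P0 σ) α

theorem P0_inv : Inv (RF σ) (P0 σ) := by
  refine ⟨proj_mul_self _ _, fun a => ?_⟩
  let τ : K × K ≃ K × K :=
    { toFun := fun p => (p.1, p.2 + a * p.1)
      invFun := fun p => (p.1, p.2 - a * p.1)
      left_inv := fun p => by simp
      right_inv := fun p => by simp }
  rw [RF_apply]
  refine commute_proj (R2 σ) (sigma_inv_mul σ (x 6 a)) τ (fun p => ?_) 1 fun p => by simp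
  rw [R2_apply, R2_apply, R3_apply, R3_apply, ← map_mul, ← map_mul]
  have h := eA_conj a 0 0 p.1 p.2
  rw [eA_apply, x_zero, mul_one] at h
  rw [h]
  simp [τ]

theorem conj3 (g : ↥(chevG2.group K)) (τ : K × (K × K) ≃ K × (K × K))
    (hg : ∀ p, g * eE (.ofAdd p) * g⁻¹ = eE (.ofAdd (τ p))) {θ θ' : AddChar (K × (K × K)) ℂ}
    (hθ : ∀ p, θ' (-τ p) = θ (-p)) : σ g * proj (R3 σ) θ * σ g⁻¹ = proj (R3 σ) θ' :=
  conj_proj _ τ (fun p => by rw [R3_apply, R3_apply, ← map_mul, ← map_mul, hg]) θ θ' hθ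

/-- What the projections give. -/
structure Facts (r : ℕ) : Prop where
  n3 : ∀ γ δ lam, (δ ≠ 1 ∨ lam ≠ 1) → mlt (R3 σ) 1 (mk γ (mk δ lam)) = r
  n2 : ∀ δ lam, (δ ≠ 1 ∨ lam ≠ 1) → mlt (R2 σ) 1 (mk δ lam) = Fintype.card K * r
  total : Module.finrank ℂ V = (Fintype.card K ^ 2 - 1) * (Fintype.card K * r) + ∑ α, mF σ α
  pos : r ≠ 0
  trivA : r = 1 → ∀ δ, δ ≠ 1 → ∀ a v, σ (x 6 a * x 8 v) * proj (R3 σ) (mk 1 (mk δ 1)) =
    proj (R3 σ) (mk 1 (mk δ 1))
  low : r = 1 → ∀ α, α ≠ 1 → 1 ≤ mF σ α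

attribute [irreducible] eE eA R3 R2 RF P0

theorem move3 (g : ↥(chevG2.group K)) (τ : K × (K × K) ≃ K × (K × K))
    (hg : ∀ p, g * eE (.ofAdd p) * g⁻¹ = eE (.ofAdd (τ p))) {θ θ' : AddChar (K × (K × K)) ℂ}
    (hθ : ∀ p, θ' (-τ p) = θ (-p)) : mlt (R3 σ) 1 θ = mlt (R3 σ) 1 θ' :=
  mlt_conj inv_id inv_id (sigma_inv_mul σ g) τ
    (fun p => by rw [R3_apply, R3_apply, ← map_mul, ← map_mul, hg])
    (by rw [mul_one, ← map_mul, mul_inv_cancel, map_one]) hθ

/-- The radical moves the characters that are non-trivial on the centre. -/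
theorem n3_central (h3 : (3 : K) ≠ 0) (γ δ lam : AddChar K ℂ) (hl : lam ≠ 1) :
    mlt (R3 σ) 1 (mk γ (mk δ lam)) = mlt (R3 σ) 1 (mk 1 (mk 1 lam)) := by
  obtain ⟨w, hw⟩ := shift_surjective hl γ
  obtain ⟨a, ha⟩ := shift_surjective hl δ
  let τ : K × (K × K) ≃ K × (K × K) :=
    { toFun := fun p => (p.1, (p.2.1, p.2.2 + (a * p.2.1 + 3 * p.1 * (w / 3))))
      invFun := fun p => (p.1, (p.2.1, p.2.2 - (a * p.2.1 + 3 * p.1 * (w / 3))))
      left_inv := fun p => by simp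
      right_inv := fun p => by simp }
  refine move3 σ (eA (.ofAdd (a, w / 3))) τ (fun p => eA_conj a (w / 3) p.1 p.2.1 p.2.2) fun p => ?_
  show mk 1 (mk 1 lam) (-p.1, (-p.2.1, -(p.2.2 + (a * p.2.1 + 3 * p.1 * (w / 3))))) =
    mk γ (mk δ lam) (-p.1, (-p.2.1, -p.2.2))
  simp only [mk_apply, AddChar.one_apply, one_mul, ← hw, ← ha]
  rw [← AddChar.map_add_eq_mul, ← AddChar.map_add_eq_mul]
  congr 1
  field_simp
  ring

/-- The short simple root group moves the others. -/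
theorem n3_middle (h3 : (3 : K) ≠ 0) (γ δ : AddChar K ℂ) (hd : δ ≠ 1) :
    mlt (R3 σ) 1 (mk γ (mk δ 1)) = mlt (R3 σ) 1 (mk 1 (mk δ 1)) := by
  obtain ⟨w, hw⟩ := shift_surjective hd γ
  let τ : K × (K × K) ≃ K × (K × K) :=
    { toFun := fun p => (p.1, (p.2.1 + 3 * p.1 * (w / 3), p.2.2))
      invFun := fun p => (p.1, (p.2.1 - 3 * p.1 * (w / 3), p.2.2))
      left_inv := fun p => by simp
      right_inv := fun p => by simp }
  refine move3 σ (x 7 (w / 3)) τ (fun p => x7_conj (w / 3) p.1 p.2.1 p.2.2) fun p => ?_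
  show mk 1 (mk δ 1) (-p.1, (-(p.2.1 + 3 * p.1 * (w / 3)), -p.2.2)) = mk γ (mk δ 1) (-p.1, (-p.2.1, -p.2.2))
  simp only [mk_apply, AddChar.one_apply, one_mul, mul_one, ← hw]
  rw [← AddChar.map_add_eq_mul]
  congr 1
  field_simp
  ring

theorem n3_torus (lam lam₁ : AddChar K ℂ) (hl₁ : lam₁ ≠ 1) (hl : lam ≠ 1) :
    mlt (R3 σ) 1 (mk 1 (mk 1 lam)) = mlt (R3 σ) 1 (mk 1 (mk 1 lam₁)) := by
  obtain ⟨w, hw⟩ := shift_surjective hl₁ lam
  have hw0 : w ≠ 0 := fun e => hl (DFunLike.ext _ _ fun p => by rw [← hw, e, zero_mul]; simp)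
  refine move3 σ (tor 1 (Units.mk0 w hw0))
    ((Equiv.refl K).prodCongr ((Equiv.mulLeft₀ w⁻¹ (inv_ne_zero hw0)).prodCongr (Equiv.mulLeft₀ w hw0)))
    (fun p => ?_) fun p => by simp [← hw]
  obtain ⟨t, d, z⟩ := p
  show _ = eE (.ofAdd (t, (w⁻¹ * d, w * z)))
  rw [eE_apply, eE_apply, ← conj_mul, ← conj_mul, tor9, tor10, tor11]
  simp

theorem n3_reflect (γ δ : AddChar K ℂ) :
    mlt (R3 σ) 1 (mk γ (mk δ 1)) = mlt (R3 σ) 1 (mk γ (mk 1 δ)) := by
  let τ : K × (K × K) ≃ K × (K × K) :=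
    { toFun := fun p => (p.1, (-p.2.2, p.2.1))
      invFun := fun p => (p.1, (p.2.2, -p.2.1))
      left_inv := fun p => by simp
      right_inv := fun p => by simp }
  exact move3 σ (n 1) τ (fun p => n1_conj p.1 p.2.1 p.2.2) fun p => by simp [τ]

/-- An operator that commutes with a projection onto a line is a scalar on it. -/
theorem line_scalar {e A : Module.End ℂ V} (hid : IsIdempotentElem e) (htr : tr e = 1) (hc : A * e = e * A) :
    A * e = tr (A * e) • e := by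
  rw [← rank_one hid htr, ← hc, mul_assoc, hid.eq]

/-- The root groups `6, 8` act trivially on a line. -/
theorem line_trivial (he3 : ∃ u : Kˣ, (u : K) ^ 3 ≠ 1) (he2 : ∃ u : Kˣ, (u : K) ^ 2 ≠ 1) {δ : AddChar K ℂ}
    (h1 : mlt (R3 σ) 1 (mk 1 (mk δ 1)) = 1) (a v : K) :
    σ (x 6 a * x 8 v) * proj (R3 σ) (mk 1 (mk δ 1)) = proj (R3 σ) (mk 1 (mk δ 1)) := by
  have hi := sigma_inv_mul σ
  obtain ⟨e, hee⟩ : ∃ e, e = proj (R3 σ) (mk (1 : AddChar K ℂ) (mk δ (1 : AddChar K ℂ))) := ⟨_, rfl⟩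
  rw [← hee]
  have hid : IsIdempotentElem e := hee ▸ proj_mul_self _ _
  have htr : tr e = 1 := by rw [hee, tr_proj, h1, Nat.cast_one]
  have hcomm : ∀ p, σ (eA (.ofAdd p)) * e = e * σ (eA (.ofAdd p)) := by
    rintro ⟨a, v⟩
    let τ : K × (K × K) ≃ K × (K × K) :=
      { toFun := fun p => (p.1, (p.2.1, p.2.2 + (a * p.2.1 + 3 * p.1 * v)))
        invFun := fun p => (p.1, (p.2.1, p.2.2 - (a * p.2.1 + 3 * p.1 * v)))
        left_inv := fun p => by simp
        right_inv := fun p => by simp }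
    rw [hee]
    exact commute_proj (R3 σ) (hi _) τ (fun p => by
      rw [R3_apply, R3_apply, ← map_mul, ← map_mul, eA_conj a v p.1 p.2.1 p.2.2]; rfl) _ fun p => by simp [τ]
  have hsc : ∀ p, σ (eA (.ofAdd p)) * e = tr (σ (eA (.ofAdd p)) * e) • e := fun p =>
    line_scalar hid htr (hcomm p)
  obtain ⟨χ, hχ⟩ : ∃ χ : AddChar (K × K) ℂ, ∀ p, χ p = tr (σ (eA (.ofAdd p)) * e) := by
    refine ⟨⟨fun p => tr (σ (eA (.ofAdd p)) * e), ?_, fun p p' => ?_⟩, fun p => rfl⟩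
    · rw [ofAdd_zero, map_one eA, map_one σ, one_mul, htr]
    · conv_lhs => rw [ofAdd_add, map_mul eA, map_mul σ, mul_assoc, hsc p', mul_smul_comm, LinearMap.map_smul,
        smul_eq_mul]
      exact mul_comm _ _
  obtain ⟨⟨α, β⟩, hαβ⟩ := mk_bijective.2 χ
  replace hαβ : χ = mk α β := hαβ.symm
  have hinv : ∀ u : Kˣ, ∀ a v, χ ((u : K) ^ 3 * a, (u : K) ^ 2 * v) = χ (a, v) := by
    intro u a v
    have he : σ (tor u (u ^ 3)) * e * σ (tor u (u ^ 3))⁻¹ = e := by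
      rw [hee]
      refine conj3 σ (tor u (u ^ 3)) ((Equiv.mulLeft₀ (u : K) u.ne_zero).prodCongr
        ((Equiv.refl K).prodCongr (Equiv.mulLeft₀ ((u : K) ^ 3) (pow_ne_zero _ u.ne_zero)))) (fun p => ?_)
        fun p => by simp
      obtain ⟨t, d, z⟩ := p
      show _ = eE (.ofAdd ((u : K) * t, (d, (u : K) ^ 3 * z)))
      rw [eE_apply, eE_apply, ← conj_mul, ← conj_mul, tor9, tor10, tor11]
      simp
    have hg : tor u (u ^ 3) * eA (.ofAdd (a, v)) * (tor u (u ^ 3))⁻¹ =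
        eA (.ofAdd ((u : K) ^ 3 * a, (u : K) ^ 2 * v)) := by
      rw [eA_apply, eA_apply, ← conj_mul, tor6, tor8]
      congr 2 <;> simp <;> field_simp <;> simp
    rw [hχ, hχ]
    refine (tr_conj (g := σ (tor u (u ^ 3))) (g' := σ (tor u (u ^ 3))⁻¹) (hi _) ?_).symm
    rw [conj_mul' (hi _), he, ← map_mul, ← map_mul, hg]
  have hα : α = 1 := by
    obtain ⟨u, hu⟩ := he3
    refine char_eq_one_of_scale hu fun a => ?_
    simpa [hαβ] using hinv u a 0
  have hβ : β = 1 := by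
    obtain ⟨u, hu⟩ := he2
    refine char_eq_one_of_scale hu fun v => ?_
    simpa [hαβ] using hinv u 0 v
  have h2 := hsc (a, v)
  rw [← hχ, hαβ, hα, hβ, mk_apply, AddChar.one_apply,
    AddChar.one_apply, mul_one, one_smul, eA_apply] at h2
  exact h2

/-- The image of such a line under the other reflection. -/
theorem moved {α : AddChar K ℂ} (h1 : mlt (R3 σ) 1 (mk 1 (mk α 1)) = 1)
    (htriv : ∀ a v, σ (x 6 a * x 8 v) * proj (R3 σ) (mk 1 (mk α 1)) = proj (R3 σ) (mk 1 (mk α 1))) :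
    σ (n 0)⁻¹ * proj (R3 σ) (mk 1 (mk α 1)) ≠ 0 ∧
    P0 σ * (σ (n 0)⁻¹ * proj (R3 σ) (mk 1 (mk α 1))) = σ (n 0)⁻¹ * proj (R3 σ) (mk 1 (mk α 1)) ∧
    ∀ a, RF σ (.ofAdd a) * (σ (n 0)⁻¹ * proj (R3 σ) (mk 1 (mk α 1))) =
      α a • (σ (n 0)⁻¹ * proj (R3 σ) (mk 1 (mk α 1))) := by
  obtain ⟨e, hee⟩ : ∃ e, e = proj (R3 σ) (mk (1 : AddChar K ℂ) (mk α (1 : AddChar K ℂ))) := ⟨_, rfl⟩
  have he0 : e ≠ 0 := fun h0 => by
    have := tr_proj (R3 σ) (mk (1 : AddChar K ℂ) (mk α (1 : AddChar K ℂ)))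
    rw [← hee, h0, map_zero, h1, Nat.cast_one] at this
    exact zero_ne_one this
  have hE : ∀ t d z, σ (eE (.ofAdd (t, (d, z)))) * e = α d • e := fun t d z => by
    rw [hee, ← R3_apply, R_mul_proj]; simp
  have hA6 : ∀ a, σ (x 6 a) * e = e := fun a => by
    have := htriv a 0
    rwa [x_zero, mul_one, ← hee] at this
  rw [← hee]
  refine ⟨fun h => he0 ?_, ?_, fun a => ?_⟩
  · have := congrArg (σ (n 0) * ·) h
    simpa [← mul_assoc, ← map_mul] using this
  · rw [P0]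
    refine proj_mul_eigen (R2 σ) fun p => ?_
    obtain ⟨d, z⟩ := p
    have h1 : σ (eE (.ofAdd ((0 : K), ((0 : K), z)))) * e = e := by rw [hE]; simp
    rw [AddChar.one_apply, one_smul, R2_apply, R3_apply, ← mul_assoc, ← map_mul,
      show eE (.ofAdd ((0 : K), (d, z))) * (n 0)⁻¹ = (n 0)⁻¹ * (x 6 (-d) * eE (.ofAdd ((0 : K), ((0 : K), z)))) by
        have k10 : n 0 * x 10 d * (n 0)⁻¹ = x 6 (-d) := by
          rw [n_conj (k := 6) (e := -1) (by decide +kernel)]; simp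
        have k11 : n 0 * x 11 z * (n 0)⁻¹ = x 11 z := by
          rw [n_conj (k := 11) (e := 1) (by decide +kernel)]; simp
        simp only [eE_apply, x_zero, one_mul]
        rw [← k10]
        conv_rhs => rw [← k11]
        group,
      map_mul, map_mul, mul_assoc, mul_assoc, h1, hA6]
  · rw [RF_apply, ← mul_assoc, ← map_mul, show x 6 a * (n 0)⁻¹ = (n 0)⁻¹ * x 10 a by
      have k6 : n 0 * x 6 a * (n 0)⁻¹ = x 10 a := by
        rw [n_conj (k := 10) (e := 1) (by decide +kernel)]; simp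
      rw [← k6]; group, map_mul, mul_assoc, ← mul_smul_comm]
    congr 1
    have := hE 0 a 0
    rwa [eE_apply, x_zero, x_zero, one_mul, mul_one] at this

/-- The other reflection brings a line into the fixed space. -/
theorem one_le_mF {α : AddChar K ℂ} (h1 : mlt (R3 σ) 1 (mk 1 (mk α 1)) = 1)
    (htriv : ∀ a v, σ (x 6 a * x 8 v) * proj (R3 σ) (mk 1 (mk α 1)) = proj (R3 σ) (mk 1 (mk α 1))) :
    1 ≤ mF σ α :=
  have h := moved σ h1 htriv
  Nat.one_le_iff_ne_zero.2 (mlt_ne_zero (P0_inv σ) h.1 h.2.1 h.2.2)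

theorem sum_mF : ∑ α, mF σ α = mlt (R2 σ) 1 1 := by
  have h : ((∑ α, mF σ α : ℕ) : ℂ) = tr (P0 σ) := sum_mlt (P0_inv σ)
  rw [P0, tr_proj] at h
  exact_mod_cast h

theorem exists_facts (h3 : (3 : K) ≠ 0) (he3 : ∃ u : Kˣ, (u : K) ^ 3 ≠ 1) (he2 : ∃ u : Kˣ, (u : K) ^ 2 ≠ 1)
    (hσ : Function.Injective σ) : ∃ r, Facts σ r := by
  classical
  haveI : Nontrivial (AddChar K ℂ) := Fintype.one_lt_card_iff_nontrivial.1 (by
    rw [card_chars]; exact Fintype.one_lt_card)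
  obtain ⟨lam₁, hl₁⟩ := exists_ne (1 : AddChar K ℂ)
  obtain ⟨r, hr⟩ : ∃ r, r = mlt (R3 σ) 1 (mk 1 (mk 1 lam₁)) := ⟨_, rfl⟩
  have hn3 : ∀ γ δ lam, (δ ≠ 1 ∨ lam ≠ 1) → mlt (R3 σ) 1 (mk γ (mk δ lam)) = r := by
    intro γ δ lam h
    rcases eq_or_ne lam 1 with rfl | hl
    · have hd := h.resolve_right (fun e => e rfl)
      rw [n3_middle σ h3 γ δ hd, n3_reflect, n3_torus σ δ lam₁ hl₁ hd, hr]
    · rw [n3_central σ h3 γ δ lam hl, n3_torus σ lam lam₁ hl₁ hl, hr]
  have hn2 : ∀ δ lam, (δ ≠ 1 ∨ lam ≠ 1) → mlt (R2 σ) 1 (mk δ lam) = Fintype.card K * r := by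
    intro δ lam h
    rw [mlt_marginal (R2 σ) (R3 σ) (R2_apply σ), Finset.sum_congr rfl fun γ _ => hn3 γ δ lam h]
    simp [card_chars]
  have hne : ∀ θ : AddChar (K × K) ℂ, θ ≠ 1 → mlt (R2 σ) 1 θ = Fintype.card K * r := by
    intro θ hθ
    obtain ⟨⟨δ, lam⟩, hθ'⟩ := mk_bijective.2 θ
    rw [← hθ']
    refine hn2 δ lam ?_
    by_contra! h
    refine hθ (hθ'.symm.trans ?_)
    simp only [h.1, h.2]
    exact mk_one_one
  have hrpos : r ≠ 0 := fun hr0 => by
    have h1 : R2 σ (.ofAdd ((0 : K), (1 : K))) = 1 := by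
      rw [← mul_one (R2 σ _), ← sum_proj (R2 σ), Finset.mul_sum]
      refine Finset.sum_congr rfl fun χ _ => ?_
      rw [R_mul_proj]
      rcases eq_or_ne χ 1 with rfl | hχ
      · simp
      · have h0 := proj_mul_eq_zero (R := R2 σ) inv_id
          (show mlt (R2 σ) 1 χ = 0 by rw [hne χ hχ, hr0, mul_zero])
        rw [mul_one] at h0
        rw [h0, smul_zero]
    rw [R2_apply, R3_apply, ← map_one σ, eE_apply, x_zero, x_zero, one_mul, one_mul] at h1
    exact one_ne_zero (x_eq_one (by norm_num) (hσ h1))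
  have htriv : r = 1 → ∀ δ, δ ≠ 1 → ∀ a v, σ (x 6 a * x 8 v) * proj (R3 σ) (mk 1 (mk δ 1)) =
      proj (R3 σ) (mk 1 (mk δ 1)) := fun hr1 δ hd =>
    line_trivial σ he3 he2 (by rw [hn3 _ _ _ (Or.inl hd), hr1])
  refine ⟨r, hn3, hn2, ?_, hrpos, htriv, fun hr1 α hα =>
    one_le_mF σ (by rw [hn3 _ _ _ (Or.inl hα), hr1]) (htriv hr1 α hα)⟩
  rw [← sum_mlt_one (R := R2 σ), ← Finset.add_sum_erase _ _ (Finset.mem_univ 1), sum_mF,
    Finset.sum_congr rfl fun θ hθ => hne θ (Finset.ne_of_mem_erase hθ)]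
  simp [Finset.card_erase_of_mem, AddChar.card_eq, sq]
  ring

end Cfsg.Lib.Chev.G2Deg
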