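import Cfsg.Agent.Lib.Chev.G2Degree.ThreeTail

/-!
# The bound for G₂ in characteristic three
-/

set_option autoImplicit false
set_option linter.unusedSectionVars false

namespace Cfsg.Lib.Chev.G2Deg

open Cfsg.Lie

/-- The three degrees just below the bound do not divide the order. -/
theorem near_not_dvd {q k : ℕ} (hq : 9 ≤ q) (hd : k ∣ q ^ 6 * ((q ^ 2 - 1) * (q ^ 6 - 1)))
    (hk : k + 2 = q ^ 4 + q ^ 2 ∨ k + 1 = q ^ 4 + q ^ 2 ∨ k = q ^ 4 + q ^ 2) : False := by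
  obtain ⟨x, hx⟩ : ∃ x : ℤ, x = ((q ^ 2 : ℕ) : ℤ) := ⟨_, rfl⟩
  have hx81 : (81 : ℤ) ≤ x := by
    rw [hx]; exact_mod_cast (show 81 ≤ q ^ 2 from le_trans (by norm_num) (Nat.pow_le_pow_left hq 2))
  have h1 : 1 ≤ q ^ 2 := Nat.one_le_pow _ _ (by omega)
  have h6 : 1 ≤ q ^ 6 := Nat.one_le_pow _ _ (by omega)
  have hd' : (k : ℤ) ∣ x ^ 3 * ((x - 1) * (x ^ 3 - 1)) := by
    have := Int.natCast_dvd_natCast.2 hd
    push_cast [Nat.cast_sub h1, Nat.cast_sub h6] at this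
    rw [hx]; push_cast
    convert this using 1
    ring
  rcases hk with hk | hk | hk
  · have e : (k : ℤ) = (x - 1) * (x + 2) := by
      have := congrArg (Nat.cast (R := ℤ)) hk
      push_cast at this
      rw [hx]; push_cast; linear_combination this
    rw [e, show x ^ 3 * ((x - 1) * (x ^ 3 - 1)) = (x - 1) * (x ^ 3 * (x ^ 3 - 1)) by ring] at hd'
    have h := (mul_dvd_mul_iff_left (by omega : x - 1 ≠ 0)).1 hd'
    have h72 : x + 2 ∣ (72 : ℤ) := by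
      have h2 : x + 2 ∣ (x + 2) * (x ^ 5 - 2 * x ^ 4 + 4 * x ^ 3 - 9 * x ^ 2 + 18 * x - 36) := dvd_mul_right _ _
      rw [show (72 : ℤ) = x ^ 3 * (x ^ 3 - 1) -
        (x + 2) * (x ^ 5 - 2 * x ^ 4 + 4 * x ^ 3 - 9 * x ^ 2 + 18 * x - 36) by ring]
      exact dvd_sub h h2
    have := Int.le_of_dvd (by norm_num) h72
    omega
  · have e : (k : ℤ) = x ^ 2 + x - 1 := by
      have := congrArg (Nat.cast (R := ℤ)) hk
      push_cast at this
      rw [hx]; push_cast; linear_combination this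
    rw [e] at hd'
    have hco : IsCoprime (x ^ 2 + x - 1) (x ^ 3) := IsCoprime.pow_right ⟨-1, x + 1, by ring⟩
    have h := hco.dvd_of_dvd_mul_left hd'
    have h4 : x ^ 2 + x - 1 ∣ 6 * x - 4 := by
      have h2 : x ^ 2 + x - 1 ∣ (x ^ 2 + x - 1) * (x ^ 2 - 2 * x + 3) := dvd_mul_right _ _
      rw [show 6 * x - 4 = (x ^ 2 + x - 1) * (x ^ 2 - 2 * x + 3) - (x - 1) * (x ^ 3 - 1) by ring]
      exact dvd_sub h2 h
    have := Int.le_of_dvd (by omega) h4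
    nlinarith
  · have e : (k : ℤ) = x * (x + 1) := by
      rw [hk, hx]; push_cast; ring
    rw [e, show x ^ 3 * ((x - 1) * (x ^ 3 - 1)) = x * (x ^ 2 * ((x - 1) * (x ^ 3 - 1))) by ring] at hd'
    have h := (mul_dvd_mul_iff_left (by omega : x ≠ 0)).1 hd'
    have h4 : x + 1 ∣ (4 : ℤ) := by
      have h2 : x + 1 ∣ (x + 1) * (x ^ 5 - 2 * x ^ 4 + 2 * x ^ 3 - 3 * x ^ 2 + 4 * x - 4) := dvd_mul_right _ _
      rw [show (4 : ℤ) = x ^ 2 * ((x - 1) * (x ^ 3 - 1)) -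
        (x + 1) * (x ^ 5 - 2 * x ^ 4 + 2 * x ^ 3 - 3 * x ^ 2 + 4 * x - 4) by ring]
      exact dvd_sub h h2
    have := Int.le_of_dvd (by norm_num) h4
    omega

variable {K : Type*} [Field K] [Fintype K] [CharP K 3]
variable {V : Type*} [AddCommGroup V] [Module ℂ V] [FiniteDimensional ℂ V]
variable (σ : ↥(chevG2.group K) →* Module.End ℂ V)

/-- The bound up to three exceptional values. -/
theorem three_bound (hσ : Function.Injective σ) (h3 : 3 < Fintype.card K) :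
    Fintype.card K ^ 4 + Fintype.card K ^ 2 ≤ Module.finrank ℂ V + 2 := by
  classical
  obtain ⟨c, d, Hu⟩ := exists_unif σ
  obtain ⟨q, hq⟩ : ∃ q, q = Fintype.card K := ⟨_, rfl⟩
  have h9 : 9 ≤ q := hq ▸ nine_le h3
  have hk := finrank_eq σ Hu
  rw [← hq] at hk ⊢
  obtain ⟨Q, hQ⟩ : ∃ Q, Q = q ^ 2 := ⟨_, rfl⟩
  have hQ4 : q ^ 4 = Q * Q := by rw [hQ]; ring
  have hQ9 : 81 ≤ Q := by
    calc 81 = 9 * 9 := rfl
      _ ≤ q * q := Nat.mul_le_mul h9 h9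
      _ = Q := by rw [hQ, sq]
  have hsq : (Q - 1) * (Q - 1) + 2 * Q = Q * Q + 1 := by
    obtain ⟨j, rfl⟩ : ∃ j, Q = j + 1 := ⟨Q - 1, by omega⟩
    rw [Nat.add_sub_cancel]; ring
  have hQQ : 81 * Q ≤ Q * Q := Nat.mul_le_mul_right _ hQ9
  rw [← hQ] at hk ⊢
  rw [hQ4]
  have hc0 : c ≠ 0 := fun h => c_ne_zero σ hσ h3 (h ▸ Hu)
  rcases Nat.lt_or_ge 1 c with hc | hc
  · have h2 : (Q - 1) * ((Q - 1) * 2) ≤ (Q - 1) * ((Q - 1) * c + d) :=
      Nat.mul_le_mul_left _ (le_add_right (Nat.mul_le_mul_left _ hc))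
    rw [← mul_assoc] at h2
    omega
  obtain rfl : c = 1 := by omega
  rw [mul_one] at hk
  by_cases hfull : ∃ ξ : AddChar K ℂ, ξ ≠ 1 ∧ G σ ξ 1 1 = 0
  · obtain ⟨ξ, hξ, h0⟩ := hfull
    have hd := c_one_empty σ (hq ▸ h9) Hu hξ h0
    have h2 : (Q - 1) * ((Q - 1) + 4) ≤ (Q - 1) * (Q - 1 + d) := Nat.mul_le_mul_left _ (by omega)
    rw [Nat.mul_add] at h2
    omega
  push Not at hfull
  haveI : Nontrivial (AddChar K ℂ) := Fintype.one_lt_card_iff_nontrivial.1 (by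
    rw [card_chars]; exact Fintype.one_lt_card)
  obtain ⟨ξ₁, hξ₁⟩ := exists_ne (1 : AddChar K ℂ)
  have hd : d = 1 := (c_one_full σ h3 Hu hξ₁ (hfull ξ₁ hξ₁)).1
  have hN0 : ∀ ξ, ξ ≠ 1 → ∀ δ, δ ≠ 1 → N4 σ ξ 1 δ 1 = 0 := fun ξ hξ => (c_one_full σ h3 Hu hξ (hfull ξ hξ)).2.1
  have hN : ∀ ξ, ξ ≠ 1 → N4 σ ξ 1 1 1 = Fintype.card K := fun ξ hξ => (c_one_full σ h3 Hu hξ (hfull ξ hξ)).2.2
  have hcq : Fintype.card (AddChar K ℂ) = q := by rw [card_chars, hq]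
  have hU : ∀ δ, δ ≠ 1 → N4 σ 1 1 δ 1 = (q - 1) + N4 σ 1 1 1 δ := by
    intro δ hδ
    have e := sum_n1 σ 1 δ 1
    rw [inv_one, sum_split_one (fun ξ => N4 σ ξ 1 δ 1) (fun ξ hξ => hN0 ξ hξ δ hδ),
      sum_split_one (fun ξ => N4 σ ξ 1 1 δ) (fun ξ hξ => Hu.main ξ 1 1 δ (Or.inr ⟨hξ, hδ⟩)), mul_zero, add_zero,
      mul_one, hcq] at e
    omega
  have hdvd : ∀ δ, δ ≠ 1 → q ∣ N4 σ 1 1 δ 1 := by
    intro δ hδ
    refine ⟨G σ 1 δ 1, ?_⟩
    rw [← G_row, Finset.sum_congr rfl fun β (_ : β ∈ (Finset.univ : Finset (AddChar K ℂ))) =>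
      show G σ 1 δ β = G σ 1 δ 1 by
        obtain ⟨s, hs⟩ := exists_shift hδ β
        obtain ⟨u, hu⟩ := cube_surjective (K := K) s
        simp only at hu
        rw [G_row_shift σ (φ := δ) (a := 0) (b := 1) (AddChar.mulShift_zero δ).symm (AddChar.mulShift_one δ).symm u β,
          show β * δ.mulShift (0 * u + -1 * u ^ 3) = 1 by
            rw [show (0 : K) * u + -1 * u ^ 3 = -s by rw [← hu]; ring, ← mulShift_inv, hs, mul_inv_cancel]],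
      Finset.sum_const, Finset.card_univ, hcq, smul_eq_mul]
  have hw : ∀ δ, δ ≠ 1 → N4 σ 1 1 1 δ = 1 ∨ q + 1 ≤ N4 σ 1 1 1 δ := by
    intro δ hδ
    obtain ⟨j, hj⟩ := hdvd δ hδ
    rw [hU δ hδ] at hj
    rcases Nat.lt_or_ge j 2 with hj2 | hj2
    · interval_cases j <;> omega
    · have : q * 2 ≤ q * j := Nat.mul_le_mul_left _ hj2
      omega
  obtain ⟨E, hE⟩ : ∃ E, E = (Finset.univ : Finset (AddChar K ℂ)).erase 1 := ⟨_, rfl⟩
  have hcardE : E.card = q - 1 := by rw [hE]; simp [Finset.card_erase_of_mem, hcq]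
  have hmemE : ∀ δ ∈ E, δ ≠ 1 := fun δ hδ => by rw [hE] at hδ; exact Finset.ne_of_mem_erase hδ
  have hlow : low4 σ = N4 σ 1 1 1 1 + ∑ δ ∈ E, ((q - 1) + (q + 1) * N4 σ 1 1 1 δ) := by
    rw [low4, Finset.sum_comm, ← Finset.add_sum_erase _ _ (Finset.mem_univ (1 : AddChar K ℂ)), ← hE,
      ← Finset.add_sum_erase _ _ (Finset.mem_univ (1 : AddChar K ℂ)), ← hE,
      Finset.sum_congr rfl fun δ hδ => hU δ (hmemE δ hδ),
      Finset.sum_congr rfl fun lam hl => Finset.sum_congr rfl fun δ _ => N4_six σ (hmemE lam hl) 1 1 δ]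
    simp only [Finset.sum_const, Finset.card_univ, hcq, smul_eq_mul]
    rw [add_assoc, ← Finset.sum_add_distrib]
    congr 1
    exact Finset.sum_congr rfl fun δ _ => by ring
  rw [Finset.sum_add_distrib, Finset.sum_const, hcardE, smul_eq_mul, ← Finset.mul_sum] at hlow
  have hsq1 : (q - 1) * (q - 1) + 2 * q = Q + 1 := by
    rw [hQ]
    obtain ⟨j, rfl⟩ : ∃ j, q = j + 1 := ⟨q - 1, by omega⟩
    rw [Nat.add_sub_cancel]; ring
  rw [hd, Nat.sub_add_cancel (by omega : 1 ≤ Q)] at hk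
  have hQ1 : (Q - 1) * Q + Q = Q * Q := by
    rw [← Nat.succ_mul, Nat.succ_eq_add_one, Nat.sub_add_cancel (by omega : 1 ≤ Q)]
  by_cases hall : ∀ δ ∈ E, N4 σ 1 1 1 δ = 1
  · rw [Finset.sum_congr rfl hall, Finset.sum_const, hcardE, smul_eq_mul, mul_one] at hlow
    have ht := fixed_ge σ h3 hN fun δ hδ => by
      rw [hU δ hδ, hall δ (by rw [hE]; simp [hδ]), ← hq]; omega
    rw [← hq] at ht
    have hm : (q + 1) * (q - 1) + 1 = Q := by
      rw [hQ]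
      obtain ⟨j, rfl⟩ : ∃ j, q = j + 1 := ⟨q - 1, by omega⟩
      rw [Nat.add_sub_cancel]; ring
    omega
  · push Not at hall
    obtain ⟨δ₁, hδ₁, hne⟩ := hall
    have hbig : (q - 2) + (q + 1) ≤ ∑ δ ∈ E, N4 σ 1 1 1 δ := by
      rw [← Finset.add_sum_erase _ _ hδ₁, add_comm]
      refine add_le_add ((hw δ₁ (hmemE δ₁ hδ₁)).resolve_left hne) ?_
      have h1 : (E.erase δ₁).card • 1 ≤ ∑ δ ∈ E.erase δ₁, N4 σ 1 1 1 δ :=
        Finset.card_nsmul_le_sum _ _ _ fun δ hδ => by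
          rcases hw δ (hmemE δ (Finset.mem_of_mem_erase hδ)) with h | h <;> omega
      rw [Finset.card_erase_of_mem hδ₁, hcardE, smul_eq_mul, mul_one] at h1
      omega
    have h2 := Nat.mul_le_mul_left (q + 1) hbig
    have hm : (q + 1) * (q - 2 + (q + 1)) + 1 = 2 * Q + q := by
      rw [hQ]
      obtain ⟨j, rfl⟩ : ∃ j, q = j + 2 := ⟨q - 2, by omega⟩
      rw [Nat.add_sub_cancel]; ring
    omega

end Cfsg.Lib.Chev.G2Deg
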