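import Cfsg.Agent.Lib.Chev.G2Degree.Radical
import Cfsg.Agent.Lib.Chev.SpecialTwist

/-!
# The abelian radical of G₂ in characteristic three and the action of the root groups on its characters
-/

set_option autoImplicit false
set_option maxRecDepth 100000
set_option linter.unusedSectionVars false

namespace Cfsg.Lib.Chev.G2Deg

open Cfsg.Lie Cfsg.Lib.Linear.MinDegree Cfsg.Lib.Chev.TriDeg

section General

variable {V : Type*} [AddCommGroup V] [Module ℂ V] [FiniteDimensional ℂ V]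
variable {U W : Type*} [AddCommGroup U] [Fintype U] [AddCommGroup W] [Fintype W]

local notation "tr" => LinearMap.trace ℂ V

/-- The projection of a character of a product is the product of the projections. -/
theorem proj_prod (R : Multiplicative (U × W) →* Module.End ℂ V) (R1 : Multiplicative U →* Module.End ℂ V)
    (R2 : Multiplicative W →* Module.End ℂ V) (h1 : ∀ u, R1 (.ofAdd u) = R (.ofAdd (u, 0)))
    (h2 : ∀ w, R2 (.ofAdd w) = R (.ofAdd (0, w))) (γ : AddChar U ℂ) (θ : AddChar W ℂ) :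
    proj R1 γ * proj R2 θ = proj R (mk γ θ) := by
  rw [proj, proj, proj, smul_mul_smul_comm, Finset.sum_mul_sum, Fintype.card_prod, Nat.cast_mul, mul_inv,
    Fintype.sum_prod_type]
  congr 1
  refine Finset.sum_congr rfl fun u _ => Finset.sum_congr rfl fun w _ => ?_
  rw [smul_mul_smul_comm, h1, h2, ← map_mul, ← ofAdd_add]
  simp [mk_apply]

/-- Relabelling the group. -/
theorem proj_equiv (R : Multiplicative W →* Module.End ℂ V) (R' : Multiplicative U →* Module.End ℂ V) (e : U ≃+ W)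
    (h : ∀ u, R' (.ofAdd u) = R (.ofAdd (e u))) {θ : AddChar W ℂ} {θ' : AddChar U ℂ} (hθ : ∀ u, θ' u = θ (e u)) :
    proj R' θ' = proj R θ := by
  simp only [proj, h, hθ, map_neg, Fintype.card_congr e.toEquiv]
  congr 1
  exact Fintype.sum_equiv e.toEquiv _ _ fun u => rfl

theorem proj_inv (R : Multiplicative W →* Module.End ℂ V) (θ : AddChar W ℂ) {X : Type*} [AddCommGroup X] [Fintype X]
    (S : Multiplicative X →* Module.End ℂ V)
    (h : ∀ v, S (.ofAdd v) * proj R θ = proj R θ * S (.ofAdd v)) : Inv S (proj R θ) :=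
  ⟨proj_mul_self R θ, h⟩

/-- Multiplicities inside a projection onto a factor. -/
theorem mlt_prod (R : Multiplicative (U × W) →* Module.End ℂ V) (R1 : Multiplicative U →* Module.End ℂ V)
    (R2 : Multiplicative W →* Module.End ℂ V) (h1 : ∀ u, R1 (.ofAdd u) = R (.ofAdd (u, 0)))
    (h2 : ∀ w, R2 (.ofAdd w) = R (.ofAdd (0, w))) (γ : AddChar U ℂ) (θ : AddChar W ℂ) :
    mlt R1 (proj R2 θ) γ = mlt R 1 (mk γ θ) := by
  rw [mlt, mlt, proj_prod R R1 R2 h1 h2, mul_one]

/-- Multiplicities add up over the characters of a factor. -/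
theorem mlt_sum_right {X : Type*} [AddCommGroup X] [Fintype X] (S : Multiplicative X →* Module.End ℂ V)
    {ι : Type*} [Fintype ι] (P : ι → Module.End ℂ V) (Q : Module.End ℂ V) (hP : ∀ i, Inv S (P i)) (hQ : Inv S Q)
    (h : ∑ i, P i = Q) (β : AddChar X ℂ) : mlt S Q β = ∑ i, mlt S (P i) β := by
  have e := congrArg (fun T => tr (proj S β * T)) h
  simp only [Finset.mul_sum, map_sum, tr_mlt hQ, fun i => tr_mlt (hP i)] at e
  exact_mod_cast e.symm

end General

variable {K : Type*} [Field K] [Fintype K] [CharP K 3]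
variable {V : Type*} [AddCommGroup V] [Module ℂ V] [FiniteDimensional ℂ V]

theorem three_eq_zero : (3 : K) = 0 := by
  have := CharP.cast_eq_zero K 3
  exact_mod_cast this

theorem comm89 (t u : K) : Commute (x 8 t) (x 9 u) := x_comm_three (by decide +kernel) t u

theorem comm79 (t u : K) : Commute (x 7 t) (x 9 u) := x_comm_three (by decide +kernel) t u

/-- The abelian group of the roots `8, 9, 10, 11`. -/
noncomputable def eR : Multiplicative (K × (K × (K × K))) →* ↥(chevG2.group K) where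
  toFun v := x 8 v.toAdd.1 * eE (.ofAdd v.toAdd.2)
  map_one' := by
    rw [toAdd_one, Prod.fst_zero, Prod.snd_zero, x_zero, one_mul, ofAdd_zero, map_one]
  map_mul' v w := by
    have c : Commute (eE (.ofAdd v.toAdd.2)) (x 8 w.toAdd.1) := by
      obtain ⟨t, d, z⟩ := v.toAdd.2
      rw [eE_apply]
      exact ((comm89 _ _).symm.mul_left (x_comm (by decide +kernel) _ _)).mul_left (x_comm (by decide +kernel) _ _)
    simp only [toAdd_mul, Prod.fst_add, Prod.snd_add, ← x_add, ofAdd_add, map_mul]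
    calc _ = x 8 v.toAdd.1 * (x 8 w.toAdd.1 * eE (.ofAdd v.toAdd.2)) * eE (.ofAdd w.toAdd.2) := by group
      _ = _ := by rw [← c.eq]; group

theorem eR_apply (v t d z : K) : eR (.ofAdd (v, (t, (d, z)))) = x 8 v * eE (.ofAdd (t, (d, z))) := rfl

/-- The abelian group of the roots `8, 9, 11`. -/
noncomputable def eS : Multiplicative (K × (K × K)) →* ↥(chevG2.group K) :=
  eR.comp (AddMonoidHom.toMultiplicative
    { toFun := fun p => (p.1, (p.2.1, ((0 : K), p.2.2)))
      map_zero' := rfl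
      map_add' := fun p p' => by simp })

theorem eS_apply (v t z : K) : eS (.ofAdd (v, (t, z))) = eR (.ofAdd (v, (t, ((0 : K), z)))) := rfl

theorem x6_eR (a v t d z : K) :
    x 6 a * eR (.ofAdd (v, (t, (d, z)))) * (x 6 a)⁻¹ = eR (.ofAdd (v, (t, (d, z + a * d)))) := by
  have h := eA_conj a 0 t d z
  rw [eA_apply, x_zero, mul_one, mul_zero, add_zero] at h
  rw [eR_apply, eR_apply, ← conj_mul, h, fix_of_comm (x_comm (by decide +kernel) _ _)]

theorem x7_eR (u v t d z : K) :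
    x 7 u * eR (.ofAdd (v, (t, (d, z)))) * (x 7 u)⁻¹ = eR (.ofAdd (v, (t + v * u, (d, z)))) := by
  have e8 : x 7 u * x 8 v * (x 7 u)⁻¹ = x 8 v * x 9 (v * u) := by
    rw [x_conj (l := [(9, 2, 1, 1), (11, 3, 2, 1), (10, -3, 1, 2)]) (by decide +kernel)]
    simp only [List.map_cons, List.map_nil, List.prod_cons, List.prod_nil, Int.cast_ofNat, Int.cast_neg, mul_one,
      three_eq_zero, neg_zero, zero_mul, x_zero, pow_one]
    rw [fix_of_comm (comm79 _ _)]
    congr 2
    linear_combination (-(v * u)) * (three_eq_zero (K := K))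
  rw [eR_apply, eR_apply, ← conj_mul, e8, x7_conj, three_eq_zero, zero_mul, zero_mul, add_zero, mul_assoc,
    eE_apply, eE_apply, add_comm t, ← x_add]
  group

theorem n0_eS (v t z : K) : n 0 * eS (.ofAdd (v, (t, z))) * (n 0)⁻¹ = eS (.ofAdd (-t, (v, z))) := by
  simp only [eS_apply, eR_apply, eE_apply, x_zero, mul_one]
  rw [← conj_mul, ← conj_mul, n_conj (k := 9) (e := 1) (by decide +kernel),
    n_conj (k := 8) (e := -1) (by decide +kernel), n_conj (k := 11) (e := 1) (by decide +kernel), ← mul_assoc,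
    ← (comm89 _ _).eq, mul_assoc]
  simp

theorem tor_eR (a b : Kˣ) (v t d z : K) :
    tor a b * eR (.ofAdd (v, (t, (d, z)))) * (tor a b)⁻¹ =
      eR (.ofAdd ((b : K) / (a : K) * v, ((a : K) * t, ((a : K) ^ 3 / (b : K) * d, (b : K) * z)))) := by
  rw [eR_apply, eR_apply, eE_apply, eE_apply, ← conj_mul, ← conj_mul, ← conj_mul, tor8, tor9, tor10, tor11]

attribute [irreducible] eR eS

variable (σ : ↥(chevG2.group K) →* Module.End ℂ V)

/-- The representation of the radical. -/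
noncomputable def R4 : Multiplicative (K × (K × (K × K))) →* Module.End ℂ V := σ.comp eR

/-- The representation of the roots `8, 9, 11`. -/
noncomputable def RS : Multiplicative (K × (K × K)) →* Module.End ℂ V := σ.comp eS

/-- The representation of the root group `10`. -/
noncomputable def R10 : Multiplicative K →* Module.End ℂ V :=
  (R3 σ).comp (AddMonoidHom.toMultiplicative ((AddMonoidHom.inr K (K × K)).comp (AddMonoidHom.inl K K)))

theorem R4_apply (p : K × (K × (K × K))) : R4 σ (.ofAdd p) = σ (eR (.ofAdd p)) := rfl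

theorem RS_apply (p : K × (K × K)) : RS σ (.ofAdd p) = σ (eS (.ofAdd p)) := rfl

theorem R10_apply (d : K) : R10 σ (.ofAdd d) = σ (x 10 d) := by
  show R3 σ (.ofAdd ((0 : K), (d, (0 : K)))) = _
  rw [R3_apply, eE_apply, x_zero, x_zero, one_mul, mul_one]

theorem R3_eq_R4 (p : K × (K × K)) : R3 σ (.ofAdd p) = R4 σ (.ofAdd ((0 : K), p)) := by
  obtain ⟨t, d, z⟩ := p
  rw [R3_apply, R4_apply, eR_apply, x_zero, one_mul]

attribute [irreducible] R4 RS R10

/-- The character with the given components at `8, 9, 10, 11`. -/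
noncomputable def ch (ξ η δ lam : AddChar K ℂ) : AddChar (K × (K × (K × K))) ℂ := mk ξ (mk η (mk δ lam))

/-- The multiplicities. -/
noncomputable def N4 (ξ η δ lam : AddChar K ℂ) : ℕ := mlt (R4 σ) 1 (ch ξ η δ lam)

theorem move4 (g : ↥(chevG2.group K)) (τ : K × (K × (K × K)) ≃ K × (K × (K × K)))
    (hg : ∀ p, g * eR (.ofAdd p) * g⁻¹ = eR (.ofAdd (τ p))) {θ θ' : AddChar (K × (K × (K × K))) ℂ}
    (hθ : ∀ p, θ' (-τ p) = θ (-p)) : σ g * proj (R4 σ) θ * σ g⁻¹ = proj (R4 σ) θ' :=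
  conj_proj _ τ (fun p => by rw [R4_apply, R4_apply, ← map_mul, ← map_mul, hg]) θ θ' hθ

theorem move4_mlt (g : ↥(chevG2.group K)) (τ : K × (K × (K × K)) ≃ K × (K × (K × K)))
    (hg : ∀ p, g * eR (.ofAdd p) * g⁻¹ = eR (.ofAdd (τ p))) {θ θ' : AddChar (K × (K × (K × K))) ℂ}
    (hθ : ∀ p, θ' (-τ p) = θ (-p)) : mlt (R4 σ) 1 θ = mlt (R4 σ) 1 θ' :=
  mlt_conj inv_id inv_id (sigma_inv_mul σ g) τ
    (fun p => by rw [R4_apply, R4_apply, ← map_mul, ← map_mul, hg])
    (by rw [mul_one, ← map_mul, mul_inv_cancel, map_one]) hθ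

/-- The root group `7` moves the first component. -/
theorem N4_seven {η : AddChar K ℂ} (hη : η ≠ 1) (ξ δ lam : AddChar K ℂ) :
    N4 σ ξ η δ lam = N4 σ 1 η δ lam := by
  obtain ⟨w, hw⟩ := shift_surjective hη ξ
  let τ : K × (K × (K × K)) ≃ K × (K × (K × K)) :=
    { toFun := fun p => (p.1, (p.2.1 + p.1 * w, p.2.2))
      invFun := fun p => (p.1, (p.2.1 - p.1 * w, p.2.2))
      left_inv := fun p => by simp
      right_inv := fun p => by simp }
  refine move4_mlt σ (x 7 w) τ (fun p => x7_eR w p.1 p.2.1 p.2.2.1 p.2.2.2) fun p => ?_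
  show ch 1 η δ lam (-p.1, (-(p.2.1 + p.1 * w), -p.2.2)) = ch ξ η δ lam (-p.1, (-p.2.1, -p.2.2))
  simp only [ch, mk_apply, AddChar.one_apply, one_mul, ← hw]
  rw [← mul_assoc (η (w * _)), ← AddChar.map_add_eq_mul]
  congr 2
  ring

/-- The root group `6` moves the third component. -/
theorem N4_six {lam : AddChar K ℂ} (hl : lam ≠ 1) (ξ η δ : AddChar K ℂ) :
    N4 σ ξ η δ lam = N4 σ ξ η 1 lam := by
  obtain ⟨w, hw⟩ := shift_surjective hl δ
  let τ : K × (K × (K × K)) ≃ K × (K × (K × K)) :=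
    { toFun := fun p => (p.1, (p.2.1, (p.2.2.1, p.2.2.2 + w * p.2.2.1)))
      invFun := fun p => (p.1, (p.2.1, (p.2.2.1, p.2.2.2 - w * p.2.2.1)))
      left_inv := fun p => by simp
      right_inv := fun p => by simp }
  refine move4_mlt σ (x 6 w) τ (fun p => x6_eR w p.1 p.2.1 p.2.2.1 p.2.2.2) fun p => ?_
  show ch ξ η 1 lam (-p.1, (-p.2.1, (-p.2.2.1, -(p.2.2.2 + w * p.2.2.1)))) =
    ch ξ η δ lam (-p.1, (-p.2.1, (-p.2.2.1, -p.2.2.2)))
  simp only [ch, mk_apply, AddChar.one_apply, one_mul, ← hw]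
  rw [← AddChar.map_add_eq_mul (ψ := lam)]
  congr 3
  ring

/-- The torus scales the components. -/
theorem N4_tor (a b : Kˣ) {ξ η δ lam ξ' η' δ' lam' : AddChar K ℂ}
    (h8 : ∀ t, ξ' ((b : K) / (a : K) * t) = ξ t) (h9 : ∀ t, η' ((a : K) * t) = η t)
    (h10 : ∀ t, δ' ((a : K) ^ 3 / (b : K) * t) = δ t) (h11 : ∀ t, lam' ((b : K) * t) = lam t) :
    N4 σ ξ η δ lam = N4 σ ξ' η' δ' lam' := by
  refine move4_mlt σ (tor a b) ((Equiv.mulLeft₀ _ (div_ne_zero b.ne_zero a.ne_zero)).prodCongr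
    ((Equiv.mulLeft₀ _ a.ne_zero).prodCongr ((Equiv.mulLeft₀ _ (div_ne_zero (pow_ne_zero 3 a.ne_zero) b.ne_zero)).prodCongr
      (Equiv.mulLeft₀ _ b.ne_zero)))) (fun p => tor_eR a b p.1 p.2.1 p.2.2.1 p.2.2.2) fun p => ?_
  simp [ch, ← h8, ← h9, ← h10, ← h11]

theorem sum_R3 (η δ lam : AddChar K ℂ) :
    mlt (R3 σ) 1 (mk η (mk δ lam)) = ∑ ξ, N4 σ ξ η δ lam :=
  mlt_marginal (R3 σ) (R4 σ) (R3_eq_R4 σ) _

/-- The characters of `8, 9, 10, 11` with the third component first. -/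
noncomputable def perm : K × (K × (K × K)) ≃+ K × (K × (K × K)) where
  toFun p := (p.2.1, (p.2.2.1, (p.1, p.2.2.2)))
  invFun p := (p.2.2.1, (p.1, (p.2.1, p.2.2.2)))
  left_inv p := rfl
  right_inv p := rfl
  map_add' p p' := rfl

/-- The radical with the root `10` first. -/
noncomputable def R4' : Multiplicative (K × (K × (K × K))) →* Module.End ℂ V :=
  (R4 σ).comp (AddMonoidHom.toMultiplicative (perm (K := K)).toAddMonoidHom)

theorem RS_eq (p : K × (K × K)) : RS σ (.ofAdd p) = R4' σ (.ofAdd ((0 : K), p)) := by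
  obtain ⟨v, t, z⟩ := p
  show _ = R4 σ (.ofAdd (v, (t, ((0 : K), z))))
  rw [RS_apply, eS_apply, R4_apply]

theorem proj_R4' (ξ η δ lam : AddChar K ℂ) :
    proj (R4' σ) (mk δ (mk ξ (mk η lam))) = proj (R4 σ) (ch ξ η δ lam) :=
  proj_equiv (R4 σ) (R4' σ) perm (fun u => rfl) fun u => by
    obtain ⟨d, v, t, z⟩ := u
    show δ d * (ξ v * (η t * lam z)) = ξ v * (η t * (δ d * lam z))
    ring

theorem proj_RS (ξ η lam : AddChar K ℂ) :
    proj (RS σ) (mk ξ (mk η lam)) = ∑ δ, proj (R4 σ) (ch ξ η δ lam) := by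
  rw [← sum_marginal (RS σ) (R4' σ) (RS_eq σ)]
  exact Finset.sum_congr rfl fun δ _ => proj_R4' σ ξ η δ lam

theorem sum_RS (ξ η lam : AddChar K ℂ) : mlt (RS σ) 1 (mk ξ (mk η lam)) = ∑ δ, N4 σ ξ η δ lam := by
  rw [mlt_marginal (RS σ) (R4' σ) (RS_eq σ)]
  refine Finset.sum_congr rfl fun δ _ => ?_
  rw [N4, mlt, mlt, proj_R4']

theorem R10_prod (δ : AddChar K ℂ) (ξ η lam : AddChar K ℂ) :
    mlt (R10 σ) (proj (RS σ) (mk ξ (mk η lam))) δ = N4 σ ξ η δ lam := by
  rw [mlt_prod (R4' σ) (R10 σ) (RS σ) (fun d => ?_) (RS_eq σ), N4, mlt, mlt, proj_R4']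
  show _ = R4 σ (.ofAdd ((0 : K), ((0 : K), (d, (0 : K)))))
  rw [R10_apply, R4_apply, eR_apply, eE_apply, x_zero, x_zero, x_zero, one_mul, one_mul, mul_one]

/-- The short simple reflection. -/
theorem sum_n0 (ξ η lam : AddChar K ℂ) : ∑ δ, N4 σ ξ η δ lam = ∑ δ, N4 σ η⁻¹ ξ δ lam := by
  rw [← sum_RS, ← sum_RS]
  let τ : K × (K × K) ≃ K × (K × K) :=
    { toFun := fun p => (-p.2.1, (p.1, p.2.2))
      invFun := fun p => (p.2.1, (-p.1, p.2.2))
      left_inv := fun p => by simp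
      right_inv := fun p => by simp }
  refine mlt_conj inv_id inv_id (sigma_inv_mul σ (n 0)) τ (fun p => ?_)
    (by rw [mul_one, ← map_mul, mul_inv_cancel, map_one]) fun p => ?_
  · rw [RS_apply, RS_apply, ← map_mul, ← map_mul]
    exact congrArg σ (n0_eS p.1 p.2.1 p.2.2)
  · show mk η⁻¹ (mk ξ lam) (-(-p.2.1), (-p.1, -p.2.2)) = mk ξ (mk η lam) (-p.1, (-p.2.1, -p.2.2))
    simp only [mk_apply, neg_neg, AddChar.inv_apply]
    ring

/-- The long simple reflection. -/
theorem sum_n1 (η δ lam : AddChar K ℂ) : ∑ ξ, N4 σ ξ η δ lam = ∑ ξ, N4 σ ξ η lam⁻¹ δ := by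
  rw [← sum_R3, ← sum_R3]
  let τ : K × (K × K) ≃ K × (K × K) :=
    { toFun := fun p => (p.1, (-p.2.2, p.2.1))
      invFun := fun p => (p.1, (p.2.2, -p.2.1))
      left_inv := fun p => by simp
      right_inv := fun p => by simp }
  refine move3 σ (n 1) τ (fun p => n1_conj p.1 p.2.1 p.2.2) fun p => ?_
  show mk η (mk lam⁻¹ δ) (-p.1, (-(-p.2.2), -p.2.1)) = mk η (mk δ lam) (-p.1, (-p.2.1, -p.2.2))
  simp only [mk_apply, neg_neg, AddChar.inv_apply]
  ring

end Cfsg.Lib.Chev.G2Deg
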