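import Cfsg.Agent.Lib.Chev.G2Degree.ThreeJoint

/-!
# The possible multiplicities in characteristic three
-/

set_option autoImplicit false
set_option linter.unusedSectionVars false

namespace Cfsg.Lib.Chev.G2Deg

open Cfsg.Lie Cfsg.Lib.Linear.MinDegree Cfsg.Lib.Chev.TriDeg

variable {K : Type*} [Field K] [Fintype K] [CharP K 3]
variable {V : Type*} [AddCommGroup V] [Module ℂ V] [FiniteDimensional ℂ V]
variable (σ : ↥(chevG2.group K) →* Module.End ℂ V)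

theorem cube_surjective : Function.Surjective fun u : K => u ^ 3 := by
  refine (Finite.injective_iff_surjective).1 fun u v h => ?_
  have : (u - v) ^ 3 = 0 := by
    linear_combination h - u * v * (u - v) * (three_eq_zero (K := K))
  exact sub_eq_zero.1 (pow_eq_zero_iff (by norm_num) |>.1 this)

theorem mulShift_apply' (φ : AddChar K ℂ) (w t : K) : φ.mulShift w t = φ (w * t) := rfl

theorem mulShift_inv (φ : AddChar K ℂ) (w : K) : (φ.mulShift w)⁻¹ = φ.mulShift (-w) :=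
  DFunLike.ext _ _ fun t => by simp [AddChar.inv_apply]

theorem mulShift_eq_one {φ : AddChar K ℂ} (hφ : φ ≠ 1) {w : K} (h : φ.mulShift w = 1) : w = 0 := by
  by_contra hw
  refine hφ (DFunLike.ext _ _ fun t => ?_)
  have := DFunLike.congr_fun h (t / w)
  rwa [AddChar.mulShift_apply, mul_div_cancel₀ _ hw] at this

theorem mulShift_inj {φ : AddChar K ℂ} (hφ : φ ≠ 1) {v w : K} (h : φ.mulShift v = φ.mulShift w) : v = w := by
  refine sub_eq_zero.1 (mulShift_eq_one hφ (DFunLike.ext _ _ fun t => ?_))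
  rw [AddChar.mulShift_apply, sub_mul, AddChar.map_sub_eq_div, ← AddChar.mulShift_apply, ← AddChar.mulShift_apply, h,
    div_self ((AddChar.val_isUnit _ _).ne_zero), AddChar.one_apply]

theorem exists_shift {φ : AddChar K ℂ} (hφ : φ ≠ 1) (χ : AddChar K ℂ) : ∃ a, χ = φ.mulShift a := by
  obtain ⟨a, ha⟩ := shift_surjective hφ χ
  exact ⟨a, DFunLike.ext _ _ fun t => by rw [AddChar.mulShift_apply, ha]⟩

/-- The shift of a row. -/
theorem G_row_shift {φ : AddChar K ℂ} {ξ δ : AddChar K ℂ} {a b : K} (hξ : ξ = φ.mulShift a) (hδ : δ = φ.mulShift b)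
    (u : K) (β : AddChar K ℂ) : G σ ξ δ β = G σ ξ δ (β * φ.mulShift (a * u + -b * u ^ 3)) := by
  rw [G_shift σ u ξ δ (φ.mulShift (-(a * u) + b * u ^ 3)) (fun t => ?_) β, mulShift_inv]
  · congr 3; ring
  · simp only [hξ, hδ, AddChar.mulShift_apply, ← AddChar.map_add_eq_mul]
    congr 1; ring

theorem G_row_const {ξ : AddChar K ℂ} (hξ : ξ ≠ 1) (β : AddChar K ℂ) : G σ ξ 1 β = G σ ξ 1 1 := by
  obtain ⟨s, hs⟩ := exists_shift hξ β
  rw [G_row_shift σ (φ := ξ) (a := 1) (b := 0) (AddChar.mulShift_one ξ).symm (AddChar.mulShift_zero ξ).symm (-s) β,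
    show β * ξ.mulShift (1 * -s + -0 * (-s) ^ 3) = 1 by
      rw [show (1 : K) * -s + -0 * (-s) ^ 3 = -s by ring, ← mulShift_inv, hs, mul_inv_cancel]]

theorem exists_cubic_ne (h9 : 3 < Fintype.card K) (a b : K) (hb : b ≠ 0) : ∃ u : K, a * u + b * u ^ 3 ≠ 0 := by
  classical
  by_contra! h
  have h1 := card_fibre_le a b hb 0
  rw [Finset.filter_true_of_mem fun u _ => h u, Finset.card_univ] at h1
  omega

/-- A row over a non-trivial third component is determined away from the trivial character. -/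
theorem G_one_eq (h9 : 3 < Fintype.card K) {ξ δ : AddChar K ℂ} (hξ : ξ ≠ 1) (hδ : δ ≠ 1) :
    ∃ β, β ≠ 1 ∧ G σ ξ δ 1 = G σ ξ δ β := by
  obtain ⟨b, hb⟩ := exists_shift hξ δ
  have hb0 : b ≠ 0 := fun e => hδ (by rw [hb, e, AddChar.mulShift_zero])
  obtain ⟨u, hu⟩ := exists_cubic_ne h9 1 (-b) (neg_ne_zero.2 hb0)
  refine ⟨_, fun e => hu (mulShift_eq_one hξ e), ?_⟩
  have := G_row_shift σ (φ := ξ) (a := 1) (b := b) (AddChar.mulShift_one ξ).symm hb u 1
  rwa [one_mul] at this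

theorem G_sum {c d : ℕ} (Hu : Unif σ c d) {ξ : AddChar K ℂ} (hξ : ξ ≠ 1) :
    (∀ β, β ≠ 1 → ∑ δ, G σ ξ δ β = c) ∧ ∑ δ, G σ ξ δ 1 = d :=
  ⟨fun β hβ => by rw [G_col, Hu.main 1 ξ β 1 (Or.inl ⟨hξ, Or.inl hβ⟩)], by rw [G_col, Hu.side 1 ξ hξ]⟩

theorem G_le {c d : ℕ} (Hu : Unif σ c d) {ξ : AddChar K ℂ} (hξ : ξ ≠ 1) {δ β : AddChar K ℂ} (hβ : β ≠ 1) :
    G σ ξ δ β ≤ c := by
  rw [← (G_sum σ Hu hξ).1 β hβ]
  exact Finset.single_le_sum (f := fun δ => G σ ξ δ β) (fun _ _ => Nat.zero_le _) (Finset.mem_univ δ)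

/-- Some multiplicity is not zero. -/
theorem c_ne_zero (hσ : Function.Injective σ) (h9 : 3 < Fintype.card K) {d : ℕ} : ¬ Unif σ 0 d := by
  classical
  intro Hu
  haveI : Nontrivial (AddChar K ℂ) := Fintype.one_lt_card_iff_nontrivial.1 (by
    rw [card_chars]; exact Fintype.one_lt_card)
  obtain ⟨ξ₁, hξ₁⟩ := exists_ne (1 : AddChar K ℂ)
  have hd : d = 0 := by
    rw [← (G_sum σ Hu hξ₁).2]
    refine Finset.sum_eq_zero fun δ _ => ?_
    obtain ⟨β, hβ, e⟩ : ∃ β, β ≠ 1 ∧ G σ ξ₁ δ 1 = G σ ξ₁ δ β := by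
      rcases eq_or_ne δ 1 with rfl | hδ
      · exact ⟨ξ₁, hξ₁, (G_row_const σ hξ₁ ξ₁).symm⟩
      · exact G_one_eq σ h9 hξ₁ hδ
    have := G_le σ Hu hξ₁ (δ := δ) hβ
    omega
  subst hd
  have h1 : R4 σ (.ofAdd ((0 : K), ((1 : K), ((0 : K), (0 : K))))) = 1 := by
    rw [← mul_one (R4 σ _), ← sum_proj (R4 σ), Finset.mul_sum]
    refine Finset.sum_congr rfl fun χ _ => ?_
    rw [R_mul_proj]
    obtain ⟨⟨ξ, θ⟩, rfl⟩ := mk_bijective.2 χ
    obtain ⟨⟨η, θ'⟩, rfl⟩ := mk_bijective.2 θ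
    obtain ⟨⟨δ, lam⟩, rfl⟩ := mk_bijective.2 θ'
    rcases eq_or_ne η 1 with rfl | hη
    · simp
    · have h0 : N4 σ ξ η δ lam = 0 := by
        rcases eq_or_ne δ 1 with rfl | hδ
        · rcases eq_or_ne lam 1 with rfl | hl
          · exact Hu.side ξ η hη
          · exact Hu.main ξ η 1 lam (Or.inl ⟨hη, Or.inr hl⟩)
        · exact Hu.main ξ η δ lam (Or.inl ⟨hη, Or.inl hδ⟩)
      have h2 := proj_mul_eq_zero (R := R4 σ) inv_id h0
      rw [mul_one, ch] at h2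
      rw [h2, smul_zero]
  rw [R4_apply, eR_apply, x_zero, one_mul, eE_apply, x_zero, x_zero, mul_one, mul_one, ← map_one σ] at h1
  exact one_ne_zero (x_eq_one (by norm_num) (hσ h1))

theorem c_one_hit {d : ℕ} (Hu : Unif σ 1 d) {ξ : AddChar K ℂ} (hξ : ξ ≠ 1) (h0 : G σ ξ 1 1 ≠ 0) :
    d = 1 ∨ ∃ δ, δ ≠ 1 ∧ G σ ξ δ 1 ≠ 0 := by
  classical
  by_cases h : ∃ δ, δ ≠ 1 ∧ G σ ξ δ 1 ≠ 0
  · exact Or.inr h
  push Not at h
  left
  have h2 := (G_sum σ Hu hξ).1 ξ hξ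
  rw [← Finset.add_sum_erase _ _ (Finset.mem_univ (1 : AddChar K ℂ)), G_row_const σ hξ ξ] at h2
  rw [← (G_sum σ Hu hξ).2, sum_split_one (fun δ => G σ ξ δ 1) h, mul_zero, add_zero]
  omega

/-- In the case where the trivial row is occupied the middle multiplicities vanish. -/
theorem c_one_full (h9 : 3 < Fintype.card K) {d : ℕ} (Hu : Unif σ 1 d) {ξ : AddChar K ℂ} (hξ : ξ ≠ 1)
    (h0 : G σ ξ 1 1 ≠ 0) : d = 1 ∧ (∀ δ, δ ≠ 1 → N4 σ ξ 1 δ 1 = 0) ∧ N4 σ ξ 1 1 1 = Fintype.card K := by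
  classical
  have h1 : ∀ δ β, δ ≠ 1 → β ≠ 1 → G σ ξ δ β = 0 := fun δ β hδ hβ => by
    have h2 := (G_sum σ Hu hξ).1 β hβ
    rw [← Finset.add_sum_erase _ _ (Finset.mem_univ (1 : AddChar K ℂ)), G_row_const σ hξ β] at h2
    have h3 : G σ ξ δ β ≤ ∑ δ' ∈ (Finset.univ : Finset (AddChar K ℂ)).erase 1, G σ ξ δ' β :=
      Finset.single_le_sum (f := fun δ' => G σ ξ δ' β) (fun _ _ => Nat.zero_le _) (by simp [hδ])
    omega
  have h1' : ∀ δ, δ ≠ 1 → G σ ξ δ 1 = 0 := fun δ hδ => by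
    obtain ⟨β, hβ, e⟩ := G_one_eq σ h9 hξ hδ
    rw [e, h1 δ β hδ hβ]
  rcases c_one_hit σ Hu hξ h0 with hd | ⟨δ, hδ, hne⟩
  · refine ⟨hd, fun δ hδ => ?_, ?_⟩
    · rw [← G_row]
      refine Finset.sum_eq_zero fun β _ => ?_
      rcases eq_or_ne β 1 with rfl | hβ
      exacts [h1' δ hδ, h1 δ β hδ hβ]
    · rw [← G_row, Finset.sum_congr rfl fun β _ => G_row_const σ hξ β, Finset.sum_const, Finset.card_univ,
        card_chars, smul_eq_mul]
      have h2 := (G_sum σ Hu hξ).2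
      rw [sum_split_one (fun δ => G σ ξ δ 1) h1', mul_zero, add_zero, hd] at h2
      rw [h2, mul_one]
  · exact absurd (h1' δ hδ) hne

/-- Each occupied row has a third of the characters. -/
theorem row_ge {ξ δ β : AddChar K ℂ} (hξ : ξ ≠ 1) (hδ : δ ≠ 1) (h : G σ ξ δ β ≠ 0) :
    Fintype.card K ≤ 3 * N4 σ ξ 1 δ 1 := by
  classical
  obtain ⟨b, hb⟩ := exists_shift hξ δ
  have hb0 : b ≠ 0 := fun e => hδ (by rw [hb, e, AddChar.mulShift_zero])
  obtain ⟨f, hf⟩ : ∃ f : K → AddChar K ℂ, f = fun u => β * ξ.mulShift (1 * u + -b * u ^ 3) := ⟨_, rfl⟩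
  have h1 : (Finset.univ : Finset K).card ≤ 3 * ((Finset.univ : Finset K).image f).card := by
    refine Finset.card_le_mul_card_image _ 3 fun y hy => ?_
    obtain ⟨u₀, -, rfl⟩ := Finset.mem_image.1 hy
    refine le_trans (Finset.card_le_card fun u hu => ?_)
      (card_fibre_le (1 : K) (-b) (neg_ne_zero.2 hb0) (1 * u₀ + -b * u₀ ^ 3))
    rw [Finset.mem_filter] at hu ⊢
    refine ⟨Finset.mem_univ _, mulShift_inj hξ ?_⟩
    have := hu.2
    simp only [hf] at this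
    exact mul_left_cancel this
  have h2 : ((Finset.univ : Finset K).image f).card ≤ N4 σ ξ 1 δ 1 := by
    rw [← G_row, Finset.card_eq_sum_ones]
    refine le_trans (Finset.sum_le_sum fun y hy => ?_) (Finset.sum_le_sum_of_subset (Finset.subset_univ _))
    obtain ⟨u, -, rfl⟩ := Finset.mem_image.1 hy
    have e := G_row_shift σ (φ := ξ) (a := 1) (b := b) (AddChar.mulShift_one ξ).symm hb u β
    rw [hf]
    simp only
    rw [← e]
    omega
  rw [Finset.card_univ] at h1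
  omega

/-- In the other case the middle multiplicity is large. -/
theorem c_one_empty (h9 : 9 ≤ Fintype.card K) {d : ℕ} (Hu : Unif σ 1 d) {ξ : AddChar K ℂ} (hξ : ξ ≠ 1)
    (h0 : G σ ξ 1 1 = 0) : 4 ≤ d := by
  classical
  obtain ⟨δ₀, hδ₀, hG⟩ : ∃ δ₀, δ₀ ≠ 1 ∧ G σ ξ δ₀ ξ ≠ 0 := by
    by_contra! h
    have h2 := (G_sum σ Hu hξ).1 ξ hξ
    rw [sum_split_one (fun δ => G σ ξ δ ξ) h, G_row_const σ hξ ξ, h0, mul_zero] at h2
    omega
  obtain ⟨f, hf⟩ : ∃ f : Kˣ → AddChar K ℂ, f = fun e : Kˣ => δ₀.mulShift (((e : K) ^ 2)⁻¹) := ⟨_, rfl⟩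
  have hcard : Fintype.card Kˣ ≤ 2 * ((Finset.univ : Finset Kˣ).image f).card := by
    rw [← Finset.card_univ]
    refine Finset.card_le_mul_card_image _ 2 fun y hy => ?_
    obtain ⟨e₀, -, rfl⟩ := Finset.mem_image.1 hy
    refine le_trans (Finset.card_le_card fun e he => ?_) (Finset.card_le_two (a := e₀) (b := -e₀))
    rw [Finset.mem_filter] at he
    simp only [hf] at he
    have h2 := inv_injective (mulShift_inj hδ₀ he.2)
    rw [Finset.mem_insert, Finset.mem_singleton]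
    rcases (sq_eq_sq_iff_eq_or_eq_neg).1 h2 with h | h
    · exact Or.inl (Units.ext h)
    · exact Or.inr (Units.ext (by rw [Units.val_neg]; exact h))
  have hrow : ∀ y ∈ (Finset.univ : Finset Kˣ).image f, Fintype.card K ≤ 3 * N4 σ ξ 1 y 1 ∧ y ≠ 1 := by
    intro y hy
    obtain ⟨e, -, rfl⟩ := Finset.mem_image.1 hy
    rw [hf]
    simp only
    have hne : δ₀.mulShift (((e : K) ^ 2)⁻¹) ≠ 1 := fun h =>
      inv_ne_zero (pow_ne_zero 2 e.ne_zero) (mulShift_eq_one hδ₀ h)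
    refine ⟨row_ge σ hξ hne (β := ξ.mulShift (e : K)) ?_, hne⟩
    rw [← G_tor σ e (δ := δ₀) (β := ξ) (fun t => ?_) (fun t => ?_)]
    · exact hG
    · rw [AddChar.mulShift_apply, inv_mul_cancel_left₀ (pow_ne_zero 2 e.ne_zero)]
    · rw [AddChar.mulShift_apply, mul_inv_cancel_left₀ e.ne_zero]
  have htot : ∑ δ, N4 σ ξ 1 δ 1 = d + (Fintype.card K - 1) := by rw [sum_delta σ Hu hξ, mul_one]
  have hlow : ((Finset.univ : Finset Kˣ).image f).card * Fintype.card K ≤ 3 * ∑ δ, N4 σ ξ 1 δ 1 := by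
    rw [Finset.mul_sum, ← smul_eq_mul]
    exact le_trans (Finset.card_nsmul_le_sum _ _ _ fun y hy => (hrow y hy).1)
      (Finset.sum_le_sum_of_subset (Finset.subset_univ _))
  rw [htot] at hlow
  rw [Fintype.card_units] at hcard
  have h8 : (Fintype.card K - 1) * Fintype.card K ≤
      2 * ((Finset.univ : Finset Kˣ).image f).card * Fintype.card K := Nat.mul_le_mul_right _ hcard
  have h81 : (Fintype.card K - 1) * 9 ≤ (Fintype.card K - 1) * Fintype.card K := Nat.mul_le_mul_left _ h9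
  rw [mul_assoc] at h8
  omega

end Cfsg.Lib.Chev.G2Deg
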