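import Cfsg.Agent.Lib.Chev.G2Degree.ThreeBase

/-!
# Multiplicities in characteristic three and their refinement by the long simple root group
-/

set_option autoImplicit false
set_option maxRecDepth 100000
set_option linter.unusedSectionVars false

namespace Cfsg.Lib.Chev.G2Deg

open Cfsg.Lie Cfsg.Lib.Linear.MinDegree Cfsg.Lib.Chev.TriDeg

section General

variable {V : Type*} [AddCommGroup V] [Module ℂ V] [FiniteDimensional ℂ V]
variable {W : Type*} [AddCommGroup W] [Fintype W]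

/-- A conjugation that multiplies an abelian group by scalars inside a projection shifts its characters. -/
theorem mlt_shift {R : Multiplicative W →* Module.End ℂ V} {P g g' : Module.End ℂ V} (h : Inv R P) (hg : g' * g = 1)
    (hP : g * P * g' = P) (χ : AddChar W ℂ)
    (hgR : ∀ t, g * R (.ofAdd t) * g' * P = χ t • (R (.ofAdd t) * P)) (β : AddChar W ℂ) :
    mlt R P β = mlt R P (β * χ⁻¹) := by
  have e : g * (proj R β * P) * g' = proj R (β * χ⁻¹) * P := by
    rw [conj_mul' hg, hP]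
    simp only [proj, mul_smul_comm, smul_mul_assoc, Finset.mul_sum, Finset.sum_mul, hgR, smul_smul]
    congr 1
    refine Finset.sum_congr rfl fun t _ => ?_
    rw [AddChar.mul_apply, AddChar.inv_apply, neg_neg]
  have := tr_conj hg e
  rw [tr_mlt h, tr_mlt h, Nat.cast_inj] at this
  exact this

/-- A conjugation carrying one abelian group to another. -/
theorem mlt_conj_pair {R R' : Multiplicative W →* Module.End ℂ V} {P P' g g' : Module.End ℂ V} (h : Inv R P)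
    (h' : Inv R' P') (hg : g' * g = 1) (hτ : ∀ b, g * R (.ofAdd b) * g' = R' (.ofAdd b)) (hP : g * P * g' = P')
    (β : AddChar W ℂ) : mlt R P β = mlt R' P' β := by
  have e : g * (proj R β * P) * g' = proj R' β * P' := by
    rw [conj_mul' hg, hP]
    congr 1
    simp only [proj, mul_smul_comm, smul_mul_assoc, Finset.mul_sum, Finset.sum_mul, hτ]
  have := tr_conj hg e
  rw [tr_mlt h, tr_mlt h', Nat.cast_inj] at this
  exact this

theorem sum_mlt_proj {X : Type*} [AddCommGroup X] [Fintype X] {R : Multiplicative W →* Module.End ℂ V}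
    (S : Multiplicative X →* Module.End ℂ V) (θ : AddChar X ℂ) (h : Inv R (proj S θ)) :
    ∑ β, mlt R (proj S θ) β = mlt S 1 θ := by
  have e := sum_mlt h
  rw [tr_proj] at e
  exact_mod_cast e

end General

variable {K : Type*} [Field K] [Fintype K] [CharP K 3]
variable {V : Type*} [AddCommGroup V] [Module ℂ V] [FiniteDimensional ℂ V]
variable (σ : ↥(chevG2.group K) →* Module.End ℂ V)

theorem nine_le (h3 : 3 < Fintype.card K) : 9 ≤ Fintype.card K := by
  obtain ⟨n, hp, hn⟩ := FiniteField.card K 3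
  rw [hn] at h3 ⊢
  have h2 : 2 ≤ (n : ℕ) := by
    by_contra hlt
    have h1 : (n : ℕ) = 1 := by have := n.pos; omega
    rw [h1] at h3
    norm_num at h3
  calc 9 = 3 ^ 2 := rfl
    _ ≤ 3 ^ (n : ℕ) := Nat.pow_le_pow_right (by norm_num) h2

/-- The value on the generic characters. -/
theorem N4_torus {η lam η₁ lam₁ : AddChar K ℂ} (hη₁ : η₁ ≠ 1) (hl₁ : lam₁ ≠ 1) (hη : η ≠ 1) (hl : lam ≠ 1) :
    N4 σ 1 η 1 lam = N4 σ 1 η₁ 1 lam₁ := by
  obtain ⟨p, hp⟩ := shift_surjective hη₁ η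
  obtain ⟨w, hw⟩ := shift_surjective hl₁ lam
  have hp0 : p ≠ 0 := fun e => hη (DFunLike.ext _ _ fun v => by rw [← hp, e, zero_mul]; simp)
  have hw0 : w ≠ 0 := fun e => hl (DFunLike.ext _ _ fun v => by rw [← hw, e, zero_mul]; simp)
  exact N4_tor σ (Units.mk0 p hp0) (Units.mk0 w hw0) (fun t => rfl) hp (fun t => rfl) hw

theorem N4_torus' {η η₁ : AddChar K ℂ} (hη₁ : η₁ ≠ 1) (hη : η ≠ 1) : N4 σ 1 η 1 1 = N4 σ 1 η₁ 1 1 := by
  obtain ⟨p, hp⟩ := shift_surjective hη₁ η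
  have hp0 : p ≠ 0 := fun e => hη (DFunLike.ext _ _ fun v => by rw [← hp, e, zero_mul]; simp)
  exact N4_tor σ (Units.mk0 p hp0) 1 (fun t => rfl) hp (fun t => rfl) (fun t => by simp)

/-- The multiplicities that are constant. -/
structure Unif (c d : ℕ) : Prop where
  main : ∀ ξ η δ lam, (η ≠ 1 ∧ (δ ≠ 1 ∨ lam ≠ 1)) ∨ (ξ ≠ 1 ∧ lam ≠ 1) → N4 σ ξ η δ lam = c
  side : ∀ ξ η, η ≠ 1 → N4 σ ξ η 1 1 = d

theorem exists_unif : ∃ c d, Unif σ c d := by
  classical
  haveI : Nontrivial (AddChar K ℂ) := Fintype.one_lt_card_iff_nontrivial.1 (by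
    rw [card_chars]; exact Fintype.one_lt_card)
  obtain ⟨η₁, hη₁⟩ := exists_ne (1 : AddChar K ℂ)
  have hq : 0 < Fintype.card (AddChar K ℂ) := Fintype.card_pos
  have h1 : ∀ ξ η δ lam, η ≠ 1 → lam ≠ 1 → N4 σ ξ η δ lam = N4 σ 1 η₁ 1 η₁ := fun ξ η δ lam hη hl => by
    rw [N4_seven σ hη, N4_six σ hl, N4_torus σ hη₁ hη₁ hη hl]
  refine ⟨N4 σ 1 η₁ 1 η₁, N4 σ 1 η₁ 1 1, ?_, fun ξ η hη => by rw [N4_seven σ hη, N4_torus' σ hη₁ hη]⟩
  intro ξ η δ lam h
  rcases eq_or_ne lam 1 with rfl | hl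
  · have hη : η ≠ 1 := (h.resolve_right fun e => e.2 rfl).1
    have hd : δ ≠ 1 := (h.resolve_right fun e => e.2 rfl).2.resolve_right fun e => e rfl
    have e := sum_n1 σ η δ 1
    rw [inv_one, Finset.sum_congr rfl fun ξ' _ => N4_seven σ hη ξ' δ 1,
      Finset.sum_congr rfl fun ξ' _ => h1 ξ' η 1 δ hη hd, Finset.sum_const, Finset.sum_const, smul_eq_mul,
      smul_eq_mul, Finset.card_univ] at e
    rw [N4_seven σ hη]
    exact Nat.eq_of_mul_eq_mul_left hq e
  · rcases eq_or_ne η 1 with rfl | hη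
    · have hξ : ξ ≠ 1 := (h.resolve_left fun e => e.1 rfl).1
      have e := sum_n0 σ ξ 1 lam
      rw [inv_one, Finset.sum_congr rfl fun δ' _ => N4_six σ hl ξ 1 δ',
        Finset.sum_congr rfl fun δ' _ => h1 1 ξ δ' lam hξ hl, Finset.sum_const, Finset.sum_const, smul_eq_mul,
        smul_eq_mul, Finset.card_univ] at e
      rw [N4_six σ hl]
      exact Nat.eq_of_mul_eq_mul_left hq e
    · exact h1 ξ η δ lam hη hl

/-- The part where the first two components are trivial. -/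
noncomputable def low4 : ℕ := ∑ δ, ∑ lam, N4 σ 1 1 δ lam

theorem sum_split_one {ι : Type*} [Fintype ι] [DecidableEq ι] [One ι] (f : ι → ℕ) {a : ℕ}
    (h : ∀ i, i ≠ 1 → f i = a) : ∑ i, f i = f 1 + (Fintype.card ι - 1) * a := by
  rw [← Finset.add_sum_erase _ _ (Finset.mem_univ (1 : ι)),
    Finset.sum_congr rfl fun i hi => h i (Finset.ne_of_mem_erase hi), Finset.sum_const,
    Finset.card_erase_of_mem (Finset.mem_univ _), Finset.card_univ, smul_eq_mul]

theorem sum_delta {c d : ℕ} (Hu : Unif σ c d) {ξ : AddChar K ℂ} (hξ : ξ ≠ 1) :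
    ∑ δ, N4 σ ξ 1 δ 1 = d + (Fintype.card K - 1) * c := by
  classical
  rw [sum_n0, inv_one, sum_split_one _ (fun δ hδ => Hu.main 1 ξ δ 1 (Or.inl ⟨hξ, Or.inl hδ⟩)), Hu.side 1 ξ hξ,
    card_chars]

/-- The degree. -/
theorem finrank_eq {c d : ℕ} (Hu : Unif σ c d) : Module.finrank ℂ V =
    (Fintype.card K ^ 2 - 1) * ((Fintype.card K ^ 2 - 1) * c + d) + low4 σ := by
  classical
  obtain ⟨q, hq⟩ : ∃ q, q = Fintype.card K := ⟨_, rfl⟩
  have hcq : Fintype.card (AddChar K ℂ) = q := by rw [card_chars, hq]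
  have hq1 : 1 ≤ q := hq ▸ Fintype.card_pos
  obtain ⟨S, hS⟩ : ∃ S : AddChar K ℂ → AddChar K ℂ → ℕ, S = fun ξ η => ∑ δ, ∑ lam, N4 σ ξ η δ lam := ⟨_, rfl⟩
  have htot : Module.finrank ℂ V = ∑ ξ, ∑ η, S ξ η := by
    rw [← sum_mlt_one (R := R4 σ), ← Equiv.sum_comp (Equiv.ofBijective _ mk_bijective), Fintype.sum_prod_type, hS]
    refine Finset.sum_congr rfl fun ξ _ => ?_
    rw [← Equiv.sum_comp (Equiv.ofBijective _ mk_bijective), Fintype.sum_prod_type]
    refine Finset.sum_congr rfl fun η _ => ?_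
    rw [← Equiv.sum_comp (Equiv.ofBijective _ mk_bijective), Fintype.sum_prod_type]
    rfl
  have h1 : ∀ ξ η, η ≠ 1 → S ξ η = (q ^ 2 - 1) * c + d := fun ξ η hη => by
    rw [hS]
    simp only
    rw [← Finset.add_sum_erase _ _ (Finset.mem_univ (1 : AddChar K ℂ)),
      sum_split_one (fun lam => N4 σ ξ η 1 lam) (fun lam hl => Hu.main ξ η 1 lam (Or.inl ⟨hη, Or.inr hl⟩)),
      Hu.side ξ η hη,
      Finset.sum_congr rfl fun δ hδ => Finset.sum_congr rfl fun lam _ =>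
        Hu.main ξ η δ lam (Or.inl ⟨hη, Or.inl (Finset.ne_of_mem_erase hδ)⟩)]
    simp only [Finset.sum_const, Finset.card_erase_of_mem (Finset.mem_univ _), Finset.card_univ, smul_eq_mul, hcq]
    obtain ⟨j, rfl⟩ : ∃ j, q = j + 1 := ⟨q - 1, by omega⟩
    rw [Nat.add_sub_cancel, show (j + 1) ^ 2 - 1 = j + j * (j + 1) from by
      rw [show (j + 1) ^ 2 = j + j * (j + 1) + 1 by ring, Nat.add_sub_cancel]]
    ring
  have h2 : ∀ ξ, ξ ≠ 1 → S ξ 1 = (q ^ 2 - 1) * c + d := fun ξ hξ => by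
    rw [hS]
    simp only
    rw [Finset.sum_comm, ← Finset.add_sum_erase _ _ (Finset.mem_univ (1 : AddChar K ℂ)), sum_delta σ Hu hξ,
      Finset.sum_congr rfl fun lam hl => Finset.sum_congr rfl fun δ _ =>
        Hu.main ξ 1 δ lam (Or.inr ⟨hξ, Finset.ne_of_mem_erase hl⟩)]
    simp only [Finset.sum_const, Finset.card_erase_of_mem (Finset.mem_univ _), Finset.card_univ, smul_eq_mul, hcq, ← hq]
    obtain ⟨j, rfl⟩ : ∃ j, q = j + 1 := ⟨q - 1, by omega⟩
    rw [Nat.add_sub_cancel, show (j + 1) ^ 2 - 1 = j + j * (j + 1) from by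
      rw [show (j + 1) ^ 2 = j + j * (j + 1) + 1 by ring, Nat.add_sub_cancel]]
    ring
  have h3 : S 1 1 = low4 σ := by rw [hS]; rfl
  rw [htot, ← Finset.add_sum_erase _ _ (Finset.mem_univ (1 : AddChar K ℂ)), sum_split_one _ (fun η hη => h1 1 η hη),
    Finset.sum_congr rfl fun ξ hξ => (sum_split_one (fun η => S ξ η) (fun η hη => h1 ξ η hη)).trans
      (by rw [h2 ξ (Finset.ne_of_mem_erase hξ)]), h3, ← hq]
  simp only [Finset.sum_const, Finset.card_erase_of_mem (Finset.mem_univ _), Finset.card_univ, smul_eq_mul, hcq]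
  obtain ⟨j, rfl⟩ : ∃ j, q = j + 1 := ⟨q - 1, by omega⟩
  generalize ((j + 1) ^ 2 - 1) * c + d = e
  rw [Nat.add_sub_cancel, show (j + 1) ^ 2 - 1 = j + j * (j + 1) from by
    rw [show (j + 1) ^ 2 = j + j * (j + 1) + 1 by ring, Nat.add_sub_cancel]]
  ring

theorem RF_inv (ξ η δ : AddChar K ℂ) : Inv (RF σ) (proj (R4 σ) (ch ξ η δ 1)) := by
  refine proj_inv _ _ _ fun a => ?_
  let τ : K × (K × (K × K)) ≃ K × (K × (K × K)) :=
    { toFun := fun p => (p.1, (p.2.1, (p.2.2.1, p.2.2.2 + a * p.2.2.1)))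
      invFun := fun p => (p.1, (p.2.1, (p.2.2.1, p.2.2.2 - a * p.2.2.1)))
      left_inv := fun p => by simp
      right_inv := fun p => by simp }
  rw [RF_apply]
  exact commute_proj (R4 σ) (sigma_inv_mul σ (x 6 a)) τ (fun p => by
    rw [R4_apply, R4_apply, ← map_mul, ← map_mul, x6_eR a p.1 p.2.1 p.2.2.1 p.2.2.2]; rfl) _ fun p => by simp [τ, ch]

theorem seven_fix (u : K) (ξ δ lam : AddChar K ℂ) :
    σ (x 7 u) * proj (R4 σ) (ch ξ 1 δ lam) * σ (x 7 u)⁻¹ = proj (R4 σ) (ch ξ 1 δ lam) := by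
  let τ : K × (K × (K × K)) ≃ K × (K × (K × K)) :=
    { toFun := fun p => (p.1, (p.2.1 + p.1 * u, p.2.2))
      invFun := fun p => (p.1, (p.2.1 - p.1 * u, p.2.2))
      left_inv := fun p => by simp
      right_inv := fun p => by simp }
  exact move4 σ (x 7 u) τ (fun p => x7_eR u p.1 p.2.1 p.2.2.1 p.2.2.2) fun p => by simp [τ, ch]

theorem x7_x6 (t u : K) : x 7 u * x 6 t * (x 7 u)⁻¹ =
    x 6 t * eR (.ofAdd (-(t * u), (-(2 * t * u ^ 2), (t * u ^ 3, -(2 * t ^ 2 * u ^ 3))))) := by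
  rw [x_conj (l := [(8, 1, 1, 1), (9, 1, 1, 2), (10, -1, 1, 3), (11, -2, 2, 3)]) (by decide +kernel)]
  congr 1
  have e : (List.map (fun c => x c.1 ((c.2.1 : K) * (-t) ^ c.2.2.1 * u ^ c.2.2.2))
      ([(8, 1, 1, 1), (9, 1, 1, 2), (10, -1, 1, 3), (11, -2, 2, 3)] : List (ℕ × ℤ × ℕ × ℕ))).prod =
      eR (.ofAdd (-(t * u), (-(t * u ^ 2), (t * u ^ 3, -(2 * t ^ 2 * u ^ 3))))) := by
    simp only [List.map_cons, List.map_nil, List.prod_cons, List.prod_nil, eR_apply, eE_apply]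
    simp [mul_assoc]
  rw [e, x7_eR]
  congr 6
  ring

/-- The joint multiplicities. -/
noncomputable def G (ξ δ β : AddChar K ℂ) : ℕ := mlt (RF σ) (proj (R4 σ) (ch ξ 1 δ 1)) β

theorem G_row (ξ δ : AddChar K ℂ) : ∑ β, G σ ξ δ β = N4 σ ξ 1 δ 1 :=
  sum_mlt_proj (R4 σ) _ (RF_inv σ ξ 1 δ)

/-- The short simple root group shifts the rows. -/
theorem G_shift (u : K) (ξ δ : AddChar K ℂ) (χ : AddChar K ℂ) (hχ : ∀ t, χ t = ξ (-(t * u)) * δ (t * u ^ 3))
    (β : AddChar K ℂ) : G σ ξ δ β = G σ ξ δ (β * χ⁻¹) := by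
  refine mlt_shift (RF_inv σ ξ 1 δ) (sigma_inv_mul σ (x 7 u)) (seven_fix σ u ξ δ 1) χ (fun t => ?_) β
  rw [RF_apply, ← map_mul, ← map_mul, x7_x6, map_mul, mul_assoc, ← R4_apply, R_mul_proj, mul_smul_comm, hχ]
  simp [ch]

theorem RS_RF_inv (ξ η : AddChar K ℂ) : Inv (RF σ) (proj (RS σ) (mk ξ (mk η 1))) := by
  refine ⟨proj_mul_self _ _, fun a => ?_⟩
  rw [proj_RS]
  exact Commute.sum_right _ _ _ fun δ _ => (RF_inv σ ξ η δ).2 a

/-- A column, by the short simple reflection. -/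
theorem G_col (ξ β : AddChar K ℂ) : ∑ δ, G σ ξ δ β = N4 σ 1 ξ β 1 := by
  rw [← R10_prod σ β 1 ξ 1]
  simp only [G]
  rw [← mlt_sum_right (RF σ) (fun δ => proj (R4 σ) (ch ξ 1 δ 1)) _ (fun δ => RF_inv σ ξ 1 δ) (RS_RF_inv σ ξ 1)
    (proj_RS σ ξ 1 1).symm]
  let τ : K × (K × K) ≃ K × (K × K) :=
    { toFun := fun p => (-p.2.1, (p.1, p.2.2))
      invFun := fun p => (p.2.1, (-p.1, p.2.2))
      left_inv := fun p => by simp
      right_inv := fun p => by simp }
  refine mlt_conj_pair (RS_RF_inv σ ξ 1) ?_ (sigma_inv_mul σ (n 0)) (fun a => ?_) ?_ β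
  · refine proj_inv _ _ _ fun d => ?_
    rw [R10_apply]
    have hc : ∀ v t z : K, x 10 d * eS (.ofAdd (v, (t, z))) * (x 10 d)⁻¹ = eS (.ofAdd (v, (t, z))) := by
      intro v t z
      refine fix_of_comm ?_
      rw [eS_apply, eR_apply, eE_apply, x_zero, mul_one]
      exact (x_comm (by decide +kernel) _ _).mul_right
        ((x_comm (by decide +kernel) _ _).mul_right (x_comm (by decide +kernel) _ _))
    exact commute_proj (RS σ) (sigma_inv_mul σ (x 10 d)) (Equiv.refl _) (fun p => by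
      obtain ⟨v, t, z⟩ := p
      rw [RS_apply, ← map_mul, ← map_mul, hc]
      exact (RS_apply σ (v, (t, z))).symm) _ fun p => rfl
  · rw [RF_apply, ← map_mul, ← map_mul, n_conj (k := 10) (e := 1) (by decide +kernel), Int.cast_one, one_mul]
    exact (R10_apply σ a).symm
  · refine conj_proj (RS σ) τ (fun p => ?_) _ _ fun p => by simp [τ]
    rw [RS_apply, RS_apply, ← map_mul, ← map_mul]
    exact congrArg σ (n0_eS p.1 p.2.1 p.2.2)

/-- The torus permutes the rows of a fixed first component. -/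
theorem G_tor (e : Kˣ) {ξ δ δ' β β' : AddChar K ℂ} (hδ : ∀ t, δ' ((e : K) ^ 2 * t) = δ t)
    (hβ : ∀ t, β' ((e : K)⁻¹ * t) = β t) : G σ ξ δ β = G σ ξ δ' β' := by
  refine mlt_conj (RF_inv σ ξ 1 δ) (RF_inv σ ξ 1 δ') (sigma_inv_mul σ (tor e e))
    (Equiv.mulLeft₀ _ (inv_ne_zero e.ne_zero)) (fun a => ?_) ?_ fun a => by simp [← hβ]
  · rw [RF_apply, RF_apply, ← map_mul, ← map_mul, tor6]
    congr 2
    show _ = (e : K)⁻¹ * a
    field_simp
  · refine move4 σ (tor e e) ((Equiv.mulLeft₀ _ (div_ne_zero e.ne_zero e.ne_zero)).prodCongr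
      ((Equiv.mulLeft₀ _ e.ne_zero).prodCongr ((Equiv.mulLeft₀ _ (div_ne_zero (pow_ne_zero 3 e.ne_zero) e.ne_zero)).prodCongr
        (Equiv.mulLeft₀ _ e.ne_zero)))) (fun p => tor_eR e e p.1 p.2.1 p.2.2.1 p.2.2.2) fun p => ?_
    have h1 : ∀ t, δ' ((e : K) ^ 3 / (e : K) * t) = δ t := fun t => by
      rw [← hδ]; congr 1; field_simp
    simp [ch, ← h1, div_self e.ne_zero]

/-- The values of a cubic have small fibres. -/
theorem card_fibre_le (a b : K) (hb : b ≠ 0) (s : K) [DecidableEq K] :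
    ((Finset.univ : Finset K).filter fun u => a * u + b * u ^ 3 = s).card ≤ 3 := by
  obtain ⟨P, hP⟩ : ∃ P : Polynomial K, P = Polynomial.C b * Polynomial.X ^ 3 + Polynomial.C a * Polynomial.X -
      Polynomial.C s := ⟨_, rfl⟩
  have h3 : P.coeff 3 = b := by
    rw [hP]; simp [Polynomial.coeff_X, Polynomial.coeff_C]
  have hne : P ≠ 0 := fun h => hb (by rw [← h3, h, Polynomial.coeff_zero])
  have hdeg : P.natDegree ≤ 3 := by rw [hP]; compute_degree
  refine le_trans ?_ ((Polynomial.card_roots' P).trans hdeg)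
  refine le_trans (Finset.card_le_card fun u hu => ?_) (Multiset.toFinset_card_le _)
  rw [Finset.mem_filter] at hu
  rw [Multiset.mem_toFinset, Polynomial.mem_roots hne]
  simp only [hP, Polynomial.IsRoot, Polynomial.eval_sub, Polynomial.eval_add, Polynomial.eval_mul, Polynomial.eval_C,
    Polynomial.eval_pow, Polynomial.eval_X]
  linear_combination hu.2

end Cfsg.Lib.Chev.G2Deg
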