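import Cfsg.Agent.Lib.Chev.G2Degree.ThreeCases

/-!
# The common fixed space of the radical in characteristic three
-/

set_option autoImplicit false
set_option maxRecDepth 100000
set_option linter.unusedSectionVars false

namespace Cfsg.Lib.Chev.G2Deg

open Cfsg.Lie Cfsg.Lib.Linear.MinDegree Cfsg.Lib.Chev.TriDeg

variable {K : Type*} [Field K] [Fintype K] [CharP K 3]
variable {V : Type*} [AddCommGroup V] [Module ℂ V] [FiniteDimensional ℂ V]
variable (σ : ↥(chevG2.group K) →* Module.End ℂ V)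

local notation "tr" => LinearMap.trace ℂ V

/-- The representation of the root group `7`. -/
noncomputable def R7 : Multiplicative K →* Module.End ℂ V where
  toFun t := σ (x 7 t.toAdd)
  map_one' := by rw [toAdd_one, x_zero, map_one]
  map_mul' s t := by rw [toAdd_mul, ← x_add, map_mul]

/-- The representation of the root group `8`. -/
noncomputable def R8 : Multiplicative K →* Module.End ℂ V :=
  (R4 σ).comp (AddMonoidHom.toMultiplicative (AddMonoidHom.inl K (K × (K × K))))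

theorem R7_apply (t : K) : R7 σ (.ofAdd t) = σ (x 7 t) := rfl

theorem R8_apply (t : K) : R8 σ (.ofAdd t) = σ (x 8 t) := by
  show R4 σ (.ofAdd (t, ((0 : K), ((0 : K), (0 : K))))) = _
  rw [R4_apply, eR_apply, eE_apply, x_zero, x_zero, x_zero, one_mul, one_mul, mul_one]

theorem seven_comm (u : K) (ξ δ lam : AddChar K ℂ) :
    σ (x 7 u) * proj (R4 σ) (ch ξ 1 δ lam) = proj (R4 σ) (ch ξ 1 δ lam) * σ (x 7 u) := by
  conv_rhs => rw [← seven_fix σ u ξ δ lam]
  rw [mul_assoc, sigma_inv_mul, mul_one]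

theorem R7_inv4 (ξ δ : AddChar K ℂ) : Inv (R7 σ) (proj (R4 σ) (ch ξ 1 δ 1)) :=
  proj_inv _ _ _ fun u => seven_comm σ u ξ δ 1

theorem R7_inv3 (θ : AddChar (K × (K × K)) ℂ) : Inv (R7 σ) (proj (R3 σ) θ) :=
  proj_inv _ _ _ fun u =>
    commute_proj (R3 σ) (sigma_inv_mul σ (x 7 u)) (Equiv.refl _) (fun p => by
      obtain ⟨t, d, z⟩ := p
      rw [R3_apply, ← map_mul, ← map_mul, x7_conj, three_eq_zero, zero_mul, zero_mul, add_zero]
      exact (R3_apply σ _).symm) θ fun p => rfl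

theorem R8_inv3 (θ : AddChar (K × (K × K)) ℂ) : Inv (R8 σ) (proj (R3 σ) θ) := by
  refine ⟨proj_mul_self _ _, fun v => (proj_commute (fun b => ?_) θ).symm⟩
  rw [R3_eq_R4, show R8 σ (.ofAdd v) = R4 σ (.ofAdd (v, 0)) from rfl]
  exact (Commute.all _ _).map (R4 σ)

theorem x6_x7 (t a : K) : x 6 a * x 7 t * (x 6 a)⁻¹ = x 7 t *
    eR (.ofAdd (t * a, (t ^ 2 * a, (-(t ^ 3 * a), -(t ^ 3 * a ^ 2) + a * -(t ^ 3 * a))))) := by
  rw [x_conj (l := [(8, -1, 1, 1), (9, 1, 2, 1), (10, 1, 3, 1), (11, 1, 3, 2)]) (by decide +kernel)]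
  congr 1
  have e : (List.map (fun c => x c.1 ((c.2.1 : K) * (-t) ^ c.2.2.1 * a ^ c.2.2.2))
      ([(8, -1, 1, 1), (9, 1, 2, 1), (10, 1, 3, 1), (11, 1, 3, 2)] : List (ℕ × ℤ × ℕ × ℕ))).prod =
      eR (.ofAdd (t * a, (t ^ 2 * a, (-(t ^ 3 * a), -(t ^ 3 * a ^ 2))))) := by
    simp only [List.map_cons, List.map_nil, List.prod_cons, List.prod_nil, eR_apply, eE_apply]
    have h3 : (-t) ^ 3 = -(t ^ 3) := by ring
    simp [mul_assoc, h3]
  rw [e, x6_eR]

/-- The joint multiplicities of the roots `7` and `8`. -/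
noncomputable def L7 (ξ α : AddChar K ℂ) : ℕ := mlt (R7 σ) (proj (R4 σ) (ch ξ 1 1 1)) α

theorem L7_col (α : AddChar K ℂ) : ∑ ξ, L7 σ ξ α = N4 σ α 1 1 1 := by
  simp only [L7]
  rw [← mlt_sum_right (R7 σ) (fun ξ => proj (R4 σ) (ch ξ 1 1 1)) (proj (R3 σ) (mk 1 (mk 1 1)))
    (fun ξ => R7_inv4 σ ξ 1) (R7_inv3 σ _) (sum_marginal (R3 σ) (R4 σ) (R3_eq_R4 σ) _) α]
  rw [mlt_conj_pair (R7_inv3 σ _) (R8_inv3 σ (mk 1 (mk 1 1))) (sigma_inv_mul σ (n 1)) (fun t => ?_) ?_ α,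
    mlt_prod (R4 σ) (R8 σ) (R3 σ) (fun u => rfl) (R3_eq_R4 σ)]
  · rfl
  · let τ : K × (K × K) ≃ K × (K × K) :=
      { toFun := fun p => (p.1, (-p.2.2, p.2.1))
        invFun := fun p => (p.1, (p.2.2, -p.2.1))
        left_inv := fun p => by simp
        right_inv := fun p => by simp }
    exact conj_proj (R3 σ) τ (fun p => by
      rw [R3_apply, R3_apply, ← map_mul, ← map_mul]
      exact congrArg σ (n1_conj p.1 p.2.1 p.2.2)) _ _ fun p => by simp [τ]
  · rw [R7_apply, ← map_mul, ← map_mul, n_conj (k := 8) (e := 1) (by decide +kernel), Int.cast_one, one_mul,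
      R8_apply]

theorem L7_row {ξ : AddChar K ℂ} (hξ : ξ ≠ 1) (hN : N4 σ ξ 1 1 1 = Fintype.card K) (α : AddChar K ℂ) :
    L7 σ ξ α = 1 := by
  classical
  have hconst : ∀ β, L7 σ ξ β = L7 σ ξ 1 := by
    intro β
    obtain ⟨a, ha⟩ := exists_shift hξ β
    have h := mlt_shift (R := R7 σ) (R7_inv4 σ ξ 1) (sigma_inv_mul σ (x 6 a)) ?_ (ξ.mulShift a) (fun t => ?_) β
    · rw [show β * (ξ.mulShift a)⁻¹ = 1 by rw [ha, mul_inv_cancel]] at h
      exact h
    · let τ : K × (K × (K × K)) ≃ K × (K × (K × K)) :=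
        { toFun := fun p => (p.1, (p.2.1, (p.2.2.1, p.2.2.2 + a * p.2.2.1)))
          invFun := fun p => (p.1, (p.2.1, (p.2.2.1, p.2.2.2 - a * p.2.2.1)))
          left_inv := fun p => by simp
          right_inv := fun p => by simp }
      exact move4 σ (x 6 a) τ (fun p => x6_eR a p.1 p.2.1 p.2.2.1 p.2.2.2) fun p => by simp [τ, ch]
    · rw [R7_apply, ← map_mul, ← map_mul, x6_x7, map_mul, mul_assoc, ← R4_apply, R_mul_proj, mul_smul_comm]
      simp [ch, mul_comm]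
  have e := sum_mlt_proj (R := R7 σ) (R4 σ) (ch ξ 1 1 1) (R7_inv4 σ ξ 1)
  simp only [← L7.eq_def σ, ← N4.eq_def σ] at e
  rw [Finset.sum_congr rfl fun β _ => hconst β, Finset.sum_const, Finset.card_univ, card_chars, smul_eq_mul, hN] at e
  rw [hconst]
  exact (mul_eq_left₀ Fintype.card_ne_zero).1 e

theorem L7_one {α : AddChar K ℂ} (hα : α ≠ 1) (hN : ∀ ξ, ξ ≠ 1 → N4 σ ξ 1 1 1 = Fintype.card K) :
    L7 σ 1 α = 1 := by
  classical
  have e := L7_col σ α
  rw [sum_split_one (fun ξ => L7 σ ξ α) (fun ξ hξ => L7_row σ hξ (hN ξ hξ) α), hN α hα, card_chars, mul_one] at e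
  have := Fintype.card_pos (α := K)
  omega

/-- The root group `7` on a part of the fixed space of the radical. -/
theorem Q_inv (β : AddChar K ℂ) : Inv (R7 σ) (proj (RF σ) β * proj (R4 σ) (ch 1 1 1 1)) := by
  refine ⟨(RF_inv σ 1 1 1).idem β, fun u => ?_⟩
  obtain ⟨P, hP⟩ : ∃ P, P = proj (R4 σ) (ch (1 : AddChar K ℂ) 1 1 1) := ⟨_, rfl⟩
  rw [← hP]
  have h7 : R7 σ (.ofAdd u) * P = P * R7 σ (.ofAdd u) := by rw [hP]; exact seven_comm σ u 1 1 1
  have hsw : ∀ a, R7 σ (.ofAdd u) * (RF σ (.ofAdd a) * P) = RF σ (.ofAdd a) * (R7 σ (.ofAdd u) * P) := by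
    intro a
    have h1 : ∀ b, σ (eR (.ofAdd b)) * P = P := fun b => by
      rw [hP, ← R4_apply, R_mul_proj]; simp [ch]
    rw [RF_apply, R7_apply, ← mul_assoc, ← map_mul,
      show x 7 u * x 6 a = x 7 u * x 6 a * (x 7 u)⁻¹ * x 7 u by group, x7_x6, map_mul, map_mul, mul_assoc,
      ← R7_apply, h7, mul_assoc, ← mul_assoc (σ (eR _)), h1]
  show R7 σ (.ofAdd u) * (proj (RF σ) β * P) = proj (RF σ) β * P * R7 σ (.ofAdd u)
  rw [mul_assoc (proj (RF σ) β), ← h7]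
  simp only [proj.eq_def (RF σ), smul_mul_assoc, mul_smul_comm, Finset.sum_mul, Finset.mul_sum, hsw]

/-- The joint multiplicities of the roots `6` and `7`. -/
noncomputable def J (β α : AddChar K ℂ) : ℕ := mlt (R7 σ) (proj (RF σ) β * proj (R4 σ) (ch 1 1 1 1)) α

theorem J_row (β : AddChar K ℂ) : ∑ α, J σ β α = G σ 1 1 β := by
  have e := sum_mlt (R := R7 σ) (Q_inv σ β)
  rw [tr_mlt (RF_inv σ 1 1 1), Nat.cast_inj] at e
  exact e

theorem J_col (α : AddChar K ℂ) : ∑ β, J σ β α = L7 σ 1 α := by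
  simp only [J, L7]
  rw [← mlt_sum_right (R7 σ) (fun β => proj (RF σ) β * proj (R4 σ) (ch 1 1 1 1)) _ (Q_inv σ) (R7_inv4 σ 1 1)
    (by rw [← Finset.sum_mul, sum_proj, one_mul]) α]

theorem J_tor (e : Kˣ) {α α' : AddChar K ℂ} (hα : ∀ t, α' ((e : K) * t) = α t) (β : AddChar K ℂ) :
    J σ β α = J σ β α' := by
  refine mlt_conj (Q_inv σ β) (Q_inv σ β) (sigma_inv_mul σ (tor (e ^ 2) (e ^ 3))) (Equiv.mulLeft₀ _ e.ne_zero)
    (fun a => ?_) ?_ fun a => by simp [← hα]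
  · rw [R7_apply, R7_apply, ← map_mul, ← map_mul, tor7]
    congr 2
    show _ = (e : K) * a
    rw [Units.val_pow_eq_pow_val, Units.val_pow_eq_pow_val]
    field_simp
  · rw [conj_mul' (sigma_inv_mul σ _)]
    congr 1
    · refine conj_proj (RF σ) (Equiv.refl K) (fun a => ?_) _ _ fun a => rfl
      rw [RF_apply, ← map_mul, ← map_mul, tor6]
      refine Eq.trans ?_ (RF_apply σ a).symm
      congr 2
      rw [Units.val_pow_eq_pow_val, Units.val_pow_eq_pow_val]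
      field_simp
    · exact move4 σ (tor (e ^ 2) (e ^ 3)) ((Equiv.mulLeft₀ _ (div_ne_zero (e ^ 3).ne_zero (e ^ 2).ne_zero)).prodCongr
        ((Equiv.mulLeft₀ _ (e ^ 2).ne_zero).prodCongr
        ((Equiv.mulLeft₀ _ (div_ne_zero (pow_ne_zero 3 (e ^ 2).ne_zero) (e ^ 3).ne_zero)).prodCongr
        (Equiv.mulLeft₀ _ (e ^ 3).ne_zero)))) (fun p => tor_eR _ _ p.1 p.2.1 p.2.2.1 p.2.2.2) fun p => by simp [ch]

/-- The fixed space of the radical is at least `2 (q - 1)` dimensional. -/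
theorem fixed_ge (h3 : 3 < Fintype.card K) (hN : ∀ ξ, ξ ≠ 1 → N4 σ ξ 1 1 1 = Fintype.card K)
    (hU : ∀ δ, δ ≠ 1 → N4 σ 1 1 δ 1 = Fintype.card K) : 2 * (Fintype.card K - 1) ≤ N4 σ 1 1 1 1 := by
  classical
  obtain ⟨q, hq⟩ : ∃ q, q = Fintype.card K := ⟨_, rfl⟩
  have hcq : Fintype.card (AddChar K ℂ) = q := by rw [card_chars, hq]
  have hrow : ∀ δ, δ ≠ 1 → ∀ β, G σ 1 δ β = 1 := by
    intro δ hδ
    have hc : ∀ β, G σ 1 δ β = G σ 1 δ 1 := by
      intro β
      obtain ⟨s, hs⟩ := exists_shift hδ β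
      obtain ⟨u, hu⟩ := cube_surjective (K := K) s
      simp only at hu
      rw [G_row_shift σ (φ := δ) (a := 0) (b := 1) (AddChar.mulShift_zero δ).symm (AddChar.mulShift_one δ).symm u β,
        show β * δ.mulShift (0 * u + -1 * u ^ 3) = 1 by
          rw [show (0 : K) * u + -1 * u ^ 3 = -s by rw [← hu]; ring, ← mulShift_inv, hs, mul_inv_cancel]]
    have e := G_row σ 1 δ
    rw [Finset.sum_congr rfl fun β _ => hc β, Finset.sum_const, Finset.card_univ, card_chars, smul_eq_mul, hU δ hδ] at e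
    intro β
    rw [hc]
    exact (mul_eq_left₀ Fintype.card_ne_zero).1 e
  have hq2 : 3 < q := hq ▸ h3
  have hH : ∀ β, β ≠ 1 → G σ 1 1 β = 1 := fun β hβ => by
    have e := G_col σ 1 β
    rw [hU β hβ, sum_split_one (fun δ => G σ 1 δ β) (fun δ hδ => hrow δ hδ β), hcq, ← hq, mul_one] at e
    omega
  obtain ⟨u, hu⟩ : ∃ u : Kˣ, (u : K) ≠ 1 := by
    by_contra! h
    have h1 : (Finset.univ : Finset K) ⊆ {0, 1} := fun v _ => by
      rcases eq_or_ne v 0 with rfl | hv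
      · simp
      · simp [show v = 1 from h (Units.mk0 v hv)]
    have h2 := (Finset.card_le_card h1).trans Finset.card_le_two
    rw [Finset.card_univ] at h2
    omega
  have hJ : ∀ β α, β ≠ 1 → α ≠ 1 → J σ β α = 0 := by
    intro β α hβ hα
    by_contra hne
    have hne' : α.mulShift ((u : K)⁻¹) ≠ α := fun e => hu (by
      have := mulShift_inj hα (e.trans (AddChar.mulShift_one α).symm)
      rwa [inv_eq_one] at this)
    have h1 := J_row σ β
    rw [hH β hβ, ← Finset.add_sum_erase _ _ (Finset.mem_univ α)] at h1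
    have h2 : J σ β (α.mulShift ((u : K)⁻¹)) ≤ ∑ γ ∈ (Finset.univ : Finset (AddChar K ℂ)).erase α, J σ β γ :=
      Finset.single_le_sum (f := fun γ => J σ β γ) (fun _ _ => Nat.zero_le _) (by simp [hne'])
    rw [← J_tor σ u (α := α) (fun t => by rw [AddChar.mulShift_apply, inv_mul_cancel_left₀ u.ne_zero]) β] at h2
    omega
  have hJ1 : ∀ α, α ≠ 1 → J σ 1 α = 1 := fun α hα => by
    have e := J_col σ α
    rwa [L7_one σ hα hN, sum_split_one (fun β => J σ β α) (fun β hβ => hJ β α hβ hα), mul_zero, add_zero] at e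
  rw [← G_row, sum_split_one (fun β => G σ 1 1 β) hH, ← J_row, sum_split_one (fun α => J σ 1 α) hJ1, hcq, ← hq]
  omega

end Cfsg.Lib.Chev.G2Deg
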